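/-
The facts about a quadratic offender that are read off from its natural `SL₂(q)`: fixed space and commutator
space of order `q`, the splitting by the central involution, the torus, and for `p = 3` the quaternion
elements attached to each nontrivial element of the offender.
-/
import Cfsg.Agent.Lib.FFEmbedded.PMinimalPair

set_option autoImplicit false
set_option linter.unusedSectionVars false
set_option linter.style.haveILetI false
set_option maxHeartbeats 1000000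

namespace Cfsg.Agent.T3

open Cfsg.Agent.FFEmb
open scoped MatrixGroups

section basics

variable {H : Type*} [Group H] {V : Type*} [AddCommGroup V] [DistribMulAction H V]

/-- The subgroup spanned by all displacements. -/
def mv (V : Type*) [AddCommGroup V] [DistribMulAction H V] (A : Subgroup H) : AddSubgroup V :=
  AddSubgroup.closure {u | ∃ a ∈ A, ∃ v : V, u = a • v - v}

theorem sub_mem_mv {A : Subgroup H} {a : H} (ha : a ∈ A) (v : V) : a • v - v ∈ mv V A :=
  AddSubgroup.subset_closure ⟨a, ha, v, rfl⟩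

theorem mv_le {A : Subgroup H} {W : AddSubgroup V} (h : ∀ a ∈ A, ∀ v : V, a • v - v ∈ W) : mv V A ≤ W :=
  (AddSubgroup.closure_le W).2 (by rintro _ ⟨a, ha, v, rfl⟩; exact h a ha v)

theorem mv_mono {A B : Subgroup H} (h : A ≤ B) : mv V A ≤ mv V B := mv_le fun _ ha v => sub_mem_mv (h ha) v

end basics

variable {H : Type*} [Group H] {V : Type*} [AddCommGroup V] [DistribMulAction H V]

/-- An offender which sits in a natural `SL₂(q)`. -/
structure NatOff (V : Type*) [AddCommGroup V] [DistribMulAction H V] (A : Subgroup H) : Prop where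
  ne : A ≠ ⊥
  comm : ∀ a ∈ A, ∀ b ∈ A, a * b = b * a
  quad : ∀ a ∈ A, ∀ v : V, a • v - v ∈ fx V A
  card : Nat.card V = Nat.card A * Nat.card (fx V A)
  fix_eq : ∀ a ∈ A, a ≠ 1 → ∀ v : V, a • v = v → v ∈ fx V A
  card_mv : Nat.card (mv V A) = Nat.card A
  surj : ∀ a ∈ A, a ≠ 1 → ∀ u ∈ mv V A, ∃ v : V, a • v - v = u

/-- An offender together with a natural `SL₂(q)` containing it. -/
structure Pair (V : Type*) [AddCommGroup V] [DistribMulAction H V] (A L : Subgroup H) : Prop where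
  le : A ≤ L
  nat : NatOff V A
  card_N : Nat.card (mv V L) = Nat.card A ^ 2
  decomp : ∀ v : V, ∃ n ∈ mv V L, ∃ f ∈ fx V L, n + f = v
  disj : ∀ v, v ∈ mv V L → v ∈ fx V L → v = 0
  inter : mv V L ⊓ fx V A = mv V A

/-- The quaternion element attached to `a`. -/
structure Weyl (M L : Subgroup H) (t z a w : H) : Prop where
  mem : w ∈ L
  not_mem : w ∉ M
  sq : w * w = z
  conj_t : w * t * w⁻¹ = t⁻¹
  za : z * a = a * z
  zw : z * w = w * z
  rel : w * (a * w * a⁻¹) = z * (a⁻¹ * w * a)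
  cube : a * a * a = 1

/-- The torus and the quaternion elements. -/
structure Kit (p : ℕ) (V : Type*) [AddCommGroup V] [DistribMulAction H V] (M A L : Subgroup H) (t z : H) : Prop where
  pair : Pair V A L
  tL : t ∈ L
  zt : z ∈ Subgroup.zpowers t
  cop : (orderOf t).Coprime p
  tA : ∀ a ∈ A, t * a * t⁻¹ ∈ A
  tA' : ∀ a ∈ A, t⁻¹ * a * t ∈ A
  orb : ∀ a ∈ A, ∀ b ∈ A, ∀ c ∈ A, a ≠ 1 → b ≠ 1 → c ≠ 1 →
    ∃ n : ℤ, t ^ n * a * (t ^ n)⁻¹ = b ∨ t ^ n * a * (t ^ n)⁻¹ = c ∨ t ^ n * b * (t ^ n)⁻¹ = c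
  weyl : p = 3 → ∀ a ∈ A, a ≠ 1 → ∃ w, Weyl M L t z a w
  neg : ∀ n ∈ mv V L, z • n = -n

section halve

variable {p : ℕ} [hp : Fact p.Prime]

theorem exists_half (hp2 : p ≠ 2) {W : Type*} [AddCommGroup W] (hW : ∀ v : W, ∃ k : ℕ, p ^ k • v = 0) (v : W) :
    ∃ u : W, u + u = v := by
  obtain ⟨k, hk⟩ := hW v
  obtain ⟨m, hm⟩ : Even (p ^ k + 1) := ((hp.out.odd_of_ne_two hp2).pow).add_one
  refine ⟨m • v, ?_⟩
  rw [← add_smul, ← hm, add_smul, hk, one_smul, zero_add]

theorem eq_zero_of_double (hp2 : p ≠ 2) {W : Type*} [AddCommGroup W] (hW : ∀ v : W, ∃ k : ℕ, p ^ k • v = 0)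
    {v : W} (h : v + v = 0) : v = 0 := by
  obtain ⟨k, hk⟩ := hW v
  obtain ⟨m, hm⟩ : Even (p ^ k + 1) := ((hp.out.odd_of_ne_two hp2).pow).add_one
  calc v = (p ^ k + 1) • v := by rw [add_smul, hk, one_smul, zero_add]
    _ = m • (v + v) := by rw [hm, add_smul, smul_add]
    _ = 0 := by rw [h, smul_zero]

end halve

section coords

variable {K : Type*} [Field K]

/-- Upper triangular unipotent. -/
def mU (s : K) : SL(2, K) := ⟨!![1, s; 0, 1], by simp [Matrix.det_fin_two_of]⟩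

/-- The torus. -/
def mT (s : Kˣ) : SL(2, K) := ⟨!![(s : K), 0; 0, ((s⁻¹ : Kˣ) : K)], by simp [Matrix.det_fin_two_of]⟩

/-- A quaternion element. -/
def mW (s : Kˣ) : SL(2, K) := ⟨!![0, (s : K); -((s⁻¹ : Kˣ) : K), 0], by simp [Matrix.det_fin_two_of]⟩

theorem coe_mU (s : K) : (mU s : Matrix (Fin 2) (Fin 2) K) = !![1, s; 0, 1] := rfl
theorem coe_mT (s : Kˣ) : (mT s : Matrix (Fin 2) (Fin 2) K) = !![(s : K), 0; 0, ((s⁻¹ : Kˣ) : K)] := rfl
theorem coe_mW (s : Kˣ) : (mW s : Matrix (Fin 2) (Fin 2) K) = !![0, (s : K); -((s⁻¹ : Kˣ) : K), 0] := rfl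

theorem mT_mul (s r : Kˣ) : mT s * mT r = mT (s * r) := by
  ext i j
  fin_cases i <;> fin_cases j <;> simp [coe_mT, Matrix.mul_apply, Fin.sum_univ_two, mul_comm]

theorem mT_one : mT (1 : Kˣ) = 1 := by
  ext i j
  fin_cases i <;> fin_cases j <;> simp [coe_mT]

/-- The torus as a homomorphism. -/
def mTHom : Kˣ →* SL(2, K) where
  toFun := mT
  map_one' := mT_one
  map_mul' s r := (mT_mul s r).symm

theorem mU_mul (s r : K) : mU s * mU r = mU (s + r) := by
  ext i j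
  fin_cases i <;> fin_cases j <;> simp [coe_mU, Matrix.mul_apply, Fin.sum_univ_two, add_comm]

theorem mU_inv (s : K) : (mU s)⁻¹ = mU (-s) := by
  refine inv_eq_of_mul_eq_one_right ?_
  rw [mU_mul, add_neg_cancel]
  ext i j
  fin_cases i <;> fin_cases j <;> simp [coe_mU]

theorem mT_conj_mU (s : Kˣ) (r : K) : mT s * mU r * (mT s)⁻¹ = mU ((s : K) * s * r) := by
  rw [mul_inv_eq_iff_eq_mul]
  ext i j
  fin_cases i <;> fin_cases j <;> simp [coe_mT, coe_mU, Matrix.mul_apply, Fin.sum_univ_two]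
  field_simp

theorem mW_conj_mT (s r : Kˣ) : mW s * mT r * (mW s)⁻¹ = mT r⁻¹ := by
  rw [mul_inv_eq_iff_eq_mul]
  ext i j
  fin_cases i <;> fin_cases j <;> simp [coe_mT, coe_mW, Matrix.mul_apply, Fin.sum_univ_two, mul_comm]

theorem mW_sq (s : Kˣ) : mW s * mW s = mT (-1 : Kˣ) := by
  ext i j
  fin_cases i <;> fin_cases j <;> simp [coe_mT, coe_mW, Matrix.mul_apply, Fin.sum_univ_two]

theorem mT_neg_central (g : SL(2, K)) : mT (-1 : Kˣ) * g = g * mT (-1 : Kˣ) := by
  ext i j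
  fin_cases i <;> fin_cases j <;> simp [coe_mT, Matrix.mul_apply, Fin.sum_univ_two]

theorem mW_rel (h3 : (3 : K) = 0) (s : Kˣ) :
    mW s * (mU (s : K) * mW s * (mU (s : K))⁻¹) =
      mT (-1 : Kˣ) * ((mU (s : K))⁻¹ * mW s * mU (s : K)) := by
  rw [mU_inv]
  ext i j
  have hs : (s : K) * (s : K)⁻¹ = 1 := mul_inv_cancel₀ s.ne_zero
  fin_cases i <;> fin_cases j <;>
    simp [coe_mT, coe_mW, coe_mU, Matrix.mul_apply, Fin.sum_univ_two] <;> grind

theorem mW_conj_mU (s : Kˣ) : ((mW s * mU (s : K) * (mW s)⁻¹ : SL(2, K)) : Matrix (Fin 2) (Fin 2) K) 1 0 ≠ 0 := by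
  rw [Matrix.SpecialLinearGroup.coe_mul, Matrix.SpecialLinearGroup.coe_mul, Matrix.SpecialLinearGroup.coe_inv]
  simp [coe_mW, coe_mU, Matrix.mul_apply, Fin.sum_univ_two, Matrix.adjugate_fin_two_of]

end coords

variable [Finite H] [Finite V] {p : ℕ} [hp : Fact p.Prime] {M A : Subgroup H} {T : Sylow p H} {z : V}

theorem kit_of_data (hd : PMinFF.Data p V M A T z) (hp2 : p ≠ 2) :
    ∃ t z₁ : H, Kit p V M A ⊤ t z₁ := by
  classical
  obtain ⟨hel, -⟩ := hd.elementary
  obtain ⟨K, _, _, ρ, ψ, hK, hψs, hψ0, hψ, hψA⟩ := hd.natural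
  have hq : ∀ a ∈ A, ρ a = mU ((ρ a).1 0 1) := by
    intro a ha
    obtain ⟨v, hv⟩ := hψs ![1, 0]
    have h1 := hψ a v
    rw [(hψA v).2 (by rw [hv]; rfl) a ha, hv] at h1
    have e0 : (ρ a).1 0 0 = 1 := by simpa [Matrix.mulVec, dotProduct, Fin.sum_univ_two] using (congrFun h1 0).symm
    have e1 : (ρ a).1 1 0 = 0 := by simpa [Matrix.mulVec, dotProduct, Fin.sum_univ_two] using (congrFun h1 1).symm
    have e2 := (ρ a).2
    rw [Matrix.det_fin_two, e0, e1, one_mul, mul_zero, sub_zero] at e2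
    ext i j
    fin_cases i <;> fin_cases j <;> simp [coe_mU, e0, e1, e2]
  let σ : A → K := fun a => (ρ (a : H)).1 0 1
  have hσ : Function.Injective σ := fun a b h => Subtype.ext (ρ.injective (by rw [hq _ a.2, hq _ b.2]; exact congrArg mU h))
  have hσb : Function.Bijective σ := (Nat.bijective_iff_injective_and_card σ).2
    ⟨hσ, by rw [Nat.card_eq_fintype_card (α := K), hK]⟩
  have hAmem : ∀ r : K, ρ.symm (mU r) ∈ A := by
    intro r
    obtain ⟨⟨a, ha⟩, hr⟩ := hσb.2 r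
    rw [← show ρ a = mU r by rw [hq a ha]; exact congrArg mU hr, MulEquiv.symm_apply_apply]
    exact ha
  have hne : ∀ a ∈ A, a ≠ 1 → (ρ a).1 0 1 ≠ 0 := by
    intro a ha ha1 h
    refine ha1 (congrArg Subtype.val (@hσ ⟨a, ha⟩ 1 ?_))
    show (ρ a).1 0 1 = (ρ 1).1 0 1
    rw [h, map_one]; simp
  obtain ⟨g, hg⟩ := IsCyclic.exists_generator (α := Kˣ)
  set t := ρ.symm (mT g) with ht
  set z₁ := ρ.symm (mT (-1 : Kˣ)) with hz₁
  have hzpow : ∀ n : ℤ, ρ (t ^ n) = mT (g ^ n) := by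
    intro n
    rw [map_zpow, ht, MulEquiv.apply_symm_apply]
    exact (map_zpow mTHom g n).symm
  have hpv : ∀ v : V, ∃ k : ℕ, p ^ k • v = 0 := hd.ppow
  have hdbl : ∀ k : K, k + k = 0 → k = 0 := by
    intro k hk
    obtain ⟨v, hv⟩ := hψs ![k, 0]
    obtain ⟨j, hj⟩ := hpv v
    refine eq_zero_of_double hp2 (W := K) (fun x => ?_) hk
    obtain ⟨u, hu⟩ := hψs ![x, 0]
    obtain ⟨i, hi⟩ := hpv u
    refine ⟨i, ?_⟩
    have h := congrArg ψ hi
    rw [map_nsmul, map_zero, hu] at h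
    simpa using congrFun h 0
  have hzψ : ∀ v : V, ψ (z₁ • v) = -ψ v := by
    intro v
    rw [hψ, hz₁, MulEquiv.apply_symm_apply]
    ext i
    fin_cases i <;> simp [coe_mT, Matrix.mulVec, dotProduct, Fin.sum_univ_two]
  have hzc : ∀ h : H, z₁ * h = h * z₁ := fun h => ρ.injective (by
    rw [map_mul, map_mul, hz₁, MulEquiv.apply_symm_apply, mT_neg_central])
  have hfix : ∀ v : V, v ∈ fx V (⊤ : Subgroup H) ↔ ψ v = 0 :=
    fun v => by rw [hψ0]; exact ⟨fun h g => h g trivial, fun h g _ => h g⟩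
  have hNmem : ∀ n : V, n ∈ mv V (⊤ : Subgroup H) ↔ z₁ • n = -n := by
    intro n
    constructor
    · intro h
      induction h using AddSubgroup.closure_induction with
      | mem u hu =>
        obtain ⟨k, -, v, rfl⟩ := hu
        have h2 : k • (z₁ • v + v) = z₁ • v + v := (hfix _).2 (by rw [map_add, hzψ, neg_add_cancel]) k trivial
        rw [smul_sub, ← mul_smul, hzc, mul_smul]
        rw [smul_add] at h2
        rw [neg_sub, sub_eq_sub_iff_add_eq_add, h2, add_comm]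
      | zero => rw [smul_zero, neg_zero]
      | add x y _ _ hx hy => rw [smul_add, hx, hy, neg_add]
      | neg x _ hx => rw [smul_neg, hx]
    · intro h
      obtain ⟨u, hu⟩ := exists_half hp2 hpv (-n)
      have h1 : z₁ • u = -u := by
        rw [← add_eq_zero_iff_eq_neg]
        refine eq_zero_of_double hp2 hpv ?_
        have h3 : z₁ • (u + u) = -(u + u) := by rw [hu, smul_neg, h]
        rw [smul_add] at h3
        calc z₁ • u + u + (z₁ • u + u) = z₁ • u + z₁ • u + (u + u) := by abel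
          _ = 0 := by rw [h3, neg_add_cancel]
      have h4 : n = z₁ • u - u := by
        rw [h1]
        calc n = -(-n) := (neg_neg n).symm
          _ = -(u + u) := by rw [hu]
          _ = -u - u := by abel
      rw [h4]
      exact sub_mem_mv (Subgroup.mem_top _) u
  have hdisj : ∀ v, v ∈ mv V (⊤ : Subgroup H) → v ∈ fx V (⊤ : Subgroup H) → v = 0 := by
    intro v h1 h2
    have h := (hNmem v).1 h1
    rw [h2 z₁ trivial, eq_neg_iff_add_eq_zero] at h
    exact eq_zero_of_double hp2 hpv h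
  have hdec : ∀ v : V, ∃ n ∈ mv V (⊤ : Subgroup H), ∃ f ∈ fx V (⊤ : Subgroup H), n + f = v := by
    intro v
    obtain ⟨f, hf⟩ := exists_half hp2 hpv (v + z₁ • v)
    have hff : f ∈ fx V (⊤ : Subgroup H) := by
      rw [hfix]
      have h := congrArg ψ hf
      rw [map_add, map_add, hzψ, add_neg_cancel] at h
      funext i
      exact hdbl _ (congrFun h i)
    refine ⟨v - f, (hNmem _).2 ?_, f, hff, sub_add_cancel v f⟩
    rw [smul_sub, hff z₁ trivial, neg_sub, sub_eq_sub_iff_add_eq_add, hf, add_comm]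
  -- `ψ` is bijective on the commutator space
  let φ : mv V (⊤ : Subgroup H) → (Fin 2 → K) := fun n => ψ (n : V)
  have hφi : ∀ n, n ∈ mv V (⊤ : Subgroup H) → ∀ m, m ∈ mv V (⊤ : Subgroup H) → ψ n = ψ m → n = m := by
    intro n hn m hm h
    refine sub_eq_zero.1 (hdisj _ (sub_mem hn hm) ((hfix _).2 ?_))
    rw [map_sub, h, sub_self]
  have hφs : ∀ x : Fin 2 → K, ∃ n ∈ mv V (⊤ : Subgroup H), ψ n = x := by
    intro x
    obtain ⟨v, rfl⟩ := hψs x
    obtain ⟨n, hn, f, hf, rfl⟩ := hdec v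
    exact ⟨n, hn, by rw [map_add, (hfix f).1 hf, add_zero]⟩
  have hcN : Nat.card (mv V (⊤ : Subgroup H)) = Nat.card A ^ 2 := by
    rw [Nat.card_eq_of_bijective φ ⟨fun n m h => Subtype.ext (hφi _ n.2 _ m.2 h), fun x => by
      obtain ⟨n, hn, rfl⟩ := hφs x; exact ⟨⟨n, hn⟩, rfl⟩⟩, Nat.card_fun, Nat.card_eq_fintype_card (α := K), hK,
      Nat.card_eq_fintype_card (α := Fin 2), Fintype.card_fin]
  -- displacements of the elements of `A`
  have hdisp : ∀ a ∈ A, ∀ v : V, ψ (a • v - v) = ![(ρ a).1 0 1 * ψ v 1, 0] := by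
    intro a ha v
    rw [map_sub, hψ, hq a ha]
    ext i
    fin_cases i <;> simp [coe_mU, Matrix.mulVec, dotProduct, Fin.sum_univ_two]
  have hsurj : ∀ a ∈ A, a ≠ 1 → ∀ u, u ∈ mv V (⊤ : Subgroup H) ⊓ fx V A → ∃ v : V, a • v - v = u := by
    intro a ha ha1 u hu
    obtain ⟨hu1, hu2⟩ := AddSubgroup.mem_inf.1 hu
    obtain ⟨v, hv, hψv⟩ := hφs ![0, ψ u 0 / (ρ a).1 0 1]
    refine ⟨v, hφi _ (sub_mem_mv (Subgroup.mem_top _) v) _ hu1 ?_⟩
    rw [hdisp a ha, hψv]
    ext i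
    fin_cases i
    · simp [mul_div_cancel₀ _ (hne a ha ha1)]
    · simpa using ((hψA u).1 hu2).symm
  have hmvA : mv V (⊤ : Subgroup H) ⊓ fx V A = mv V A := by
    refine le_antisymm (fun u hu => ?_)
      (le_inf (mv_mono le_top) (mv_le fun a ha v => hd.quad a ha v))
    obtain ⟨a, ha, ha1⟩ := (Subgroup.bot_or_exists_ne_one A).resolve_left hd.Ane
    obtain ⟨v, rfl⟩ := hsurj a ha ha1 u hu
    exact sub_mem_mv ha v
  obtain ⟨x, hx⟩ := hd.exists_not_mem
  have hx1 : (1 : H)⁻¹ * x ∉ M := by simpa using hx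
  have hnat : NatOff V A := by
    refine ⟨hd.Ane, fun a ha b hb => ρ.injective ?_, hd.quad, ?_, fun a ha ha1 v hv => ?_, ?_, ?_⟩
    · rw [map_mul, map_mul, hq a ha, hq b hb, mU_mul, mU_mul, add_comm]
    · rw [hd.card_V, hd.card_fx]; ring
    · have h := (hd.pair hx1).fix_eq a (by rw [conjS_one]; exact ha) ha1 v hv
      rwa [conjS_one] at h
    · rw [← hmvA]
      have hb : Function.Bijective (fun u : ↥(mv V (⊤ : Subgroup H) ⊓ fx V A) => ψ (u : V) 0) := by
        refine ⟨fun u w h => Subtype.ext (hφi _ u.2.1 _ w.2.1 ?_), fun r => ?_⟩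
        · funext i
          fin_cases i
          · exact h
          · exact ((hψA _).1 u.2.2).trans ((hψA _).1 w.2.2).symm
        · obtain ⟨n, hn, hψn⟩ := hφs ![r, 0]
          exact ⟨⟨n, hn, (hψA n).2 (by rw [hψn]; rfl)⟩, by show ψ n 0 = r; rw [hψn]; rfl⟩
      rw [Nat.card_eq_of_bijective _ hb, Nat.card_eq_fintype_card, hK]
    · intro a ha ha1 u hu
      rw [← hmvA] at hu
      exact hsurj a ha ha1 u hu
  refine ⟨t, z₁, ⟨⟨le_top, hnat, hcN, hdec, hdisj, hmvA⟩, trivial, ?_, ?_, ?_, ?_, ?_, ?_, fun n hn => (hNmem n).1 hn⟩⟩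
  · obtain ⟨n, hn⟩ := Subgroup.mem_zpowers_iff.1 (hg (-1 : Kˣ))
    exact ⟨n, ρ.injective (by rw [hzpow, hn, hz₁, MulEquiv.apply_symm_apply])⟩
  · obtain ⟨m, hm⟩ := hd.p_group.exists_card_eq
    have hdvd : orderOf t ∣ p ^ m - 1 := by
      refine orderOf_dvd_of_pow_eq_one (ρ.injective ?_)
      rw [map_pow, ht, MulEquiv.apply_symm_apply, map_one]
      refine (map_pow mTHom g _).symm.trans ?_
      rw [show g ^ (p ^ m - 1) = 1 by rw [← hm, ← hK, ← Fintype.card_units, pow_card_eq_one], map_one]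
    refine Nat.Coprime.coprime_dvd_left hdvd ((Nat.Prime.coprime_iff_not_dvd hp.out).2 fun h => ?_).symm
    have hm0 : m ≠ 0 := fun h0 => by
      rw [h0, pow_zero] at hm
      exact hd.Ane (Subgroup.card_eq_one.1 hm)
    have h1 : p ∣ p ^ m - (p ^ m - 1) := Nat.dvd_sub (dvd_pow_self p hm0) h
    rw [Nat.sub_sub_self (Nat.one_le_pow m p hp.out.pos)] at h1
    exact hp.out.not_dvd_one h1
  · intro a ha
    have h := hq a ha
    rw [show t * a * t⁻¹ = ρ.symm (mU ((g : K) * g * (ρ a).1 0 1)) by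
      apply ρ.injective
      rw [map_mul, map_mul, map_inv, ht, MulEquiv.apply_symm_apply, h, mT_conj_mU, MulEquiv.apply_symm_apply]
      rfl]
    exact hAmem _
  · intro a ha
    have h := hq a ha
    rw [show t⁻¹ * a * t = ρ.symm (mU (((g⁻¹ : Kˣ) : K) * (g⁻¹ : Kˣ) * (ρ a).1 0 1)) by
      apply ρ.injective
      rw [map_mul, map_mul, map_inv, ht, MulEquiv.apply_symm_apply, MulEquiv.apply_symm_apply, h,
        ← mT_conj_mU, inv_eq_of_mul_eq_one_right (show mT g * mT g⁻¹ = 1 by rw [mT_mul, mul_inv_cancel, mT_one]),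
        inv_eq_of_mul_eq_one_right (show mT g⁻¹ * mT g = 1 by rw [mT_mul, inv_mul_cancel, mT_one])]
      rfl]
    exact hAmem _
  · intro a ha b hb c hc ha1 hb1 hc1
    have hex : ∀ x ∈ A, x ≠ 1 → ∃ n : ℤ, ((g ^ n : Kˣ) : K) = (ρ x).1 0 1 := by
      intro x hx hx1
      obtain ⟨n, hn⟩ := Subgroup.mem_zpowers_iff.1 (hg (Units.mk0 _ (hne x hx hx1)))
      exact ⟨n, by rw [hn]; rfl⟩
    have hconj : ∀ x ∈ A, ∀ y ∈ A, ∀ i j : ℤ, ((g ^ i : Kˣ) : K) = (ρ x).1 0 1 →
        ((g ^ j : Kˣ) : K) = (ρ y).1 0 1 → Even (j - i) → ∃ n : ℤ, t ^ n * x * (t ^ n)⁻¹ = y := by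
      intro x hx y hy i j hi hj he
      obtain ⟨n, hn⟩ := he
      refine ⟨n, ρ.injective ?_⟩
      rw [map_mul, map_mul, map_inv, hzpow, hq x hx, hq y hy, mT_conj_mU]
      refine congrArg mU ?_
      show ((g ^ n : Kˣ) : K) * ((g ^ n : Kˣ) : K) * (ρ x).1 0 1 = (ρ y).1 0 1
      rw [← hi, ← hj, ← Units.val_mul, ← Units.val_mul, ← zpow_add, ← zpow_add,
        show n + n + i = j by omega]
    obtain ⟨i, hi⟩ := hex a ha ha1
    obtain ⟨j, hj⟩ := hex b hb hb1
    obtain ⟨k, hk⟩ := hex c hc hc1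
    rcases Int.even_or_odd (j - i) with h1 | h1
    · obtain ⟨n, hn⟩ := hconj a ha b hb i j hi hj h1
      exact ⟨n, Or.inl hn⟩
    rcases Int.even_or_odd (k - i) with h2 | h2
    · obtain ⟨n, hn⟩ := hconj a ha c hc i k hi hk h2
      exact ⟨n, Or.inr (Or.inl hn)⟩
    · have h3 : Even (k - j) := by
        have := h2.sub_odd h1
        rwa [sub_sub_sub_cancel_right] at this
      obtain ⟨n, hn⟩ := hconj b hb c hc j k hj hk h3
      exact ⟨n, Or.inr (Or.inr hn)⟩
  · intro hp3 a ha ha1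
    set s : Kˣ := Units.mk0 _ (hne a ha ha1) with hs
    have hρa : ρ a = mU (s : K) := hq a ha
    refine ⟨ρ.symm (mW s), trivial, fun hmem => ?_, ?_, ?_, hzc a, hzc _, ?_, ?_⟩
    · have h := hd.normal_in_M hmem
      have h2 : ρ.symm (mW s) * a * (ρ.symm (mW s))⁻¹ ∈ A := h ▸ ⟨a, ha, rfl⟩
      have h3 := hq _ h2
      rw [map_mul, map_mul, map_inv, MulEquiv.apply_symm_apply, hρa] at h3
      exact mW_conj_mU s (by rw [h3]; simp [coe_mU])
    · rw [hz₁, ← map_mul, mW_sq]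
    · apply ρ.injective
      rw [map_mul, map_mul, map_inv, map_inv, ht, MulEquiv.apply_symm_apply, MulEquiv.apply_symm_apply, mW_conj_mT]
      exact (inv_eq_of_mul_eq_one_right (show mT g * mT g⁻¹ = 1 by rw [mT_mul, mul_inv_cancel, mT_one])).symm
    · apply ρ.injective
      simp only [map_mul, map_inv, hz₁, MulEquiv.apply_symm_apply, hρa]
      refine mW_rel ?_ s
      obtain ⟨v, hv⟩ := hψs ![1, 0]
      have hpC := hd.elementary.2 v
      have h1 : p • (1 : K) = 0 := by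
        by_contra hne3
        obtain ⟨j, hj⟩ := hpv v
        have h2 := congrArg ψ hj
        rw [map_nsmul, map_zero, hv] at h2
        have h4 : (p ^ j : ℕ) • (1 : K) = 0 := by simpa using congrFun h2 0
        rw [nsmul_eq_mul, mul_one, Nat.cast_pow] at h4
        exact hne3 (by rw [nsmul_eq_mul, mul_one]; exact eq_zero_of_pow_eq_zero h4)
      rw [hp3, nsmul_eq_mul, mul_one] at h1
      exact_mod_cast h1
    · have := hel a ha
      rw [hp3, pow_succ, pow_succ, pow_one] at this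
      exact this

end Cfsg.Agent.T3
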