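/-
The measure `|P| |C_V(P)|` of a subgroup acting on a module, Thompson replacement for it, and how
`p`-elements act on the fixed and commutator spaces of a natural offender.
-/
import Cfsg.Agent.Lib.Transfer3.Kit

set_option autoImplicit false
set_option linter.unusedSectionVars false
set_option linter.style.haveILetI false

namespace Cfsg.Agent.T3

open Cfsg.Agent.FFEmb

variable {H : Type*} [Group H] {V : Type*} [AddCommGroup V] [DistribMulAction H V]

/-- `|P| |C_V(P)|`. -/
noncomputable def meas (V : Type*) [AddCommGroup V] [DistribMulAction H V] (P : Subgroup H) : ℕ :=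
  Nat.card P * Nat.card (fx V P)

theorem fx_anti {A B : Subgroup H} (h : A ≤ B) : fx V B ≤ fx V A := fun _ hv a ha => hv a (h ha)

theorem fx_sup (A B : Subgroup H) : fx V (A ⊔ B) = fx V A ⊓ fx V B := by
  refine le_antisymm (le_inf (fx_anti le_sup_left) (fx_anti le_sup_right)) fun v hv x hx => ?_
  have hle : A ⊔ B ≤ MulAction.stabilizer H v := sup_le (fun a ha => hv.1 a ha) fun b hb => hv.2 b hb
  exact hle hx

theorem meas_bot : meas V (⊥ : Subgroup H) = Nat.card V := by
  rw [meas, Subgroup.card_bot, one_mul, show fx V (⊥ : Subgroup H) = ⊤ from eq_top_iff.2 fun v _ a ha => by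
    rw [Subgroup.mem_bot.1 ha, one_smul]]
  exact Nat.card_congr AddSubgroup.topEquiv.toEquiv

theorem mem_mv_conjS {k : H} {A : Subgroup H} {u : V} (hu : u ∈ mv V A) : k • u ∈ mv V (conjS k A) := by
  induction hu using AddSubgroup.closure_induction with
  | mem u hu =>
    obtain ⟨a, ha, v, rfl⟩ := hu
    have : k • (a • v - v) = (k * a * k⁻¹) • (k • v) - k • v := by
      rw [smul_sub, mul_smul, mul_smul, inv_smul_smul]
    rw [this]
    exact sub_mem_mv (mem_conjS.2 (by simpa [mul_assoc] using ha)) _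
  | zero => rw [smul_zero]; exact zero_mem _
  | add x y _ _ hx hy => rw [smul_add]; exact add_mem hx hy
  | neg x _ hx => rw [smul_neg]; exact neg_mem hx

theorem mem_mv_of_conjS {k : H} {A : Subgroup H} {u : V} (hu : u ∈ mv V (conjS k A)) : k⁻¹ • u ∈ mv V A := by
  have h := mem_mv_conjS (k := k⁻¹) hu
  rwa [conjS_mul, inv_mul_cancel, conjS_one] at h

theorem card_mv_conjS (k : H) (A : Subgroup H) : Nat.card (mv V (conjS k A)) = Nat.card (mv V A) :=
  Nat.card_congr
    { toFun := fun v => ⟨k⁻¹ • (v : V), mem_mv_of_conjS v.2⟩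
      invFun := fun v => ⟨k • (v : V), mem_mv_conjS v.2⟩
      left_inv := fun v => Subtype.ext (smul_inv_smul k _)
      right_inv := fun v => Subtype.ext (inv_smul_smul k _) }

theorem meas_conjS (k : H) (A : Subgroup H) : meas V (conjS k A) = meas V A := by
  rw [meas, meas, card_conjS, card_fx_conjS]

theorem NatOff.conj {A : Subgroup H} (h : NatOff V A) (k : H) : NatOff V (conjS k A) := by
  refine ⟨fun he => h.ne ((Subgroup.map_eq_bot_iff_of_injective A (MulAut.conj k).injective).1 he), ?_, ?_, ?_, ?_,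
    by rw [card_mv_conjS, card_conjS, h.card_mv], ?_⟩
  · rintro _ ⟨a, ha, rfl⟩ _ ⟨b, hb, rfl⟩
    rw [← map_mul, ← map_mul, h.comm a ha b hb]
  · rintro _ ⟨a, ha, rfl⟩ v
    rw [mem_fx_conjS]
    show k⁻¹ • ((k * a * k⁻¹) • v - v) ∈ fx V A
    rw [mul_smul, mul_smul, smul_sub, inv_smul_smul]
    exact h.quad a ha _
  · rw [card_conjS, card_fx_conjS, h.card]
  · rintro _ ⟨a, ha, rfl⟩ hne v hv
    rw [mem_fx_conjS]
    refine h.fix_eq a ha (fun h1 => hne (by rw [h1, map_one])) _ ?_
    have h2 : (k * a * k⁻¹) • v = v := hv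
    rw [mul_smul, mul_smul] at h2
    exact eq_inv_smul_iff.2 h2
  · rintro _ ⟨a, ha, rfl⟩ hne u hu
    obtain ⟨v, hv⟩ := h.surj a ha (fun h1 => hne (by rw [h1, map_one])) _ (mem_mv_of_conjS hu)
    refine ⟨k • v, ?_⟩
    show (k * a * k⁻¹) • k • v - k • v = u
    rw [mul_smul, mul_smul, inv_smul_smul, ← smul_sub, hv, smul_inv_smul]

/-- Two subgroups fixing each other's displacements commute. -/
theorem comm_of_fix (hfaith : ∀ g : H, (∀ v : V, g • v = v) → g = 1) {x y : H}
    (hx : ∀ v : V, x • (y • v - v) = y • v - v) (hy : ∀ v : V, y • (x • v - v) = x • v - v) : x * y = y * x := by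
  have key : ∀ v : V, (x * y) • v = (y * x) • v := by
    intro v
    have h1 := hx v
    have h2 := hy v
    rw [smul_sub] at h1 h2
    rw [mul_smul, mul_smul, sub_eq_iff_eq_add.1 h1, sub_eq_iff_eq_add.1 h2]
    abel
  refine inv_mul_eq_one.1 (hfaith _ fun v => ?_)
  rw [mul_smul, inv_smul_eq_iff]
  exact (key v).symm

section fixed

variable {p : ℕ} [hp : Fact p.Prime] [Finite V]

theorem card_addSubgroup_dvd (hpp : ∀ v : V, ∃ k : ℕ, p ^ k • v = 0) (W : AddSubgroup V) :
    IsPGroup p (Multiplicative (V ⧸ W)) := by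
  intro x
  induction x using QuotientAddGroup.induction_on with
  | H v =>
    obtain ⟨k, hk⟩ := hpp v
    exact ⟨k, congrArg (QuotientAddGroup.mk' W) hk⟩

/-- A `p`-group fixes a nonzero class modulo a proper invariant subgroup. -/
theorem exists_fixed_mod [Finite H] (hpp : ∀ v : V, ∃ k : ℕ, p ^ k • v = 0) {P : Subgroup H} (hP : IsPGroup p P)
    {W : AddSubgroup V} (hW : ∀ a ∈ P, ∀ w ∈ W, a • w ∈ W) (hne : W ≠ ⊤) :
    ∃ v : V, v ∉ W ∧ ∀ a ∈ P, a • v - v ∈ W := by
  classical
  letI : MulAction P (V ⧸ W) :=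
    { smul := fun a => QuotientAddGroup.map W W (DistribSMul.toAddMonoidHom V (a : H)) fun w hw => hW a a.2 w hw
      one_smul := fun x => by
        induction x using QuotientAddGroup.induction_on with
        | H v => exact congrArg (QuotientAddGroup.mk' W) (one_smul H v)
      mul_smul := fun a b x => by
        induction x using QuotientAddGroup.induction_on with
        | H v => exact congrArg (QuotientAddGroup.mk' W) (mul_smul (a : H) (b : H) v) }
  obtain ⟨n, hn⟩ := (card_addSubgroup_dvd hpp W).exists_card_eq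
  have hcard : Nat.card (V ⧸ W) = p ^ n := hn
  have hn0 : n ≠ 0 := fun h => hne (AddSubgroup.index_eq_one.1 (by rw [AddSubgroup.index, hcard, h, pow_zero]))
  have h0 : (0 : V ⧸ W) ∈ MulAction.fixedPoints P (V ⧸ W) := fun a =>
    map_zero (QuotientAddGroup.map W W (DistribSMul.toAddMonoidHom V (a : H)) fun w hw => hW a a.2 w hw)
  obtain ⟨b, hb, hb0⟩ := hP.exists_fixed_point_of_prime_dvd_card_of_fixed_point (V ⧸ W)
    (by rw [hcard]; exact dvd_pow_self p hn0) h0
  induction b using QuotientAddGroup.induction_on with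
  | H v =>
    refine ⟨v, fun h => hb0 ((QuotientAddGroup.eq_zero_iff v).2 h).symm, fun a ha => ?_⟩
    have h : ((a • v : V) : V ⧸ W) = (v : V ⧸ W) := hb ⟨a, ha⟩
    exact (QuotientAddGroup.eq_iff_sub_mem).1 h

/-- Thompson replacement. -/
theorem replacement [Finite H] (hpp : ∀ v : V, ∃ k : ℕ, p ^ k • v = 0) {P : Subgroup H} (hP : IsPGroup p P)
    (hc : ∀ a ∈ P, ∀ b ∈ P, a * b = b * a) (hq : ¬ ∀ a ∈ P, ∀ v : V, a • v - v ∈ fx V P) :
    ∃ (P' : Subgroup H) (U : AddSubgroup V), P' ≤ P ∧ P' ≠ P ∧ U ≤ fx V P' ∧ U ≠ ⊤ ∧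
      meas V P ≤ Nat.card P' * Nat.card U ∧ ∀ u ∈ U, ∀ a ∈ P, a • u - u ∈ fx V P := by
  classical
  set C := fx V P with hC
  let C₂ : AddSubgroup V :=
    { carrier := {v | ∀ a ∈ P, a • v - v ∈ C}
      zero_mem' := fun a _ => by rw [smul_zero, sub_zero]; exact zero_mem _
      add_mem' := fun {x y} hx hy a ha => by
        rw [smul_add, add_sub_add_comm]; exact add_mem (hx a ha) (hy a ha)
      neg_mem' := fun {x} hx a ha => by
        rw [smul_neg, neg_sub_neg, ← neg_sub]; exact neg_mem (hx a ha) }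
  have hC₂ne : C₂ ≠ ⊤ := fun h => hq fun a ha v => (h ▸ AddSubgroup.mem_top v : v ∈ C₂) a ha
  have hC₂inv : ∀ a ∈ P, ∀ w ∈ C₂, a • w ∈ C₂ := fun a ha w hw b hb => by
    rw [← mul_smul, hc b hb a ha, mul_smul, ← smul_sub, hw b hb a ha]
    exact hw b hb
  obtain ⟨v, hv, hv'⟩ := exists_fixed_mod hpp hP hC₂inv hC₂ne
  have hadd : ∀ a ∈ P, ∀ b ∈ P, (a * b) • v - v - ((a • v - v) + (b • v - v)) ∈ C := by
    intro a ha b hb
    have h := hv' b hb a ha
    convert h using 1
    rw [smul_sub, mul_smul]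
    abel
  let θ : P →* Multiplicative (V ⧸ C) :=
    MonoidHom.mk' (fun a => Multiplicative.ofAdd (((a : H) • v - v : V) : V ⧸ C)) fun a b => by
      rw [← ofAdd_add, ← QuotientAddGroup.mk_add]
      exact congrArg Multiplicative.ofAdd ((QuotientAddGroup.eq_iff_sub_mem).2 (hadd a a.2 b b.2))
  set U := (AddSubgroup.map (MonoidHom.toAdditiveLeft θ) ⊤).comap (QuotientAddGroup.mk' C) with hU
  have hUmem : ∀ u : V, u ∈ U ↔ ∃ a ∈ P, u - (a • v - v) ∈ C := by
    intro u
    constructor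
    · rintro ⟨a, -, ha⟩
      refine ⟨_, (Additive.toMul a).2, (QuotientAddGroup.eq_iff_sub_mem).1 ?_⟩
      exact ha.symm
    · rintro ⟨a, ha, h⟩
      exact ⟨Additive.ofMul ⟨a, ha⟩, trivial, ((QuotientAddGroup.eq_iff_sub_mem).2 h).symm⟩
  have hUC₂ : U ≤ C₂ := by
    intro u hu
    obtain ⟨a, ha, h⟩ := (hUmem u).1 hu
    have h1 : u - (a • v - v) ∈ C₂ := fun b hb => by rw [h b hb, sub_self]; exact zero_mem _
    have := add_mem h1 (hv' a ha : a • v - v ∈ C₂)
    rwa [sub_add_cancel] at this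
  have hsym : ∀ a ∈ P, ∀ b ∈ P, b • (a • v - v) - (a • v - v) = a • (b • v - v) - (b • v - v) := by
    intro a ha b hb
    rw [smul_sub, smul_sub, ← mul_smul, ← mul_smul, hc b hb a ha]
    abel
  refine ⟨θ.ker.map P.subtype, U, Subgroup.map_subtype_le _, fun h => hv ?_, ?_,
    fun h => hC₂ne (top_le_iff.1 (h ▸ hUC₂)), ?_, fun u hu => hUC₂ hu⟩
  · intro a ha
    rw [← h] at ha
    obtain ⟨x, hx, rfl⟩ := ha
    exact (QuotientAddGroup.eq_zero_iff _).1 (congrArg Multiplicative.toAdd hx)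
  · rintro u hu _ ⟨x, hx, rfl⟩
    obtain ⟨a, ha, h⟩ := (hUmem u).1 hu
    have hxC : (x : H) • v - v ∈ C := (QuotientAddGroup.eq_zero_iff _).1 (congrArg Multiplicative.toAdd hx)
    have h2 : (x : H) • (a • v - v) = a • v - v := by
      rw [← sub_eq_zero, hsym a ha x x.2, hxC a ha, sub_self]
    have h3 : (x : H) • (u - (a • v - v)) = u - (a • v - v) := h x x.2
    rw [smul_sub, h2, sub_left_inj] at h3
    exact h3
  · have h1 := θ.ker.card_mul_index
    rw [Subgroup.index_ker] at h1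
    rw [Nat.card_congr (θ.ker.equivMapOfInjective _ P.subtype_injective).toEquiv] at h1
    have hCU : C ≤ U := fun c hc => (hUmem c).2 ⟨1, one_mem P, by rwa [one_smul, sub_self, sub_zero]⟩
    have h2 : Nat.card U = Nat.card θ.range * Nat.card C := by
      set R := AddSubgroup.map (MonoidHom.toAdditiveLeft θ) ⊤ with hR
      let ψ : U →+ V ⧸ C := (QuotientAddGroup.mk' C).comp U.subtype
      have e1 : ψ.ker = C.addSubgroupOf U := by ext w; exact QuotientAddGroup.eq_zero_iff (w : V)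
      have e2 : ψ.range = R := by
        rw [AddMonoidHom.range_eq_map, ← AddSubgroup.map_map, ← AddMonoidHom.range_eq_map, AddSubgroup.range_subtype,
          hU, AddSubgroup.map_comap_eq_self_of_surjective (QuotientAddGroup.mk'_surjective C)]
      have e3 := ψ.ker.card_mul_index
      rw [AddSubgroup.index_ker, e1, e2, Nat.card_congr (AddSubgroup.addSubgroupOfEquivOfLe hCU).toEquiv] at e3
      have e4 : Nat.card R = Nat.card θ.range := Nat.card_congr
        { toFun := fun x => ⟨Multiplicative.ofAdd x.1, by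
            obtain ⟨a, -, ha⟩ := x.2; exact ⟨Additive.toMul a, congrArg Multiplicative.ofAdd ha⟩⟩
          invFun := fun x => ⟨Multiplicative.toAdd x.1, by
            obtain ⟨a, ha⟩ := x.2; exact ⟨Additive.ofMul a, trivial, congrArg Multiplicative.toAdd ha⟩⟩
          left_inv := fun _ => rfl
          right_inv := fun _ => rfl }
      rw [← e3, e4, mul_comm]
    rw [meas, ← h1, h2]
    exact le_of_eq (mul_assoc _ _ _)

end fixed

section sup

variable [Finite H]

theorem card_sup_mul_card_inf {A B : Subgroup H} (hA : ∀ a ∈ A, ∀ b ∈ B, a * b = b * a) :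
    Nat.card A * Nat.card B = Nat.card ↥(A ⊔ B) * Nat.card ↥(A ⊓ B) := by
  let f : A × B →* H := MonoidHom.mk' (fun x => (x.1 : H) * (x.2 : H)) fun x y => by
    show ((x.1 : H) * y.1) * ((x.2 : H) * y.2) = (x.1 * x.2) * (y.1 * y.2)
    rw [mul_assoc, ← mul_assoc (y.1 : H), hA y.1 y.1.2 x.2 x.2.2]
    group
  have hr : f.range = A ⊔ B := by
    refine le_antisymm ?_ (sup_le (fun a ha => ⟨(⟨a, ha⟩, 1), by simp [f]⟩) fun b hb => ⟨(1, ⟨b, hb⟩), by simp [f]⟩)
    rintro _ ⟨x, rfl⟩
    exact mul_mem (Subgroup.mem_sup_left x.1.2) (Subgroup.mem_sup_right x.2.2)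
  have hk : Nat.card f.ker = Nat.card ↥(A ⊓ B) := Nat.card_congr
    { toFun := fun x => ⟨(x.1.1 : H), x.1.1.2, by
        have h : (x.1.1 : H) * x.1.2 = 1 := x.2
        rw [eq_inv_of_mul_eq_one_left h]; exact B.inv_mem x.1.2.2⟩
      invFun := fun a => ⟨(⟨a.1, a.2.1⟩, ⟨a.1⁻¹, B.inv_mem a.2.2⟩), mul_inv_cancel a.1⟩
      left_inv := fun x => by
        have h : (x.1.1 : H) * x.1.2 = 1 := x.2
        exact Subtype.ext (Prod.ext rfl (Subtype.ext (inv_eq_of_mul_eq_one_right h)))
      right_inv := fun a => rfl }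
  rw [← Nat.card_prod, ← hr, ← hk, ← f.ker.index_mul_card, Subgroup.index_ker]

theorem meas_mul_le [Finite V] {A B : Subgroup H} (hA : ∀ a ∈ A, ∀ b ∈ B, a * b = b * a) :
    meas V A * meas V B ≤ meas V (A ⊔ B) * meas V (A ⊓ B) := by
  have h1 := card_sup_mul_card_inf hA
  have h2 : Nat.card (fx V A) * Nat.card (fx V B) ≤ Nat.card ↥(fx V (A ⊔ B)) * Nat.card (fx V (A ⊓ B)) := by
    rw [fx_sup]
    let f : fx V A × fx V B →+ V := ((fx V A).subtype).coprod ((fx V B).subtype)
    have hf := f.ker.card_mul_index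
    rw [AddSubgroup.index_ker, Nat.card_prod] at hf
    rw [← hf]
    refine Nat.mul_le_mul (Nat.card_le_card_of_injective (fun x => ⟨(x.1.1 : V), x.1.1.2, ?_⟩) ?_)
      (Nat.card_le_card_of_injective (Set.inclusion ?_) (Set.inclusion_injective _))
    · have h : (x.1.1 : V) + x.1.2 = 0 := x.2
      rw [eq_neg_of_add_eq_zero_left h]; exact AddSubgroup.neg_mem _ x.1.2.2
    · rintro ⟨⟨a, b⟩, hx⟩ ⟨⟨a', b'⟩, hy⟩ he
      have e := congrArg Subtype.val he
      change (a : V) = a' at e
      have e1 : (a : V) + b = 0 := hx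
      have e2 : (a' : V) + b' = 0 := hy
      rw [e] at e1
      exact Subtype.ext (Prod.ext (Subtype.ext e) (Subtype.ext (add_left_cancel (e1.trans e2.symm))))
    · rintro _ ⟨x, rfl⟩
      exact add_mem (fx_anti inf_le_left x.1.2) (fx_anti inf_le_right x.2.2)
  calc meas V A * meas V B = (Nat.card A * Nat.card B) * (Nat.card (fx V A) * Nat.card (fx V B)) := by
        rw [meas, meas]; ring
    _ ≤ (Nat.card ↥(A ⊔ B) * Nat.card ↥(A ⊓ B)) * (Nat.card (fx V (A ⊔ B)) * Nat.card (fx V (A ⊓ B))) :=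
        Nat.mul_le_mul h1.le h2
    _ = _ := by rw [meas, meas]; ring

end sup

section natoff

variable [Finite H] [Finite V] {p : ℕ} [hp : Fact p.Prime] {A : Subgroup H}

theorem NatOff.ne_top (hA : NatOff V A) : fx V A ≠ ⊤ := by
  intro h
  have h1 := hA.card
  rw [h, Nat.card_congr (AddSubgroup.topEquiv (G := V)).toEquiv] at h1
  exact hA.ne (Subgroup.card_eq_one.1 ((Nat.mul_eq_right Nat.card_pos.ne').1 h1.symm))

theorem NatOff.disp_inj (hA : NatOff V A) {v : V} (hv : v ∉ fx V A) {a b : H} (ha : a ∈ A) (hb : b ∈ A)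
    (h : a • v = b • v) : a = b := by
  by_contra hne
  refine hv (hA.fix_eq (b⁻¹ * a) (mul_mem (inv_mem hb) ha) (fun h1 => hne (inv_mul_eq_one.1 h1).symm) v ?_)
  rw [mul_smul, h, inv_smul_smul]

theorem NatOff.mv_fix (hA : NatOff V A) {a : H} (ha : a ∈ A) {u : V} (hu : u ∈ mv V A) : a • u = u :=
  mv_le (W := fx V A) (fun b hb v => hA.quad b hb v) hu a ha

/-- The displacements of a vector outside the fixed space fill the commutator space. -/
theorem NatOff.exists_disp (hA : NatOff V A) {v : V} (hv : v ∉ fx V A) {u : V} (hu : u ∈ mv V A) :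
    ∃ a ∈ A, a • v - v = u := by
  let f : A → mv V A := fun a => ⟨(a : H) • v - v, sub_mem_mv a.2 v⟩
  have hf : Function.Injective f := fun a b h => Subtype.ext (hA.disp_inj hv a.2 b.2
    (sub_left_inj.1 (congrArg Subtype.val h : (a : H) • v - v = (b : H) • v - v)))
  obtain ⟨a, ha⟩ := ((Nat.bijective_iff_injective_and_card f).2 ⟨hf, hA.card_mv.symm⟩).2 ⟨u, hu⟩
  exact ⟨a, a.2, congrArg Subtype.val ha⟩

variable (hpp : ∀ v : V, ∃ k : ℕ, p ^ k • v = 0)
include hpp

/-- A `p`-element centralising a natural offender fixes its commutator space and moves nothing outside its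
fixed space. -/
theorem NatOff.scalar (hA : NatOff V A) {y : H} (hy : IsPEl p y) (hc : ∀ a ∈ A, a * y = y * a) :
    (∀ u ∈ mv V A, y • u = u) ∧ ∀ v : V, y • v - v ∈ fx V A := by
  have hinv : ∀ x ∈ Subgroup.zpowers y, ∀ w ∈ fx V A, x • w ∈ fx V A := by
    intro x hx w hw a ha
    obtain ⟨n, rfl⟩ := Subgroup.mem_zpowers_iff.1 hx
    rw [← mul_smul, (Commute.zpow_right (hc a ha : Commute a y) n).eq, mul_smul, hw a ha]
  obtain ⟨v0, hv0, hv0'⟩ := exists_fixed_mod hpp hy.zpowers hinv hA.ne_top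
  have hyC := hv0' y (Subgroup.mem_zpowers y)
  have hU : ∀ u ∈ mv V A, y • u = u := by
    intro u hu
    obtain ⟨a, ha, rfl⟩ := hA.exists_disp hv0 hu
    have h := hyC a ha
    rw [smul_sub, ← mul_smul, hc a ha, mul_smul] at h
    rw [smul_sub, sub_eq_sub_iff_sub_eq_sub, h]
  refine ⟨hU, fun v => ?_⟩
  obtain ⟨a, ha, ha1⟩ := (Subgroup.bot_or_exists_ne_one A).resolve_left hA.ne
  refine hA.fix_eq a ha ha1 _ ?_
  have h := hU _ (sub_mem_mv ha v)
  rw [smul_sub, ← mul_smul, ← hc a ha, mul_smul] at h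
  rw [smul_sub, sub_eq_sub_iff_sub_eq_sub, h]

/-- A `p`-element normalising a natural offender and quadratic on its commutator space centralises it. -/
theorem NatOff.centralizes (hp2 : p ≠ 2) (hA : NatOff V A) {y : H} (hy : IsPEl p y)
    (hn : ∀ a ∈ A, y * a * y⁻¹ ∈ A)
    (hq : ∀ u ∈ mv V A, y • (y • u - u) = y • u - u) : ∀ a ∈ A, a * y = y * a := by
  set C := fx V A with hC
  have hyinv : conjS y A = A := Subgroup.eq_of_le_of_card_ge (by rintro _ ⟨a, ha, rfl⟩; exact hn a ha)
    (by rw [card_conjS])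
  have hinv : ∀ x ∈ Subgroup.zpowers y, ∀ w ∈ C, x • w ∈ C := by
    intro x hx w hw
    obtain ⟨n, rfl⟩ := Subgroup.mem_zpowers_iff.1 hx
    have hle : Subgroup.zpowers y ≤ Subgroup.normalizer (A : Set H) := by
      rw [Subgroup.zpowers_le, Subgroup.mem_normalizer_iff]
      intro a
      constructor
      · exact hn a
      · intro h
        rw [← hyinv, mem_conjS] at h
        simpa [mul_assoc] using h
    intro a ha
    have h1 : (y ^ n)⁻¹ * a * y ^ n ∈ A := by
      simpa using (Subgroup.mem_normalizer_iff.1 (hle (inv_mem hx)) a).1 ha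
    have h2 := hw _ h1
    rwa [mul_smul, mul_smul, inv_smul_eq_iff] at h2
  obtain ⟨v0, hv0, hv0'⟩ := exists_fixed_mod hpp hy.zpowers hinv hA.ne_top
  have hyv0 := hv0' y (Subgroup.mem_zpowers y)
  have hlin : ∀ a ∈ A, ∀ b ∈ A, ∀ v : V, (a * b) • v - v = (a • v - v) + (b • v - v) := by
    intro a ha b hb v
    have h := hA.mv_fix ha (sub_mem_mv hb v)
    rw [smul_sub] at h
    rw [mul_smul, sub_eq_iff_eq_add.1 h]
    abel
  have heq : ∀ a ∈ A, ∀ v : V, y • (a • v - v) = (y * a * y⁻¹) • (y • v) - y • v := by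
    intro a _ v
    rw [smul_sub, mul_smul, mul_smul, inv_smul_smul]
  have hmodC : ∀ a ∈ A, ∀ v w : V, v - w ∈ C → a • v - v = a • w - w := by
    intro a ha v w h
    have h1 := h a ha
    rw [smul_sub, sub_eq_sub_iff_sub_eq_sub] at h1
    exact h1
  have hq' : ∀ u ∈ mv V A, y • (y • u) = (y • u - u) + y • u := by
    intro u hu
    have h := hq u hu
    rw [smul_sub, sub_eq_iff_eq_add] at h
    exact h
  -- second differences on the offender
  set σ : H → H := fun a => y * a * y⁻¹ with hσ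
  have hσA : ∀ a ∈ A, σ a ∈ A := hn
  have hA2 : ∀ a ∈ A, σ (σ a) * a = σ a * σ a := by
    intro a ha
    refine hA.disp_inj hv0 (mul_mem (hσA _ (hσA a ha)) ha) (mul_mem (hσA a ha) (hσA a ha)) ?_
    rw [← sub_left_inj (a := v0), hlin _ (hσA _ (hσA a ha)) _ ha, hlin _ (hσA a ha) _ (hσA a ha)]
    have e1 : y • (a • v0 - v0) = σ a • v0 - v0 :=
      (heq a ha v0).trans (hmodC _ (hσA a ha) _ _ hyv0)
    have e2 : y • (σ a • v0 - v0) = σ (σ a) • v0 - v0 :=
      (heq _ (hσA a ha) v0).trans (hmodC _ (hσA _ (hσA a ha)) _ _ hyv0)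
    rw [← e2, ← e1, hq' _ (sub_mem_mv ha v0)]
    abel
  by_cases htriv : ∀ v : V, y • v - v ∈ C
  · intro a ha
    have hfixA : ∀ u ∈ mv V A, y • u = u := by
      intro u hu
      have hinvA : ∀ x ∈ Subgroup.zpowers y, ∀ a ∈ A, x * a * x⁻¹ ∈ A := by
        intro x hx a ha
        obtain ⟨n, rfl⟩ := Subgroup.mem_zpowers_iff.1 hx
        have : y ^ n ∈ Subgroup.normalizer (A : Set H) := by
          refine zpow_mem (Subgroup.mem_normalizer_iff.2 fun a => ⟨hn a, fun h => ?_⟩) n
          rw [← hyinv, mem_conjS] at h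
          simpa [mul_assoc] using h
        exact (Subgroup.mem_normalizer_iff.1 this a).1 ha
      letI : MulAction (Subgroup.zpowers y) A :=
        { smul := fun x a => ⟨(x : H) * a * (x : H)⁻¹, hinvA x x.2 a a.2⟩
          one_smul := fun a => Subtype.ext (by show (1 : H) * a * 1⁻¹ = a; group)
          mul_smul := fun x w a => Subtype.ext (by
            show (x * w : H) * a * (x * w : H)⁻¹ = x * (w * a * w⁻¹) * x⁻¹; simp [mul_assoc]) }
      haveI : Nontrivial A := (Subgroup.nontrivial_iff_ne_bot A).2 hA.ne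
      obtain ⟨n, hn'⟩ : ∃ n, Nat.card A = p ^ n := by
        have hAp : IsPGroup p A := by
          rintro ⟨b, hb⟩
          obtain ⟨k, hk⟩ := hpp (b • v0 - v0)
          refine ⟨k, Subtype.ext (hA.disp_inj hv0 (pow_mem hb _) A.one_mem ?_)⟩
          have hpow : ∀ m : ℕ, b ^ m • v0 - v0 = m • (b • v0 - v0) := by
            intro m
            induction m with
            | zero => simp
            | succ m ih => rw [pow_succ, hlin _ (pow_mem hb m) _ hb, ih, succ_nsmul]
          rw [SubmonoidClass.coe_pow, OneMemClass.coe_one, one_smul, ← sub_eq_zero, hpow, hk]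
        exact hAp.exists_card_eq
      have hn0 : n ≠ 0 := fun h => hA.ne (Subgroup.card_eq_one.1 (by rw [hn', h, pow_zero]))
      obtain ⟨a0, ha0, hne⟩ := hy.zpowers.exists_fixed_point_of_prime_dvd_card_of_fixed_point A
        (by rw [hn']; exact dvd_pow_self p hn0) (a := 1) fun x => Subtype.ext (by
          show (x : H) * 1 * (x : H)⁻¹ = 1; group)
      have hfix0 : σ (a0 : H) = a0 := congrArg Subtype.val (ha0 ⟨y, Subgroup.mem_zpowers y⟩)
      obtain ⟨v, rfl⟩ := hA.surj a0 a0.2 (fun h => hne (Subtype.ext h.symm)) u hu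
      rw [heq _ a0.2, show y * (a0 : H) * y⁻¹ = a0 from hfix0]
      exact hmodC _ a0.2 _ _ (htriv v)
    have h : σ a = a := hA.disp_inj hv0 (hσA a ha) ha (by
      rw [← sub_left_inj (a := v0), ← hmodC (σ a) (hσA a ha) _ _ (htriv v0), ← heq a ha,
        hfixA _ (sub_mem_mv ha v0)])
    exact (mul_inv_eq_iff_eq_mul.1 h).symm
  · push Not at htriv
    obtain ⟨w, hw⟩ := htriv
    intro a ha
    -- the mixed second difference
    have hV2 : ∀ b ∈ A, b • (y • (y • w)) - y • (y • w) =
        (b • (y • w) - y • w) + (b • (y • w) - y • w) - (b • w - w) := by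
      intro b hb
      obtain ⟨a0, ha0, ha01, hfix0⟩ : ∃ a0 ∈ A, a0 ≠ 1 ∧ σ a0 = a0 := by
        by_cases hall : ∀ c ∈ A, σ c = c
        · obtain ⟨c, hc, hc1⟩ := (Subgroup.bot_or_exists_ne_one A).resolve_left hA.ne
          exact ⟨c, hc, hc1, hall c hc⟩
        · push Not at hall
          obtain ⟨c, hc, hc'⟩ := hall
          refine ⟨σ c * c⁻¹, mul_mem (hσA c hc) (inv_mem hc), fun h => hc' (mul_inv_eq_one.1 h), ?_⟩
          have h2 := hA2 c hc
          calc σ (σ c * c⁻¹) = σ (σ c) * (σ c)⁻¹ := by simp only [hσ]; group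
            _ = σ (σ c) * c * (c⁻¹ * (σ c)⁻¹) := by group
            _ = σ c * σ c * (c⁻¹ * (σ c)⁻¹) := by rw [h2]
            _ = σ c * (σ c * c⁻¹) * (σ c)⁻¹ := by group
            _ = σ c * c⁻¹ := by
              rw [hA.comm _ (hσA c hc) _ (mul_mem (hσA c hc) (inv_mem hc)), mul_inv_cancel_right]
      have e1 : y • (a0 • w - w) = a0 • (y • w) - y • w := by
        rw [heq _ ha0, show y * a0 * y⁻¹ = a0 from hfix0]
      have e2 : y • (a0 • (y • w) - y • w) = a0 • (y • (y • w)) - y • (y • w) := by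
        rw [heq _ ha0, show y * a0 * y⁻¹ = a0 from hfix0]
      have h := hq' _ (sub_mem_mv ha0 w)
      rw [e1, e2] at h
      have hC' : y • (y • w) - ((y • w + y • w) - w) ∈ C := hA.fix_eq a0 ha0 ha01 _ (by
        rw [smul_sub, smul_sub, smul_add, ← sub_eq_zero]
        have h' : a0 • (y • (y • w)) - y • (y • w) - ((a0 • (y • w) - y • w) + (a0 • (y • w) - y • w) -
            (a0 • w - w)) = 0 := by rw [h]; abel
        rw [← h']
        abel)
      rw [hmodC b hb _ _ hC', smul_sub, smul_add]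
      abel
    have h : σ a * a⁻¹ = 1 := by
      by_contra hne
      refine hw (hA.fix_eq _ (mul_mem (hσA a ha) (inv_mem ha)) hne _ ?_)
      have key : ∀ b ∈ A, ∀ v : V, (b⁻¹ • v - v) = -(b • v - v) := by
        intro b hb v
        rw [eq_neg_iff_add_eq_zero, ← hlin _ (inv_mem hb) _ hb, inv_mul_cancel, one_smul, sub_self]
      have e1 : y • (a • w - w) = σ a • (y • w) - y • w := heq a ha w
      have e2 : y • (σ a • (y • w) - y • w) = σ (σ a) • (y • (y • w)) - y • (y • w) := heq _ (hσA a ha) _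
      have h0 := hq' _ (sub_mem_mv ha w)
      rw [e1, e2] at h0
      have hsplit : ∀ v : V, σ (σ a) • v - v = (σ a • v - v) + (σ a • v - v) - (a • v - v) := by
        intro v
        rw [eq_sub_iff_add_eq, ← hlin _ (hσA _ (hσA a ha)) _ ha, hA2 a ha, hlin _ (hσA a ha) _ (hσA a ha)]
      rw [hsplit, hV2 _ (hσA a ha), hV2 _ ha] at h0
      have hd : ∀ v : V, (σ a * a⁻¹) • v - v = (σ a • v - v) - (a • v - v) := by
        intro v
        rw [hlin _ (hσA a ha) _ (inv_mem ha), key a ha]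
        abel
      rw [← sub_eq_zero]
      refine eq_zero_of_double hp2 hpp ?_
      rw [smul_sub]
      have e3 : (σ a * a⁻¹) • (y • w) - (σ a * a⁻¹) • w - (y • w - w) =
          ((σ a • (y • w) - y • w) - (a • (y • w) - y • w)) - ((σ a • w - w) - (a • w - w)) := by
        rw [← hd, ← hd]; abel
      rw [e3, ← sub_eq_zero.2 h0]
      abel
    rw [mul_inv_eq_one] at h
    exact (mul_inv_eq_iff_eq_mul.1 h).symm

end natoff

end Cfsg.Agent.T3
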