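/-
A faithful module for a group whose Sylow subgroup lies in a unique maximal subgroup, and the natural
`SL₂(q)` through a quadratic offender with a uniqueness property.
-/
import Cfsg.Agent.Lib.Transfer3.Meas

set_option autoImplicit false
set_option linter.unusedSectionVars false
set_option linter.style.haveILetI false

namespace Cfsg.Agent.T3

open Cfsg.Agent.FFEmb

section transfer

variable {H : Type*} [Group H] {V : Type*} [AddCommGroup V] [DistribMulAction H V]

theorem fx_subgroupOf {A L : Subgroup H} (hAL : A ≤ L) : fx V (A.subgroupOf L) = fx V A := by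
  ext v
  exact ⟨fun h a ha => h ⟨a, hAL ha⟩ ha, fun h a ha => h a ha⟩

theorem mv_subgroupOf {A L : Subgroup H} (hAL : A ≤ L) : mv V (A.subgroupOf L) = mv V A := by
  refine congrArg AddSubgroup.closure (Set.ext fun u => ?_)
  constructor
  · rintro ⟨a, ha, v, rfl⟩; exact ⟨a, ha, v, rfl⟩
  · rintro ⟨a, ha, v, rfl⟩; exact ⟨⟨a, hAL ha⟩, ha, v, rfl⟩

theorem fx_top_sub (L : Subgroup H) : fx V (⊤ : Subgroup L) = fx V L := by
  rw [← Subgroup.subgroupOf_self, fx_subgroupOf le_rfl]

theorem mv_top_sub (L : Subgroup H) : mv V (⊤ : Subgroup L) = mv V L := by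
  rw [← Subgroup.subgroupOf_self, mv_subgroupOf le_rfl]

theorem card_subgroupOf {A L : Subgroup H} (hAL : A ≤ L) : Nat.card (A.subgroupOf L) = Nat.card A :=
  Nat.card_congr (Subgroup.subgroupOfEquivOfLe hAL).toEquiv

theorem NatOff.of_sub {A L : Subgroup H} (hAL : A ≤ L) (h : NatOff V (A.subgroupOf L)) : NatOff V A := by
  have hf := fx_subgroupOf (V := V) hAL
  have hm := mv_subgroupOf (V := V) hAL
  have hc := card_subgroupOf hAL
  refine ⟨fun he => h.ne (by rw [he, Subgroup.bot_subgroupOf]), fun a ha b hb => ?_, fun a ha v => ?_, ?_,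
    fun a ha h1 v hv => ?_, ?_, fun a ha h1 u hu => ?_⟩
  · exact congrArg Subtype.val (h.comm ⟨a, hAL ha⟩ ha ⟨b, hAL hb⟩ hb)
  · rw [← hf]; exact h.quad ⟨a, hAL ha⟩ ha v
  · have := h.card
    rwa [hc, hf] at this
  · rw [← hf]; exact h.fix_eq ⟨a, hAL ha⟩ ha (fun e => h1 (congrArg Subtype.val e)) v hv
  · have := h.card_mv
    rwa [hc, hm] at this
  · rw [← hm] at hu
    exact h.surj ⟨a, hAL ha⟩ ha (fun e => h1 (congrArg Subtype.val e)) u hu

theorem Kit.of_sub {p : ℕ} {M A L : Subgroup H} (hAL : A ≤ L) {t z : L}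
    (h : Kit p V (M.subgroupOf L) (A.subgroupOf L) ⊤ t z) : Kit p V M A L (t : H) (z : H) := by
  have hf := fx_subgroupOf (V := V) hAL
  have hm := mv_subgroupOf (V := V) hAL
  have hc := card_subgroupOf hAL
  have hft := fx_top_sub (V := V) L
  have hmt := mv_top_sub (V := V) L
  obtain ⟨⟨-, hnat, hN, hdec, hdisj, hint⟩, -, hzt, hcop, htA, htA', horb, hweyl, hneg⟩ := h
  rw [hmt] at hneg
  rw [hmt, hc] at hN
  rw [hmt] at hdec hdisj hint
  rw [hft] at hdec hdisj
  rw [hm, hf] at hint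
  refine ⟨⟨hAL, hnat.of_sub hAL, hN, hdec, hdisj, hint⟩, t.2, ?_, by rwa [Subgroup.orderOf_coe],
    fun a ha => htA ⟨a, hAL ha⟩ ha, fun a ha => htA' ⟨a, hAL ha⟩ ha, fun a ha b hb c hc ha1 hb1 hc1 => ?_,
    fun hp a ha ha1 => ?_, fun n hn => hneg n hn⟩
  · obtain ⟨n, hn⟩ := Subgroup.mem_zpowers_iff.1 hzt
    exact ⟨n, congrArg Subtype.val hn⟩
  · obtain ⟨n, hn⟩ := horb ⟨a, hAL ha⟩ ha ⟨b, hAL hb⟩ hb ⟨c, hAL hc⟩ hc
      (fun e => ha1 (congrArg Subtype.val e)) (fun e => hb1 (congrArg Subtype.val e))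
      (fun e => hc1 (congrArg Subtype.val e))
    refine ⟨n, ?_⟩
    rcases hn with e | e | e
    · exact Or.inl (congrArg Subtype.val e)
    · exact Or.inr (Or.inl (congrArg Subtype.val e))
    · exact Or.inr (Or.inr (congrArg Subtype.val e))
  · obtain ⟨w, hw⟩ := hweyl hp ⟨a, hAL ha⟩ ha (fun e => ha1 (congrArg Subtype.val e))
    exact ⟨w, w.2, hw.not_mem, congrArg Subtype.val hw.sq, congrArg Subtype.val hw.conj_t,
      congrArg Subtype.val hw.za, congrArg Subtype.val hw.zw, congrArg Subtype.val hw.rel,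
      congrArg Subtype.val hw.cube⟩

end transfer

variable {H : Type*} [Group H] [Finite H] {p : ℕ} [hp : Fact p.Prime]

theorem mem_conjS_self {k x : H} {A : Subgroup H} (hx : x ∈ A) : k * x * k⁻¹ ∈ conjS k A := ⟨x, hx, rfl⟩

theorem conjS_mono {k : H} {A B : Subgroup H} (h : A ≤ B) : conjS k A ≤ conjS k B := Subgroup.map_mono h

theorem conjS_sup (k : H) (A B : Subgroup H) : conjS k (A ⊔ B) = conjS k A ⊔ conjS k B := Subgroup.map_sup _ _ _

theorem conjS_le_iff {k : H} {A B : Subgroup H} : conjS k A ≤ B ↔ A ≤ conjS k⁻¹ B := by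
  constructor
  · intro h
    have := conjS_mono (k := k⁻¹) h
    rwa [conjS_mul, inv_mul_cancel, conjS_one] at this
  · intro h
    have := conjS_mono (k := k) h
    rwa [conjS_mul, mul_inv_cancel, conjS_one] at this

theorem conjS_top (k : H) : conjS k (⊤ : Subgroup H) = ⊤ :=
  Subgroup.map_top_of_surjective _ (MulAut.conj k).surjective

theorem conjS_of_mem {k : H} {A : Subgroup H} (hk : k ∈ A) : conjS k A = A :=
  Subgroup.eq_of_le_of_card_ge (conjS_le hk le_rfl) (by rw [card_conjS])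

theorem conjS_of_mem_normalizer {k : H} {A : Subgroup H} (hk : k ∈ Subgroup.normalizer (A : Set H)) :
    conjS k A = A :=
  Subgroup.eq_of_le_of_card_ge (by rintro _ ⟨a, ha, rfl⟩; exact (Subgroup.mem_normalizer_iff.1 hk a).1 ha)
    (by rw [card_conjS])

theorem mem_normalizer_of_conjS {k : H} {A : Subgroup H} (hk : conjS k A = A) :
    k ∈ Subgroup.normalizer (A : Set H) := by
  refine Subgroup.mem_normalizer_iff.2 fun a => ⟨fun ha => hk ▸ mem_conjS_self ha, fun ha => ?_⟩
  rw [← hk, mem_conjS] at ha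
  simpa [mul_assoc] using ha

omit hp in
/-- A proper subgroup of a `p`-group is properly normalised. -/
theorem exists_normalizing [Fact p.Prime] {Q T : Subgroup H} (hQ : IsPGroup p Q) (hTQ : T ≤ Q) (hne : T ≠ Q) :
    ∃ y ∈ Q, y ∉ T ∧ y ∈ Subgroup.normalizer (T : Set H) := by
  haveI := hQ.isNilpotent
  have hlt : T.subgroupOf Q < ⊤ := lt_top_iff_ne_top.2 fun h => hne (le_antisymm hTQ (Subgroup.subgroupOf_eq_top.1 h))
  obtain ⟨y, hy, hy'⟩ := SetLike.exists_of_lt (Group.normalizerCondition_of_isNilpotent (G := Q) _ hlt)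
  refine ⟨y, y.2, hy', mem_normalizer_of_conjS (Subgroup.eq_of_le_of_card_ge ?_ (by rw [card_conjS]))⟩
  rintro _ ⟨t, ht, rfl⟩
  exact ((Subgroup.mem_normalizer_iff.1 hy) ⟨t, hTQ ht⟩).1 ht

variable {V : Type*} [AddCommGroup V] [DistribMulAction H V]

/-- The standing hypotheses on a module. -/
structure Sit (p : ℕ) (V : Type*) [AddCommGroup V] [DistribMulAction H V] (S : Sylow p H) (M : Subgroup H) :
    Prop where
  faith : ∀ g : H, (∀ v : V, g • v = v) → g = 1
  ppow : ∀ v : V, ∃ k : ℕ, p ^ k • v = 0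
  Mne : M ≠ ⊤
  SM : (S : Subgroup H) ≤ M
  up : ∀ K : Subgroup H, (S : Subgroup H) ≤ K → K ≠ ⊤ → K ≤ M
  core : ∀ N : Subgroup H, N.Normal → IsPGroup p N → N = ⊥
  cent : ∀ g : H, (∀ v ∈ fx V (S : Subgroup H), g • v = v) → g ∈ M

/-- A strict quadratic offender. -/
structure Offd (p : ℕ) (V : Type*) [AddCommGroup V] [DistribMulAction H V] (A : Subgroup H) : Prop where
  pg : IsPGroup p A
  ne : A ≠ ⊥
  comm : ∀ a ∈ A, ∀ b ∈ A, a * b = b * a
  bound : Nat.card V ≤ meas V A
  strict : ∀ B ≤ A, B ≠ ⊥ → B ≠ A → meas V B < meas V A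
  quad : ∀ a ∈ A, ∀ v : V, a • v - v ∈ fx V A

theorem Offd.conj {A : Subgroup H} (h : Offd p V A) (k : H) : Offd p V (conjS k A) := by
  refine ⟨h.pg.map _, fun he => h.ne ((Subgroup.map_eq_bot_iff_of_injective A (MulAut.conj k).injective).1 he),
    ?_, by rw [meas_conjS]; exact h.bound, fun B hB hB0 hB1 => ?_, ?_⟩
  · rintro _ ⟨a, ha, rfl⟩ _ ⟨b, hb, rfl⟩
    rw [← map_mul, ← map_mul, h.comm a ha b hb]
  · rw [meas_conjS, show B = conjS k (conjS k⁻¹ B) by rw [conjS_mul, mul_inv_cancel, conjS_one], meas_conjS]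
    refine h.strict _ (conjS_le_iff.2 (by rwa [inv_inv])) (fun he => hB0 ?_) fun he => hB1 ?_
    · exact (Subgroup.map_eq_bot_iff_of_injective B (MulAut.conj k⁻¹).injective).1 he
    · rw [← he, conjS_mul, mul_inv_cancel, conjS_one]
  · rintro _ ⟨a, ha, rfl⟩ v
    rw [mem_fx_conjS]
    show k⁻¹ • ((k * a * k⁻¹) • v - v) ∈ fx V A
    rw [mul_smul, mul_smul, smul_sub, inv_smul_smul]
    exact h.quad a ha _

namespace Sit

variable {S : Sylow p H} {M : Subgroup H}

theorem le_of_pgroup (hs : Sit p V S M) {P : Subgroup H} (hP : IsPGroup p P) (hPM : P ≤ M) :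
    ∃ m ∈ M, P ≤ conjS m (S : Subgroup H) := by
  obtain ⟨Q, hQ⟩ := (hP.of_equiv (Subgroup.subgroupOfEquivOfLe hPM).symm).exists_le_sylow
  obtain ⟨m, hm⟩ := MulAction.exists_smul_eq M (S.subtype hs.SM) Q
  refine ⟨m, m.2, fun b hb => ?_⟩
  have hbQ : (⟨b, hPM hb⟩ : M) ∈ ((m • S.subtype hs.SM : Sylow p M) : Subgroup M) := hm ▸ hQ hb
  obtain ⟨t, ht, hte⟩ := hbQ
  rw [mem_conjS]
  have hte' : (m : H) * (t : H) * (m : H)⁻¹ = b := congrArg Subtype.val hte
  rw [← hte']
  simp only [mul_assoc, inv_mul_cancel_left, inv_mul_cancel, mul_one]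
  exact ht

theorem sylow_ne_bot_imp (hs : Sit p V S M) (hS : (S : Subgroup H) ≠ ⊥) :
    Subgroup.normalizer ((S : Subgroup H) : Set H) ≤ M :=
  hs.up _ Subgroup.le_normalizer fun h =>
    hS (hs.core _ (Subgroup.normalizer_eq_top_iff.1 h) S.isPGroup')

/-- The situation at another conjugate. -/
theorem conj (hs : Sit p V S M) (k : H) : Sit p V (k • S) (conjS k M) := by
  refine ⟨hs.faith, hs.ppow, fun h => hs.Mne ?_, conjS_mono hs.SM, fun K hK hK1 => ?_, hs.core, fun g hg => ?_⟩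
  · have := congrArg (conjS k⁻¹) h
    rwa [conjS_mul, inv_mul_cancel, conjS_one, conjS_top] at this
  · refine (show K ≤ conjS k⁻¹⁻¹ M from ?_).trans_eq (by rw [inv_inv])
    refine conjS_le_iff.1 (hs.up _ ?_ fun h => hK1 ?_)
    · have h2 := conjS_le_iff.1 (show conjS k (S : Subgroup H) ≤ K from hK)
      exact h2
    · have := congrArg (conjS k) h
      rwa [conjS_mul, mul_inv_cancel, conjS_one, conjS_top] at this
  · rw [mem_conjS]
    refine hs.cent _ fun v hv => ?_
    have h := hg (k • v) (mem_fx_conjS.2 (show k⁻¹ • k • v ∈ fx V (S : Subgroup H) by rwa [inv_smul_smul]))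
    rw [mul_smul, mul_smul, h, inv_smul_smul]

variable [Finite V]

/-- The natural `SL₂(q)` through an offender inside a group normalising `D`. -/
theorem loc (hs : Sit p V S M) (hp2 : p ≠ 2) {A D U : Subgroup H} (hA : Offd p V A)
    (hAS : A ≤ (S : Subgroup H)) (hDS : D ≤ (S : Subgroup H)) (hAU : A ≤ U)
    (hUD : U ≤ Subgroup.normalizer (D : Set H)) (hUM : ¬ U ≤ M)
    (huniq : ∀ g : H, D ⊔ A ≤ conjS g (S : Subgroup H) → g ∈ M) :
    ∃ (L : Subgroup H) (t z : H), A ≤ L ∧ L ≤ U ∧ ¬ L ≤ M ∧ Kit p V M A L t z := by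
  classical
  obtain ⟨L, ⟨hAL, hLU, hLM⟩, hLmin⟩ := (Set.toFinite {X : Subgroup H | A ≤ X ∧ X ≤ U ∧ ¬ X ≤ M}).exists_minimal
    ⟨U, hAU, le_rfl, hUM⟩
  have hAM : A ≤ M := hAS.trans hs.SM
  have hDp : IsPGroup p D := S.isPGroup'.to_le hDS
  have heq : ∀ X : Subgroup H, A ≤ X → X ≤ L → ¬ X ≤ M → X = L := fun X h1 h2 h3 =>
    le_antisymm h2 (hLmin ⟨h1, h2.trans hLU, h3⟩ h2)
  have hgen : ∀ x ∈ L, x ∉ M → A ⊔ conjS x A = L := by
    intro x hxL hxM
    refine heq _ le_sup_left (sup_le hAL (conjS_le hxL hAL)) fun hle => hxM ?_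
    have hxA : conjS x A ≤ Subgroup.normalizer (D : Set H) := (conjS_le hxL hAL).trans (hLU.trans hUD)
    obtain ⟨m, hm, hle'⟩ := hs.le_of_pgroup
      (IsPGroup.to_sup_of_normal_left' hDp (hA.pg.map _) hxA)
      (sup_le (hDS.trans hs.SM) (le_sup_right.trans hle))
    have hxD : conjS x⁻¹ D = D := conjS_of_mem_normalizer (inv_mem (hUD (hLU hxL)))
    have h2 := conjS_mono (k := x⁻¹) hle'
    rw [conjS_sup, hxD, conjS_mul, conjS_mul, inv_mul_cancel, conjS_one] at h2
    have h3 := huniq _ h2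
    have h4 : x = m * (x⁻¹ * m)⁻¹ := by group
    rw [h4]
    exact mul_mem hm (inv_mem h3)
  -- a Sylow subgroup of `L` inside `M`
  obtain ⟨T, ⟨hAT, hTL, hTp⟩, hTmax⟩ := (Set.toFinite
    {X : Subgroup H | A ≤ X ∧ X ≤ L ⊓ M ∧ IsPGroup p X}).exists_maximal ⟨A, le_rfl, le_inf hAL hAM, hA.pg⟩
  have hTmax' : ∀ Q : Subgroup H, IsPGroup p Q → T ≤ Q → Q ≤ L → Q = T := by
    intro Q hQ hTQ hQL
    by_contra hne
    obtain ⟨y, hyQ, hyT, hyN⟩ := exists_normalizing hQ hTQ (Ne.symm hne)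
    have hyM : y ∈ M := by
      by_contra hyM
      refine hLM ?_
      rw [← hgen y (hQL hyQ) hyM]
      exact sup_le hAM ((conjS_mono hAT).trans ((conjS_of_mem_normalizer hyN).le.trans (hTL.trans inf_le_right)))
    have hle : T ⊔ Subgroup.zpowers y ≤ Q := sup_le hTQ (Subgroup.zpowers_le.2 hyQ)
    refine hyT (hTmax ⟨hAT.trans le_sup_left, ?_, hQ.to_le hle⟩ le_sup_left
      (Subgroup.mem_sup_right (Subgroup.mem_zpowers y)))
    exact le_inf (hle.trans hQL) (sup_le (hTL.trans inf_le_right) (Subgroup.zpowers_le.2 hyM))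
  have hTL' : T ≤ L := hTL.trans inf_le_left
  let T' : Sylow p L := ⟨T.subgroupOf L, hTp.of_equiv (Subgroup.subgroupOfEquivOfLe hTL').symm, fun {Q} hQ hle => by
    have h1 : Q.map L.subtype = T := hTmax' _ (hQ.map _)
      (by rw [← Subgroup.map_subgroupOf_eq_of_le hTL']; exact Subgroup.map_mono hle) (Subgroup.map_subtype_le _)
    rw [← h1, Subgroup.subgroupOf, Subgroup.comap_map_eq_self_of_injective L.subtype_injective]⟩
  -- a vector fixed by it
  have hTN : T ≤ Subgroup.normalizer (D : Set H) := hTL'.trans (hLU.trans hUD)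
  obtain ⟨m, hm, hle⟩ := hs.le_of_pgroup (IsPGroup.to_sup_of_normal_left' hDp hTp hTN)
    (sup_le (hDS.trans hs.SM) (hTL.trans inf_le_right))
  obtain ⟨v, hv, g, hgL, hgv⟩ : ∃ v ∈ fx V (conjS m (S : Subgroup H)), ∃ g ∈ L, g • v ≠ v := by
    by_contra hc
    push Not at hc
    refine hLM fun g hg => ?_
    have h1 : m⁻¹ * g * m ∈ M := hs.cent _ fun v hv => by
      rw [mul_smul, mul_smul, hc (m • v) (mem_fx_conjS.2 (by rwa [inv_smul_smul])) g hg, inv_smul_smul]
    have h2 := mul_mem (mul_mem hm h1) (inv_mem hm)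
    simpa [mul_assoc] using h2
  have hd : PMinFF.Data p V (M.subgroupOf L) (A.subgroupOf L) T' v := by
    refine ⟨fun g hg => Subtype.ext (hs.faith _ hg), hs.ppow, fun a ha => hAT ha, fun a ha => (hTL ha).2,
      fun h => hLM (Subgroup.subgroupOf_eq_top.1 h), fun h => ?_, ?_, fun B hB hB0 hB1 => ?_, ?_, fun x hx => ?_,
      fun t ht => hv _ (hle (Subgroup.mem_sup_right ht)), ⟨⟨g, hgL⟩, hgv⟩, fun N hN hNM => ?_⟩
    · refine hA.ne ?_
      rw [← Subgroup.map_subgroupOf_eq_of_le hAL, h, Subgroup.map_bot]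
    · rw [card_subgroupOf hAL, fx_subgroupOf hAL]
      exact hA.bound
    · have hBA : B.map L.subtype ≤ A := by
        rw [← Subgroup.map_subgroupOf_eq_of_le hAL]; exact Subgroup.map_mono hB
      have hB' : B = (B.map L.subtype).subgroupOf L :=
        (Subgroup.comap_map_eq_self_of_injective L.subtype_injective B).symm
      rw [card_subgroupOf hAL, fx_subgroupOf hAL, hB', card_subgroupOf (hBA.trans hAL),
        fx_subgroupOf (hBA.trans hAL)]
      refine hA.strict _ hBA (fun he => hB0 ?_) fun he => hB1 ?_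
      · rw [hB', he, Subgroup.bot_subgroupOf]
      · rw [hB', he]
    · intro a ha w
      rw [fx_subgroupOf hAL]
      exact hA.quad a ha w
    · refine Subgroup.map_injective L.subtype_injective ?_
      have hcomp : L.subtype.comp (MulAut.conj x).toMonoidHom = (MulAut.conj (x : H)).toMonoidHom.comp L.subtype :=
        rfl
      rw [Subgroup.map_sup, Subgroup.map_subgroupOf_eq_of_le hAL, ← MonoidHom.range_eq_map, Subgroup.range_subtype,
        conjS, Subgroup.map_map, hcomp, ← Subgroup.map_map, Subgroup.map_subgroupOf_eq_of_le hAL]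
      exact hgen x x.2 hx
    · -- Frattini
      haveI := hN
      set X := (T' : Subgroup L) ⊓ N with hX
      by_contra hne
      have hTX : (T' : Subgroup L) ≤ Subgroup.normalizer (X : Set L) := fun t ht => by
        refine mem_normalizer_of_conjS (Subgroup.eq_of_le_of_card_ge ?_ (by rw [card_conjS]))
        rintro _ ⟨y, hy, rfl⟩
        exact ⟨(T' : Subgroup L).mul_mem ((T' : Subgroup L).mul_mem ht hy.1) ((T' : Subgroup L).inv_mem ht), hN.conj_mem y hy.2 t⟩
      have hnM : Subgroup.normalizer (X : Set L) ≤ M.subgroupOf L := by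
        intro y hy
        by_contra hyM
        refine hne (Subgroup.normalizer_eq_top_iff.1 ?_)
        have hAX : A ≤ (Subgroup.normalizer (X : Set L)).map L.subtype := fun a ha =>
          ⟨⟨a, hAL ha⟩, hTX (hAT ha), rfl⟩
        have h1 := heq _ hAX (Subgroup.map_subtype_le _) fun h => hyM (h ⟨y, hy, rfl⟩)
        refine Subgroup.map_injective L.subtype_injective ?_
        rw [h1, ← MonoidHom.range_eq_map, Subgroup.range_subtype]
      have hfr : Subgroup.normalizer (X : Set L) ⊔ N = ⊤ := by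
        have hidx : ¬ p ∣ (X.subgroupOf N).index := by
          have h1 : (X.subgroupOf N).index ∣ (T' : Subgroup L).index := by
            show X.relIndex N ∣ _
            have e1 := Subgroup.relIndex_mul_relIndex X N ((T' : Subgroup L) ⊔ N) inf_le_right le_sup_right
            have e2 := Subgroup.relIndex_mul_relIndex X (T' : Subgroup L) ((T' : Subgroup L) ⊔ N) inf_le_left
              le_sup_left
            rw [Subgroup.relIndex_sup_right, ← e2, hX, Subgroup.inf_relIndex_left, mul_comm (N.relIndex _)] at e1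
            rw [hX, Nat.eq_of_mul_eq_mul_right (Nat.pos_of_ne_zero Subgroup.index_ne_zero_of_finite) e1]
            exact Subgroup.relIndex_dvd_index_of_le le_sup_left
          exact fun h => T'.not_dvd_index (h.trans h1)
        have hXp : IsPGroup p (X.subgroupOf N) :=
          (T'.2.to_le inf_le_left).of_equiv (Subgroup.subgroupOfEquivOfLe (inf_le_right : X ≤ N)).symm
        have := Sylow.normalizer_sup_eq_top (hXp.toSylow hidx)
        rwa [IsPGroup.toSylow_coe, Subgroup.map_subgroupOf_eq_of_le (inf_le_right : X ≤ N)] at this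
      have : (⊤ : Subgroup L) ≤ M.subgroupOf L := hfr.ge.trans (sup_le hnM hNM)
      exact hLM (Subgroup.subgroupOf_eq_top.1 (top_le_iff.1 this))
  obtain ⟨t, z, hk⟩ := kit_of_data hd hp2
  exact ⟨L, t, z, hAL, hLU, hLM, hk.of_sub hAL⟩

end Sit

end Cfsg.Agent.T3
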