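/-
Maximal intersections of Sylow subgroups, measured by the members of a class of subgroups which they share.
-/
import Cfsg.Agent.Lib.Transfer3.Setting

set_option autoImplicit false
set_option linter.unusedSectionVars false
set_option linter.style.haveILetI false

namespace Cfsg.Agent.T3

open Cfsg.Agent.FFEmb

variable {H : Type*} [Group H] [Finite H] {p : ℕ} [hp : Fact p.Prime]

/-- The members of the class contained in two conjugates of the Sylow subgroup. -/
def com (E : Subgroup H → Prop) (S : Sylow p H) (x y : H) : Set (Subgroup H) :=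
  {A | E A ∧ A ≤ conjS x (S : Subgroup H) ∧ A ≤ conjS y (S : Subgroup H)}

/-- `(S, Sᵍ)` shares as many members as possible. -/
def Top (E : Subgroup H → Prop) (S : Sylow p H) (M : Subgroup H) (g : H) : Prop :=
  g ∉ M ∧ ∀ x y : H, x⁻¹ * y ∉ M → (com E S x y).ncard ≤ (com E S 1 g).ncard

theorem sylow_smul_coe (k : H) (S : Sylow p H) : ((k • S : Sylow p H) : Subgroup H) = conjS k (S : Subgroup H) := rfl

theorem com_smul (E : Subgroup H → Prop) (S : Sylow p H) (k x y : H) :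
    com E (k • S) x y = com E S (x * k) (y * k) := by
  simp only [com, sylow_smul_coe, conjS_mul]

theorem exists_top (E : Subgroup H → Prop) (S : Sylow p H) {M : Subgroup H} (hM : M ≠ ⊤) :
    ∃ k g : H, Top E (k • S) (conjS k M) g := by
  classical
  obtain ⟨g0, hg0⟩ : ∃ g, g ∉ M := by
    by_contra h
    push Not at h
    exact hM (eq_top_iff.2 fun x _ => h x)
  haveI : Nonempty {xy : H × H // xy.1⁻¹ * xy.2 ∉ M} := ⟨⟨(1, g0), by simpa using hg0⟩⟩
  obtain ⟨⟨⟨x, y⟩, hxy⟩, hmax⟩ :=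
    Finite.exists_max fun xy : {xy : H × H // xy.1⁻¹ * xy.2 ∉ M} => (com E S xy.1.1 xy.1.2).ncard
  refine ⟨x, y * x⁻¹, ?_, fun x' y' h => ?_⟩
  · rw [mem_conjS]
    simpa [mul_assoc] using hxy
  · rw [com_smul, com_smul, one_mul, inv_mul_cancel_right]
    refine hmax ⟨(x' * x, y' * x), fun h' => h ?_⟩
    rw [mem_conjS]
    simpa [mul_assoc] using h'

variable {E : Subgroup H → Prop}

/-- Outside a set of members closed inside its own join there is one normalising the join. -/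
theorem exists_extra (hEc : ∀ A, E A → ∀ k : H, E (conjS k A)) {Q : Subgroup H} (hQ : IsPGroup p Q)
    {C : Set (Subgroup H)} (hC : ∀ A ∈ C, E A ∧ A ≤ Q) (hcl : ∀ A, E A → A ≤ sSup C → A ∈ C)
    {A₀ : Subgroup H} (h0 : E A₀) (h0Q : A₀ ≤ Q) (h0C : A₀ ∉ C) :
    ∃ A, E A ∧ A ≤ Q ∧ A ∉ C ∧ A ≤ Subgroup.normalizer ((sSup C : Subgroup H) : Set H) := by
  by_contra hc
  push Not at hc
  set D := sSup C with hD
  set N := Q ⊓ Subgroup.normalizer (D : Set H) with hN
  have hCN : ∀ A ∈ C, A ≤ N := fun A hA => le_inf (hC A hA).2 ((le_sSup hA).trans Subgroup.le_normalizer)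
  have hNmem : ∀ A, E A → A ≤ N → A ∈ C := fun A hA hAN => by
    by_contra hAC
    exact hc A hA (hAN.trans inf_le_left) hAC (hAN.trans inf_le_right)
  have hNQ : N = Q := by
    by_contra hne
    obtain ⟨y, hyQ, hyN, hy⟩ := exists_normalizing hQ inf_le_left hne
    refine hyN ⟨hyQ, mem_normalizer_of_conjS (Subgroup.eq_of_le_of_card_ge ?_ (by rw [card_conjS]))⟩
    rw [conjS_le_iff, hD, sSup_le_iff]
    intro A hA
    refine conjS_le_iff.1 ((show conjS y A ≤ sSup C from le_sSup (hNmem _ (hEc A (hC A hA).1 y) ?_)))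
    exact (conjS_mono (hCN A hA)).trans (conjS_of_mem_normalizer hy).le
  exact h0C (hNmem A₀ h0 (hNQ ▸ h0Q))

variable {V : Type*} [AddCommGroup V] [DistribMulAction H V] {S : Sylow p H} {M : Subgroup H}

/-- What a maximal intersection gives. -/
theorem Top.step (hs : Sit p V S M) (hEc : ∀ A, E A → ∀ k : H, E (conjS k A)) (hEne : ∀ A, E A → A ≠ ⊥)
    (hex : ∃ A, E A ∧ A ≤ (S : Subgroup H)) {g : H} (ht : Top E S M g) :
    ¬ Subgroup.normalizer ((sSup (com E S 1 g) : Subgroup H) : Set H) ≤ M ∧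
      sSup (com E S 1 g) ≤ (S : Subgroup H) ∧
      (∃ A, E A ∧ A ≤ (S : Subgroup H) ∧ A ∉ com E S 1 g ∧
        A ≤ Subgroup.normalizer ((sSup (com E S 1 g) : Subgroup H) : Set H)) ∧
      ∀ A, E A → A ≤ (S : Subgroup H) → A ∉ com E S 1 g → ∀ k : H,
        sSup (com E S 1 g) ⊔ A ≤ conjS k (S : Subgroup H) → k ∈ M := by
  obtain ⟨hg, hmax⟩ := ht
  set C := com E S 1 g with hC
  set D := sSup C with hD
  have hDS : D ≤ (S : Subgroup H) := sSup_le fun A hA => by
    have := hA.2.1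
    rwa [conjS_one] at this
  have hDg : D ≤ conjS g (S : Subgroup H) := sSup_le fun A hA => hA.2.2
  have hcl : ∀ A, E A → A ≤ D → A ∈ C := fun A hA hAD =>
    ⟨hA, by rw [conjS_one]; exact hAD.trans hDS, hAD.trans hDg⟩
  have hfin : ∀ s : Set (Subgroup H), s.Finite := fun s => Set.toFinite s
  obtain ⟨A₀, hA₀, hA₀S⟩ := hex
  set ES := {A : Subgroup H | E A ∧ A ≤ (S : Subgroup H)} with hES
  set Eg := {A : Subgroup H | E A ∧ A ≤ conjS g (S : Subgroup H)} with hEg
  have hsubS : C ⊆ ES := fun A hA => ⟨hA.1, by have := hA.2.1; rwa [conjS_one] at this⟩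
  have hsubg : C ⊆ Eg := fun A hA => ⟨hA.1, hA.2.2⟩
  have hcard : ES.ncard = Eg.ncard := by
    refine Set.ncard_congr (fun A _ => conjS g A) (fun A hA => ⟨hEc A hA.1 g, conjS_mono hA.2⟩)
      (fun A B _ _ h => ?_) fun B hB => ⟨conjS g⁻¹ B, ⟨hEc B hB.1 _, ?_⟩, ?_⟩
    · have := congrArg (conjS g⁻¹) h
      rwa [conjS_mul, conjS_mul, inv_mul_cancel, conjS_one, conjS_one] at this
    · rw [conjS_le_iff, inv_inv]; exact hB.2
    · rw [conjS_mul, mul_inv_cancel, conjS_one]
  have hSne : (S : Subgroup H) ≠ ⊥ := fun h => hEne A₀ hA₀ (le_bot_iff.1 (h ▸ hA₀S))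
  have hnot : ¬ ES ⊆ C := by
    intro hsub
    have hCS : C = ES := subset_antisymm hsubS hsub
    have hCg : C = Eg := Set.eq_of_subset_of_ncard_le hsubg (by rw [hCS, hcard]) (hfin _)
    have hn : ∀ k : H, (∀ A ∈ C, conjS k A ∈ C) → k ∈ Subgroup.normalizer (D : Set H) := fun k hk => by
      refine mem_normalizer_of_conjS (Subgroup.eq_of_le_of_card_ge ?_ (by rw [card_conjS]))
      rw [conjS_le_iff, hD, sSup_le_iff]
      exact fun A hA => conjS_le_iff.1 (show conjS k A ≤ sSup C from le_sSup (hk A hA))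
    have h1 : (S : Subgroup H) ≤ Subgroup.normalizer (D : Set H) := fun k hk => hn k fun A hA => by
      rw [hCS] at hA ⊢
      exact ⟨hEc A hA.1 k, (conjS_mono hA.2).trans (conjS_of_mem hk).le⟩
    have h2 : conjS g (S : Subgroup H) ≤ Subgroup.normalizer (D : Set H) := fun k hk => hn k fun A hA => by
      rw [hCg] at hA ⊢
      exact ⟨hEc A hA.1 k, (conjS_mono hA.2).trans (conjS_of_mem hk).le⟩
    have h3 : Subgroup.normalizer (D : Set H) ≤ M := hs.up _ h1 fun htop => hEne A₀ hA₀ (le_bot_iff.1 (by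
      rw [← hs.core D (Subgroup.normalizer_eq_top_iff.1 htop) (S.isPGroup'.to_le hDS)]
      exact le_sSup (hsub ⟨hA₀, hA₀S⟩)))
    obtain ⟨m, hm, hle⟩ := hs.le_of_pgroup (S.isPGroup'.map _) (h2.trans h3)
    have h4 : conjS (m⁻¹ * g) (S : Subgroup H) = (S : Subgroup H) := by
      refine Subgroup.eq_of_le_of_card_ge ?_ (by rw [card_conjS])
      rw [← conjS_mul, conjS_le_iff, inv_inv]
      exact hle
    have h5 := hs.sylow_ne_bot_imp hSne (mem_normalizer_of_conjS h4)
    exact hg (by simpa using mul_mem hm h5)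
  obtain ⟨A₁, hA₁, hA₁C⟩ := Set.not_subset.1 hnot
  refine ⟨fun hle => ?_, hDS, exists_extra hEc S.isPGroup' (fun A hA => hsubS hA) hcl hA₁.1 hA₁.2 hA₁C, ?_⟩
  · obtain ⟨A₂, hA₂, hA₂C⟩ := Set.not_subset.1 (show ¬ Eg ⊆ C from fun hsub => hnot (by
      rw [Set.eq_of_subset_of_ncard_le hsubS (by rw [hcard]; exact Set.ncard_le_ncard hsub (hfin _)) (hfin _)]))
    obtain ⟨A, hA, hAg, hAC, hAN⟩ := exists_extra hEc (S.isPGroup'.map _) (fun B hB => hsubg hB) hcl hA₂.1 hA₂.2 hA₂C
    obtain ⟨m, hm, hle'⟩ := hs.le_of_pgroup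
      (IsPGroup.to_sup_of_normal_left' (S.isPGroup'.to_le hDS) ((S.isPGroup'.map _).to_le hAg) hAN)
      (sup_le (Subgroup.le_normalizer.trans hle) (hAN.trans hle))
    have h6 : m⁻¹ * g ∉ M := fun h => hg (by simpa using mul_mem hm h)
    refine absurd (hmax m g h6) (not_le.2 (lt_of_lt_of_le (Nat.lt_succ_self _) ?_))
    rw [Nat.succ_eq_add_one, ← Set.ncard_insert_of_notMem hAC (hfin _)]
    refine Set.ncard_le_ncard (fun B hB => ?_) (hfin _)
    rcases hB with rfl | hB
    · exact ⟨hA, le_sup_right.trans hle', hAg⟩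
    · exact ⟨hB.1, ((le_sSup hB).trans le_sup_left).trans hle', hB.2.2⟩
  · intro A hA hAS hAC k hk
    by_contra hkM
    refine absurd (hmax 1 k (by simpa using hkM)) (not_le.2 (lt_of_lt_of_le (Nat.lt_succ_self _) ?_))
    rw [Nat.succ_eq_add_one, ← Set.ncard_insert_of_notMem hAC (hfin _)]
    refine Set.ncard_le_ncard (fun B hB => ?_) (hfin _)
    rcases hB with rfl | hB
    · exact ⟨hA, by rwa [conjS_one], le_sup_right.trans hk⟩
    · exact ⟨hB.1, hB.2.1, ((le_sSup hB).trans le_sup_left).trans hk⟩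

end Cfsg.Agent.T3
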