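/-
Every strict quadratic offender sits in a natural `SL₂(q)`; hence `|P| |C_V(P)| ≤ |V|` for every abelian
`p`-subgroup, on the module and on its dual.
-/
import Cfsg.Agent.Lib.Transfer3.Top
import Mathlib.Analysis.Fourier.FiniteAbelian.PontryaginDuality

set_option autoImplicit false
set_option linter.unusedSectionVars false
set_option linter.style.haveILetI false

namespace Cfsg.Agent.T3

open Cfsg.Agent.FFEmb

variable {H : Type*} [Group H] [Finite H] {p : ℕ} [hp : Fact p.Prime]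
  {V : Type*} [AddCommGroup V] [DistribMulAction H V] {S : Sylow p H} {M : Subgroup H}

theorem exists_conj_le (S : Sylow p H) {P : Subgroup H} (hP : IsPGroup p P) :
    ∃ k : H, conjS k P ≤ (S : Subgroup H) := by
  obtain ⟨Q, hQ⟩ := hP.exists_le_sylow
  obtain ⟨k, hk⟩ := MulAction.exists_smul_eq H Q S
  exact ⟨k, by rw [← hk]; exact conjS_mono hQ⟩

theorem NatOff.meas_eq {A : Subgroup H} (h : NatOff V A) : meas V A = Nat.card V := h.card.symm

variable [Finite V]

theorem Sit.natOff (hs : Sit p V S M) (hp2 : p ≠ 2) {A : Subgroup H} (hA : Offd p V A) : NatOff V A := by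
  by_contra hA'
  let E : Subgroup H → Prop := fun X => Offd p V X ∧ ¬ NatOff V X
  have hEc : ∀ X, E X → ∀ k : H, E (conjS k X) := fun X hX k => ⟨hX.1.conj k, fun h => hX.2 (by
    have := h.conj k⁻¹
    rwa [conjS_mul, inv_mul_cancel, conjS_one] at this)⟩
  obtain ⟨k, g, hg⟩ := exists_top E S hs.Mne
  have hs' := hs.conj k
  obtain ⟨l, hl⟩ := exists_conj_le (k • S) hA.pg
  obtain ⟨hUM, hDS, ⟨B, hB, hBS, hBC, hBN⟩, huniq⟩ :=
    hg.step hs' hEc (fun X hX => hX.1.ne) ⟨_, hEc A ⟨hA, hA'⟩ l, hl⟩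
  obtain ⟨L, t, z, -, -, -, hk⟩ := hs'.loc hp2 hB.1 hBS hDS hBN le_rfl hUM (huniq B hB hBS hBC)
  exact hB.2 hk.pair.nat

/-- The main bound. -/
theorem Sit.bound (hs : Sit p V S M) (hp2 : p ≠ 2) {P : Subgroup H} (hP : IsPGroup p P)
    (hc : ∀ a ∈ P, ∀ b ∈ P, a * b = b * a) : meas V P ≤ Nat.card V := by
  suffices key : ∀ (n : ℕ) (P : Subgroup H), Nat.card P = n → IsPGroup p P →
      (∀ a ∈ P, ∀ b ∈ P, a * b = b * a) → meas V P ≤ Nat.card V from key _ P rfl hP hc
  intro n
  induction n using Nat.strong_induction_on with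
  | _ n ih =>
    intro P hn hP hc
    by_contra hlt
    rw [not_le] at hlt
    have hne : P ≠ ⊥ := by
      rintro rfl
      rw [meas_bot] at hlt
      exact lt_irrefl _ hlt
    have hsub : ∀ B ≤ P, B ≠ P → meas V B ≤ Nat.card V := fun B hB hB1 => ih (Nat.card B)
      (hn ▸ lt_of_le_of_ne (Subgroup.card_le_of_le hB) fun h => hB1 (Subgroup.eq_of_le_of_card_ge hB h.ge))
      B rfl (hP.to_le hB) fun a ha b hb => hc a (hB ha) b (hB hb)
    have hq : ∀ a ∈ P, ∀ v : V, a • v - v ∈ fx V P := by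
      by_contra hq
      obtain ⟨P', U, hP', hne', hU, -, hle, -⟩ := replacement hs.ppow hP hc hq
      have h1 := hsub P' hP' hne'
      have h2 : Nat.card P' * Nat.card U ≤ meas V P' := Nat.mul_le_mul_left _
        (Nat.card_le_card_of_injective (Set.inclusion hU) (Set.inclusion_injective _))
      omega
    have h := (hs.natOff hp2 ⟨hP, hne, hc, hlt.le, fun B hB _ hB1 => lt_of_le_of_lt (hsub B hB hB1) hlt, hq⟩).meas_eq
    omega

/-- A minimal offender. -/
structure IsMin (p : ℕ) (V : Type*) [AddCommGroup V] [DistribMulAction H V] (A : Subgroup H) : Prop where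
  pg : IsPGroup p A
  ne : A ≠ ⊥
  comm : ∀ a ∈ A, ∀ b ∈ A, a * b = b * a
  large : Nat.card V ≤ meas V A
  small : ∀ B ≤ A, B ≠ ⊥ → B ≠ A → meas V B < Nat.card V

theorem IsMin.conj {A : Subgroup H} (h : IsMin p V A) (k : H) : IsMin p V (conjS k A) := by
  refine ⟨h.pg.map _, fun he => h.ne ((Subgroup.map_eq_bot_iff_of_injective A (MulAut.conj k).injective).1 he),
    ?_, by rw [meas_conjS]; exact h.large, fun B hB hB0 hB1 => ?_⟩
  · rintro _ ⟨a, ha, rfl⟩ _ ⟨b, hb, rfl⟩
    rw [← map_mul, ← map_mul, h.comm a ha b hb]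
  · rw [show B = conjS k (conjS k⁻¹ B) by rw [conjS_mul, mul_inv_cancel, conjS_one], meas_conjS]
    refine h.small _ (conjS_le_iff.2 (by rwa [inv_inv])) (fun he => hB0 ?_) fun he => hB1 ?_
    · exact (Subgroup.map_eq_bot_iff_of_injective B (MulAut.conj k⁻¹).injective).1 he
    · rw [← he, conjS_mul, mul_inv_cancel, conjS_one]

theorem Sit.natOff_min (hs : Sit p V S M) (hp2 : p ≠ 2) {A : Subgroup H} (hA : IsMin p V A) : NatOff V A := by
  refine hs.natOff hp2 ⟨hA.pg, hA.ne, hA.comm, hA.large,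
    fun B hB hB0 hB1 => lt_of_lt_of_le (hA.small B hB hB0 hB1) hA.large, ?_⟩
  by_contra hq
  obtain ⟨P', U, hP', hne', hU, hUtop, hle, -⟩ := replacement hs.ppow hA.pg hA.comm hq
  have hUle : Nat.card U ≤ Nat.card (fx V P') :=
    Nat.card_le_card_of_injective (Set.inclusion hU) (Set.inclusion_injective _)
  rcases eq_or_ne P' ⊥ with rfl | h0
  · rw [Subgroup.card_bot, one_mul] at hle
    exact hUtop (AddSubgroup.eq_top_of_le_card U (hA.large.trans hle))
  · have h1 := hA.small P' hP' h0 hne'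
    have h2 : Nat.card P' * Nat.card U ≤ meas V P' := Nat.mul_le_mul_left _ hUle
    have := hA.large
    omega

/-- A subgroup of large measure contains a minimal offender. -/
theorem exists_isMin {P : Subgroup H} (hP : IsPGroup p P) (hne : P ≠ ⊥)
    (hc : ∀ a ∈ P, ∀ b ∈ P, a * b = b * a) (hl : Nat.card V ≤ meas V P) : ∃ A ≤ P, IsMin p V A := by
  obtain ⟨A, ⟨hAP, hA0, hAl⟩, hmin⟩ := (Set.toFinite
    {X : Subgroup H | X ≤ P ∧ X ≠ ⊥ ∧ Nat.card V ≤ meas V X}).exists_minimal ⟨P, le_rfl, hne, hl⟩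
  refine ⟨A, hAP, hP.to_le hAP, hA0, fun a ha b hb => hc a (hAP ha) b (hAP hb), hAl, fun B hB hB0 hB1 => ?_⟩
  by_contra hlt
  exact hB1 (le_antisymm hB (hmin ⟨hB.trans hAP, hB0, not_lt.1 hlt⟩ hB))

/-! ### the dual module -/

/-- The dual module. -/
def Dual (V : Type*) [AddCommGroup V] : Type _ := AddChar V ℂ

noncomputable instance : AddCommGroup (Dual V) := inferInstanceAs (AddCommGroup (AddChar V ℂ))

instance : Finite (Dual V) := inferInstanceAs (Finite (AddChar V ℂ))

instance : FunLike (Dual V) V ℂ := inferInstanceAs (FunLike (AddChar V ℂ) V ℂ)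

theorem Dual.ext {χ ψ : Dual V} (h : ∀ v, χ v = ψ v) : χ = ψ := AddChar.ext χ ψ h

theorem Dual.add_apply (χ ψ : Dual V) (v : V) : (χ + ψ) v = χ v * ψ v := rfl

theorem Dual.zero_apply (v : V) : (0 : Dual V) v = 1 := rfl

noncomputable instance : DistribMulAction H (Dual V) where
  smul h χ := AddChar.compAddMonoidHom χ (DistribSMul.toAddMonoidHom V h⁻¹)
  one_smul χ := Dual.ext fun v => by show χ ((1 : H)⁻¹ • v) = χ v; rw [inv_one, one_smul]
  mul_smul g h χ := Dual.ext fun v => by show χ ((g * h)⁻¹ • v) = χ (h⁻¹ • g⁻¹ • v); rw [mul_inv_rev, mul_smul]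
  smul_zero _ := Dual.ext fun _ => rfl
  smul_add _ _ _ := Dual.ext fun _ => rfl

theorem Dual.smul_apply (h : H) (χ : Dual V) (v : V) : (h • χ) v = χ (h⁻¹ • v) := rfl

theorem Dual.map_add (χ : Dual V) (v w : V) : χ (v + w) = χ v * χ w := AddChar.map_add_eq_mul (ψ := χ) v w

theorem Dual.map_zero (χ : Dual V) : χ 0 = 1 := AddChar.map_zero_eq_one (ψ := χ)

theorem Dual.exists_ne {v : V} (hv : v ≠ 0) : ∃ χ : Dual V, χ v ≠ 1 := AddChar.exists_apply_ne_zero.2 hv

theorem Dual.card_eq : Nat.card (Dual V) = Nat.card V := by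
  haveI := Fintype.ofFinite V
  show Nat.card (AddChar V ℂ) = _
  rw [Nat.card_eq_fintype_card, AddChar.card_eq, Nat.card_eq_fintype_card]

/-- The characters trivial on a subgroup. -/
noncomputable def Dual.infl (U : AddSubgroup V) (φ : AddChar (V ⧸ U) ℂ) : Dual V :=
  AddChar.compAddMonoidHom φ (QuotientAddGroup.mk' U)

theorem Dual.infl_apply (U : AddSubgroup V) (φ : AddChar (V ⧸ U) ℂ) (v : V) :
    Dual.infl U φ v = φ (v : V ⧸ U) := rfl

theorem Dual.infl_mem_fx (B : Subgroup H) (φ : AddChar (V ⧸ mv V B) ℂ) :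
    Dual.infl (mv V B) φ ∈ fx (Dual V) B := fun b hb => Dual.ext fun v => by
  rw [Dual.smul_apply, Dual.infl_apply, Dual.infl_apply]
  exact congrArg φ ((QuotientAddGroup.eq_iff_sub_mem).2 (sub_mem_mv (B.inv_mem hb) v))

theorem Dual.index_le (B : Subgroup H) : (mv V B).index ≤ Nat.card (fx (Dual V) B) := by
  haveI := Fintype.ofFinite (V ⧸ mv V B)
  have h : Nat.card (AddChar (V ⧸ mv V B) ℂ) = (mv V B).index := by
    rw [Nat.card_eq_fintype_card, AddChar.card_eq, AddSubgroup.index, Nat.card_eq_fintype_card]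
  rw [← h]
  refine Nat.card_le_card_of_injective (fun φ => ⟨Dual.infl _ φ, Dual.infl_mem_fx B φ⟩) fun φ ψ h => ?_
  refine AddChar.ext φ ψ fun x => ?_
  induction x using QuotientAddGroup.induction_on with
  | H v => exact congrArg (fun χ : fx (Dual V) B => (χ : Dual V) v) h

/-- The module is spanned by conjugates of the vectors fixed by the Sylow subgroup. -/
def Gen (V : Type*) [AddCommGroup V] [DistribMulAction H V] (S : Sylow p H) : Prop :=
  AddSubgroup.closure {u : V | ∃ g : H, ∃ v ∈ fx V (S : Subgroup H), u = g • v} = ⊤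

theorem Sit.dual (hs : Sit p V S M) (hgen : Gen V S) : Sit p (Dual V) S M := by
  refine ⟨fun g hg => hs.faith _ fun v => ?_, fun χ => ?_, hs.Mne, hs.SM, hs.up, hs.core, fun g hg => ?_⟩
  · by_contra hne
    obtain ⟨χ, hχ⟩ := Dual.exists_ne (sub_ne_zero.2 hne)
    refine hχ ?_
    have h := congrArg (fun ψ : Dual V => ψ (g • v)) (hg χ)
    simp only [Dual.smul_apply, inv_smul_smul] at h
    have h2 := Dual.map_add χ (g • v - v) v
    rw [sub_add_cancel, ← h] at h2
    exact mul_right_cancel₀ (AddChar.val_isUnit χ v).ne_zero (h2.symm.trans (one_mul _).symm)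
  · have hpg : IsPGroup p (Multiplicative V) := fun x => by
      obtain ⟨k, hk⟩ := hs.ppow (Multiplicative.toAdd x)
      exact ⟨k, congrArg Multiplicative.ofAdd hk⟩
    obtain ⟨n, hn⟩ := hpg.exists_card_eq
    refine ⟨n, ?_⟩
    have hn' : Nat.card (Dual V) = p ^ n := Dual.card_eq.trans hn
    rw [← hn']
    exact card_nsmul_eq_zero'
  · set W := fx (Dual V) (S : Subgroup H) with hW
    let K : Subgroup H :=
      { carrier := {k | ∀ χ ∈ W, k • χ = χ}
        one_mem' := fun χ _ => one_smul H χ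
        mul_mem' := fun {a b} ha hb χ hχ => by rw [mul_smul, hb χ hχ, ha χ hχ]
        inv_mem' := fun {a} ha χ hχ => inv_smul_eq_iff.2 (ha χ hχ).symm }
    refine hs.up K (fun s hs' χ hχ => hχ s hs') (fun htop => ?_) hg
    have hKfix : ∀ χ ∈ W, ∀ k : H, k • χ = χ := fun χ hχ k => (htop ▸ Subgroup.mem_top k : k ∈ K) χ hχ
    have hmv : ∀ (k : H) (v : V), k • v - v ∈ mv V (S : Subgroup H) := by
      intro k v
      by_contra hne
      obtain ⟨φ, hφ⟩ : ∃ φ : AddChar (V ⧸ mv V (S : Subgroup H)) ℂ, φ ((k • v - v : V) : V ⧸ _) ≠ 1 :=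
        AddChar.exists_apply_ne_zero.2 fun h => hne ((QuotientAddGroup.eq_zero_iff _).1 h)
      refine hφ ?_
      set χ := Dual.infl (mv V (S : Subgroup H)) φ with hχ
      have h := congrArg (fun ψ : Dual V => ψ (k • v)) (hKfix χ (Dual.infl_mem_fx _ φ) k)
      simp only [Dual.smul_apply, inv_smul_smul] at h
      have h2 := Dual.map_add χ (k • v - v) v
      rw [sub_add_cancel, ← h] at h2
      exact mul_right_cancel₀ (AddChar.val_isUnit χ v).ne_zero (h2.symm.trans (one_mul _).symm)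
    rcases eq_or_ne (fx V (S : Subgroup H)) ⊤ with hS | hS
    · refine hs.Mne (eq_top_iff.2 fun k _ => hs.cent k fun v _ => ?_)
      have h0 : mv V (S : Subgroup H) = ⊥ := le_bot_iff.1 (mv_le fun a ha v => by
        rw [AddSubgroup.mem_bot, (hS ▸ AddSubgroup.mem_top v : v ∈ fx V (S : Subgroup H)) a ha, sub_self])
      have := hmv k v
      rwa [h0, AddSubgroup.mem_bot, sub_eq_zero] at this
    · obtain ⟨U, ⟨hFU, hUinv, hUne⟩, hUmax⟩ := (Set.toFinite {U : AddSubgroup V | fx V (S : Subgroup H) ≤ U ∧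
        (∀ a ∈ (S : Subgroup H), ∀ u ∈ U, a • u ∈ U) ∧ U ≠ ⊤}).exists_maximal
        ⟨_, le_rfl, fun a ha u hu => by rw [hu a ha]; exact hu, hS⟩
      obtain ⟨v, hv, hv'⟩ := exists_fixed_mod hs.ppow S.isPGroup' hUinv hUne
      let U' : AddSubgroup V :=
        { carrier := {w | ∀ a ∈ (S : Subgroup H), a • w - w ∈ U}
          zero_mem' := fun a _ => by rw [smul_zero, sub_zero]; exact zero_mem _
          add_mem' := fun {x y} hx hy a ha => by
            rw [smul_add, add_sub_add_comm]; exact add_mem (hx a ha) (hy a ha)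
          neg_mem' := fun {x} hx a ha => by
            rw [smul_neg, neg_sub_neg, ← neg_sub]; exact neg_mem (hx a ha) }
      have hUU' : U ≤ U' := fun u hu a ha => sub_mem (hUinv a ha u hu) hu
      have hU'top : U' = ⊤ := by
        by_contra hne
        refine hv (hUmax ⟨hFU.trans hUU', fun a ha u hu => ?_, hne⟩ hUU' hv')
        have := add_mem (hUU' (hu a ha)) hu
        rwa [sub_add_cancel] at this
      have hSU : mv V (S : Subgroup H) ≤ U :=
        mv_le fun a ha w => (hU'top ▸ AddSubgroup.mem_top w : w ∈ U') a ha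
      refine hUne (eq_top_iff.2 (hgen.ge.trans ((AddSubgroup.closure_le _).2 ?_)))
      rintro _ ⟨k, w, hw, rfl⟩
      have := add_mem (hSU (hmv k w)) (hFU hw)
      rwa [sub_add_cancel] at this

/-- The bound read on the dual. -/
theorem Sit.card_le_mv (hs : Sit p V S M) (hgen : Gen V S) (hp2 : p ≠ 2) {P : Subgroup H} (hP : IsPGroup p P)
    (hc : ∀ a ∈ P, ∀ b ∈ P, a * b = b * a) : Nat.card P ≤ Nat.card (mv V P) := by
  have h1 : Nat.card P * (mv V P).index ≤ Nat.card (mv V P) * (mv V P).index :=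
    calc Nat.card P * (mv V P).index ≤ Nat.card P * Nat.card (fx (Dual V) P) :=
          Nat.mul_le_mul_left _ (Dual.index_le P)
      _ ≤ Nat.card (Dual V) := (hs.dual hgen).bound hp2 hP hc
      _ = _ := by rw [Dual.card_eq, AddSubgroup.card_mul_index]
  exact Nat.le_of_mul_le_mul_right h1 (Nat.pos_of_ne_zero AddSubgroup.index_ne_zero_of_finite)

end Cfsg.Agent.T3
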