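/-
The functor used next to the centre: `J` or the derived subgroup of the minimal centrally large subgroups of
`C(Z(J))`.
-/
import Cfsg.Agent.Lib.Fusion.FunctorCenterJ
import Cfsg.Agent.Lib.PushUp.Main

set_option autoImplicit false
set_option linter.unusedSectionVars false
set_option linter.style.haveILetI false

namespace Cfsg.Agent.T3

open Cfsg

universe u

variable (P : Type u) [Group P]

/-- `Z(J(P))`. -/
def zJ : Subgroup P := thompsonSubgroupA P ⊓ Subgroup.centralizer (thompsonSubgroupA P : Set P)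

/-- `C_P(Z(J(P)))`. -/
def cz : Subgroup P := Subgroup.centralizer (zJ P : Set P)

/-- All minimal centrally large subgroups are abelian. -/
def AbMcl : Prop := ∀ X : Subgroup P, IsMinimalCentrallyLarge X → IsMulCommutative X

/-- The derived subgroup of the minimal centrally large subgroups. -/
def dMcl : Subgroup P :=
  sSup {D | ∃ X : Subgroup P, IsMinimalCentrallyLarge X ∧ D = ⁅X, X⁆}

open Classical in
/-- The second functor. -/
noncomputable def wF (P : Type u) [Group P] : Subgroup P :=
  if AbMcl (cz P) then thompsonSubgroupA P else (dMcl (cz P)).map (cz P).subtype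

variable {P} {R : Type u} [Group R]

theorem map_centralizer_equiv (φ : P ≃* R) (X : Subgroup P) :
    (Subgroup.centralizer (X : Set P)).map φ.toMonoidHom = Subgroup.centralizer (X.map φ.toMonoidHom : Set R) := by
  ext y
  constructor
  · rintro ⟨x, hx, rfl⟩
    refine Subgroup.mem_centralizer_iff.2 ?_
    rintro _ ⟨h, hh, rfl⟩
    rw [← map_mul, ← map_mul, Subgroup.mem_centralizer_iff.1 hx h hh]
  · intro hy
    refine ⟨φ.symm y, Subgroup.mem_centralizer_iff.2 fun h hh => φ.injective ?_, φ.apply_symm_apply y⟩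
    rw [map_mul, map_mul, φ.apply_symm_apply]
    exact Subgroup.mem_centralizer_iff.1 hy (φ h) ⟨h, hh, rfl⟩

variable [Finite P]

theorem map_zJ (φ : P ≃* R) : (zJ P).map φ.toMonoidHom = zJ R := by
  rw [zJ, zJ, Subgroup.map_inf _ _ _ φ.injective, map_centralizer_equiv, Agent.FusionSys.map_thompsonA φ]

theorem map_cz (φ : P ≃* R) : (cz P).map φ.toMonoidHom = cz R := by
  rw [cz, cz, map_centralizer_equiv, map_zJ]

/-- An isomorphism restricted to `C(Z(J))`. -/
noncomputable def czEquiv (φ : P ≃* R) : ↥(cz P) ≃* ↥(cz R) :=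
  ((cz P).equivMapOfInjective φ.toMonoidHom φ.injective).trans (MulEquiv.subgroupCongr (map_cz φ))

theorem coe_czEquiv (φ : P ≃* R) (x : cz P) : ((czEquiv φ x : cz R) : R) = φ (x : P) := rfl

theorem abMcl_of_equiv [Finite R] (e : P ≃* R) (h : AbMcl P) : AbMcl R := by
  intro X hX
  have h1 := h _ (PushUp.mcl_map e.symm hX)
  refine IsMulCommutative.of_setLike_mul_comm fun x hx y hy => e.symm.injective ?_
  rw [map_mul, map_mul]
  exact setLike_mul_comm (show e.symm x ∈ X.map e.symm.toMonoidHom from ⟨x, hx, rfl⟩)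
    (show e.symm y ∈ X.map e.symm.toMonoidHom from ⟨y, hy, rfl⟩)

theorem map_dMcl [Finite R] (e : P ≃* R) : (dMcl P).map e.toMonoidHom = dMcl R := by
  have hone : ∀ {A B : Type u} [Group A] [Group B] [Finite A] [Finite B] (e : A ≃* B),
      (dMcl A).map e.toMonoidHom ≤ dMcl B := by
    intro A B _ _ _ _ e
    rw [dMcl, Subgroup.map_le_iff_le_comap, sSup_le_iff]
    rintro _ ⟨X, hX, rfl⟩
    rw [← Subgroup.map_le_iff_le_comap, Subgroup.map_commutator]
    exact le_sSup ⟨_, PushUp.mcl_map e hX, rfl⟩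
  refine le_antisymm (hone e) ?_
  calc dMcl R = ((dMcl R).map e.symm.toMonoidHom).map e.toMonoidHom := by
        rw [Subgroup.map_map]; convert (Subgroup.map_id _).symm; ext; simp
    _ ≤ _ := Subgroup.map_mono (hone e.symm)

theorem dMcl_eq {X : Subgroup P} (hX : IsMinimalCentrallyLarge X) : dMcl P = ⁅X, X⁆ :=
  le_antisymm (sSup_le (by rintro _ ⟨Y, hY, rfl⟩; exact (PushUp.commutator_mcl_eq hY hX).le))
    (le_sSup ⟨X, hX, rfl⟩)

theorem map_wF [Finite R] (φ : P ≃* R) : (wF P).map φ.toMonoidHom = wF R := by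
  by_cases h : AbMcl (cz P)
  · rw [wF, if_pos h, wF, if_pos (abMcl_of_equiv (czEquiv φ) h)]
    exact Agent.FusionSys.map_thompsonA φ
  · rw [wF, if_neg h, wF, if_neg fun h' => h (abMcl_of_equiv (czEquiv φ).symm h'), ← map_dMcl (czEquiv φ),
      Subgroup.map_map, Subgroup.map_map]
    rfl

omit [Finite P] in
theorem isCharPFunctor_wF {p : ℕ} [Fact p.Prime] : IsCharPFunctor.{u} p wF := by
  refine ⟨fun Q _ _ hQ hn h => ?_, fun Q R _ _ _ _ φ => ?_⟩
  · by_cases hab : AbMcl (cz Q)
    · rw [wF, if_pos hab] at h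
      exact (Agent.FusionSys.isCharPFunctor_thompsonA.{u} p).1 Q hQ hn h
    · rw [wF, if_neg hab, Subgroup.map_eq_bot_iff_of_injective _ (cz Q).subtype_injective] at h
      refine hab fun X hX => ?_
      rw [dMcl_eq hX, Subgroup.commutator_eq_bot_iff_le_centralizer] at h
      exact Subgroup.le_centralizer_iff_isMulCommutative.1 h
  · haveI : Finite R := Finite.of_equiv Q φ.toEquiv
    exact map_wF φ

/-- The centre as a functor. -/
def zF (P : Type u) [Group P] : Subgroup P := Subgroup.center P

omit [Finite P] in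
theorem isCharPFunctor_zF {p : ℕ} [Fact p.Prime] : IsCharPFunctor.{u} p zF := by
  refine ⟨fun Q _ _ hQ hn h => ?_, fun Q R _ _ _ _ φ => ?_⟩
  · haveI := hn
    haveI := hQ.center_nontrivial
    exact (Subgroup.nontrivial_iff_ne_bot _).1 (inferInstance : Nontrivial (Subgroup.center Q)) h
  · ext y
    constructor
    · rintro ⟨x, hx, rfl⟩
      refine Subgroup.mem_center_iff.2 fun z => ?_
      obtain ⟨w, rfl⟩ := φ.surjective z
      show φ w * φ x = φ x * φ w
      rw [← map_mul, ← map_mul, Subgroup.mem_center_iff.1 hx w]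
    · intro hy
      refine ⟨φ.symm y, Subgroup.mem_center_iff.2 fun w => φ.injective ?_, φ.apply_symm_apply y⟩
      rw [map_mul, map_mul, φ.apply_symm_apply]
      exact Subgroup.mem_center_iff.1 hy _

end Cfsg.Agent.T3
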