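/-
The minimal offenders inside a Sylow subgroup commute with one another and are independent.
-/
import Cfsg.Agent.Lib.Transfer3.Bound

set_option autoImplicit false
set_option linter.unusedSectionVars false
set_option linter.style.haveILetI false

namespace Cfsg.Agent.T3

open Cfsg.Agent.FFEmb
open scoped Pointwise

variable {H : Type*} [Group H] [Finite H] {p : ℕ} [hp : Fact p.Prime]
  {V : Type*} [AddCommGroup V] [DistribMulAction H V] {S : Sylow p H} {M : Subgroup H}

theorem mv_sup_le (A B : Subgroup H) : mv V (A ⊔ B) ≤ mv V A ⊔ mv V B := by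
  let W := mv V A ⊔ mv V B
  let K : Subgroup H :=
    { carrier := {g | ∀ v : V, g • v - v ∈ W}
      one_mem' := fun v => by rw [one_smul, sub_self]; exact zero_mem _
      mul_mem' := fun {g h} hg hh v => by
        have : (g * h) • v - v = (g • (h • v) - h • v) + (h • v - v) := by rw [mul_smul]; abel
        rw [this]
        exact add_mem (hg _) (hh v)
      inv_mem' := fun {g} hg v => by
        have : g⁻¹ • v - v = -(g • (g⁻¹ • v) - g⁻¹ • v) := by rw [smul_inv_smul]; abel
        rw [this]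
        exact neg_mem (hg _) }
  have hle : A ⊔ B ≤ K := sup_le (fun a ha v => AddSubgroup.mem_sup_left (sub_mem_mv ha v))
    fun b hb v => AddSubgroup.mem_sup_right (sub_mem_mv hb v)
  exact mv_le fun g hg v => hle hg v

theorem IsPEl.of_sq (hp2 : p ≠ 2) {y : H} (hy : IsPEl p y) {K : Subgroup H} (h : y * y ∈ K) : y ∈ K := by
  obtain ⟨n, hn⟩ := hy
  obtain ⟨m, hm⟩ : Even (p ^ n + 1) := ((hp.out.odd_of_ne_two hp2).pow).add_one
  have h2 : y = (y * y) ^ m := by
    rw [← sq, ← pow_mul, two_mul, ← hm, pow_succ, hn, one_mul]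
  rw [h2]
  exact pow_mem h m

/-- Elementwise commutation. -/
def Cmt (A B : Subgroup H) : Prop := ∀ a ∈ A, ∀ b ∈ B, a * b = b * a

theorem Cmt.symm {A B : Subgroup H} (h : Cmt A B) : Cmt B A := fun b hb a ha => (h a ha b hb).symm

theorem Cmt.mono {A A' B B' : Subgroup H} (h : Cmt A B) (h1 : A' ≤ A) (h2 : B' ≤ B) : Cmt A' B' :=
  fun a ha b hb => h a (h1 ha) b (h2 hb)

theorem cmt_iff {A B : Subgroup H} : Cmt A B ↔ A ≤ Subgroup.centralizer (B : Set H) :=
  ⟨fun h a ha b hb => (h a ha b hb).symm, fun h a ha b hb => (h ha b hb).symm⟩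

theorem cmt_sup {A B C : Subgroup H} (h1 : Cmt A C) (h2 : Cmt B C) : Cmt (A ⊔ B) C :=
  cmt_iff.2 (sup_le (cmt_iff.1 h1) (cmt_iff.1 h2))

/-- A family of pairwise commuting minimal offenders. -/
structure Fam (p : ℕ) (V : Type*) [AddCommGroup V] [DistribMulAction H V] (F : Set (Subgroup H)) : Prop where
  isMin : ∀ A ∈ F, IsMin p V A
  cmt : ∀ A ∈ F, ∀ B ∈ F, Cmt A B

theorem Fam.subset {F F' : Set (Subgroup H)} (h : Fam p V F) (hs : F' ⊆ F) : Fam p V F' :=
  ⟨fun A hA => h.isMin A (hs hA), fun A hA B hB => h.cmt A (hs hA) B (hs hB)⟩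

theorem Fam.cmt_sSup {F : Set (Subgroup H)} (h : Fam p V F) : Cmt (sSup F) (sSup F) := by
  rw [cmt_iff, sSup_le_iff]
  intro A hA
  rw [← cmt_iff]
  exact Cmt.symm (cmt_iff.2 (sSup_le fun B hB => cmt_iff.1 (h.cmt B hB A hA)))

theorem Fam.pg {F : Set (Subgroup H)} (h : Fam p V F) : IsPGroup p ↥(sSup F : Subgroup H) := by
  have hfin : F.Finite := Set.toFinite F
  induction F, hfin using Set.Finite.induction_on with
  | empty => rw [sSup_empty]; exact IsPGroup.of_bot
  | @insert A F hA _ ih =>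
    rw [sSup_insert]
    refine IsPGroup.to_sup_of_normal_right' (h.isMin A (Set.mem_insert A F)).pg
      (ih (h.subset (Set.subset_insert A F))) fun a ha => mem_normalizer_of_conjS ?_
    refine Subgroup.eq_of_le_of_card_ge ?_ (by rw [card_conjS])
    rintro _ ⟨b, hb, rfl⟩
    show a * b * a⁻¹ ∈ sSup F
    have hle : sSup F ≤ sSup (insert A F) := sSup_le_sSup (Set.subset_insert A F)
    rw [h.cmt_sSup a (le_sSup (Set.mem_insert A F) ha) b (hle hb), mul_inv_cancel_right]
    exact hb

variable [Finite V]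

/-- What independence says about a family and one further member. -/
structure Split (V : Type*) [AddCommGroup V] [DistribMulAction H V] (E A : Subgroup H) : Prop where
  inf : E ⊓ A = ⊥
  disj : mv V E ⊓ mv V A = ⊥

/-- A commuting family is independent. -/
theorem Fam.indep (hs : Sit p V S M) (hgen : Gen V S) (hp2 : p ≠ 2) {F : Set (Subgroup H)} (hF : Fam p V F) :
    meas V (sSup F) = Nat.card V ∧ Nat.card (mv V (sSup F)) = Nat.card ↥(sSup F : Subgroup H) ∧
      (∀ A, IsMin p V A → A ≤ sSup F → A ∈ F) ∧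
      ∀ A ∈ F, Split V (sSup (F \ {A})) A := by
  suffices key : ∀ (n : ℕ) (F : Set (Subgroup H)), F.ncard = n → Fam p V F →
      meas V (sSup F) = Nat.card V ∧ Nat.card (mv V (sSup F)) = Nat.card ↥(sSup F : Subgroup H) ∧
        (∀ A, IsMin p V A → A ≤ sSup F → A ∈ F) ∧ ∀ A ∈ F, Split V (sSup (F \ {A})) A from key _ F rfl hF
  intro n
  induction n with
  | zero =>
    intro F hn hF
    rw [Set.ncard_eq_zero (Set.toFinite F)] at hn
    subst hn
    rw [sSup_empty]
    refine ⟨meas_bot, ?_, fun A hA h => absurd (le_bot_iff.1 h) hA.ne, fun A hA => absurd hA id⟩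
    rw [Subgroup.card_bot, show mv V (⊥ : Subgroup H) = ⊥ from le_bot_iff.1 (mv_le fun a ha v => by
      rw [Subgroup.mem_bot.1 ha, one_smul, sub_self]; exact zero_mem _)]
    exact AddSubgroup.card_bot
  | succ n ih =>
    intro F hn hF
    -- adding one member to a smaller family
    have step : ∀ B ∈ F, Split V (sSup (F \ {B})) B ∧ meas V (sSup F) = Nat.card V ∧
        Nat.card (mv V (sSup F)) = Nat.card ↥(sSup F : Subgroup H) ∧
        ∀ A, IsMin p V A → A ≤ sSup F → A ∈ F := by
      intro B hB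
      set F' := F \ {B} with hF'
      have hn' : F'.ncard = n := by
        have := Set.ncard_sdiff_singleton_add_one hB (Set.toFinite F)
        rw [hF']
        omega
      have hF'F : Fam p V F' := hF.subset Set.sdiff_subset
      obtain ⟨he1, he2, he3, -⟩ := ih F' hn' hF'F
      have hsup : sSup F = sSup F' ⊔ B := by
        rw [sup_comm, ← sSup_insert, hF', Set.insert_sdiff_singleton, Set.insert_eq_of_mem hB]
      set E := sSup F'
      have hBmin := hF.isMin B hB
      have hcm : Cmt E B := hF.cmt_sSup.mono (sSup_le_sSup Set.sdiff_subset) (le_sSup hB)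
      have hsum := meas_mul_le (V := V) hcm
      have hEB : meas V (E ⊔ B) ≤ Nat.card V := by
        refine hs.bound hp2 ?_ ?_
        · rw [← hsup]; exact hF.pg
        · rw [← hsup]; exact hF.cmt_sSup
      rw [he1, (hs.natOff_min hp2 hBmin).meas_eq] at hsum
      have hinf : E ⊓ B = ⊥ := by
        by_contra hne
        rcases eq_or_ne (E ⊓ B) B with h | h
        · exact (he3 B hBmin (h ▸ inf_le_left)).2 rfl
        · have h1 := hBmin.small _ inf_le_right hne h
          have h2 : Nat.card V * Nat.card V < Nat.card V * Nat.card V :=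
            lt_of_le_of_lt (hsum.trans (Nat.mul_le_mul_right _ hEB)) (Nat.mul_lt_mul_of_pos_left h1 Nat.card_pos)
          exact lt_irrefl _ h2
      rw [hinf, meas_bot] at hsum
      have hmeas : meas V (E ⊔ B) = Nat.card V :=
        le_antisymm hEB (Nat.le_of_mul_le_mul_right hsum Nat.card_pos)
      have hcard : Nat.card ↥(E ⊔ B) = Nat.card E * Nat.card B := by
        have := card_sup_mul_card_inf hcm
        rw [hinf, Subgroup.card_bot, mul_one] at this
        exact this.symm
      have hUE : Nat.card (mv V E) = Nat.card E := he2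
      have hUB : Nat.card (mv V B) = Nat.card B := (hs.natOff_min hp2 hBmin).card_mv
      let σ : mv V E × mv V B →+ V := (mv V E).subtype.coprod (mv V B).subtype
      have hrange : mv V (E ⊔ B) ≤ σ.range := by
        refine (mv_sup_le E B).trans fun u hu => ?_
        obtain ⟨x, hx, y, hy, rfl⟩ := AddSubgroup.mem_sup.1 hu
        exact ⟨(⟨x, hx⟩, ⟨y, hy⟩), rfl⟩
      have hlow : Nat.card ↥(E ⊔ B) ≤ Nat.card (mv V (E ⊔ B)) := by
        refine hs.card_le_mv hgen hp2 ?_ ?_
        · rw [← hsup]; exact hF.pg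
        · rw [← hsup]; exact hF.cmt_sSup
      have hup : Nat.card (mv V (E ⊔ B)) ≤ Nat.card σ.range :=
        Nat.card_le_card_of_injective (Set.inclusion hrange) (Set.inclusion_injective _)
      have hk := σ.ker.card_mul_index
      rw [AddSubgroup.index_ker, Nat.card_prod, hUE, hUB, ← hcard] at hk
      have hker : Nat.card σ.ker = 1 := by
        have hr := hlow.trans hup
        rw [← hk] at hr
        have hpos : 0 < Nat.card σ.range := Nat.card_pos
        have : Nat.card σ.ker * Nat.card σ.range ≤ 1 * Nat.card σ.range := by rw [one_mul]; exact hr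
        exact le_antisymm (Nat.le_of_mul_le_mul_right this hpos) Nat.card_pos
      rw [hker, one_mul] at hk
      have hdisj : mv V E ⊓ mv V B = ⊥ := by
        refine le_bot_iff.1 fun u hu => ?_
        have hx : ((⟨u, hu.1⟩, ⟨-u, neg_mem hu.2⟩) : mv V E × mv V B) ∈ σ.ker := by
          show u + -u = 0
          exact add_neg_cancel u
        rw [AddSubgroup.eq_bot_of_card_eq σ.ker hker, AddSubgroup.mem_bot] at hx
        exact congrArg (fun q => ((q.1 : mv V E) : V)) hx
      rw [hsup]
      refine ⟨⟨hinf, hdisj⟩, hmeas, le_antisymm (hup.trans hk.le) hlow, fun A hA hAF => ?_⟩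
      by_cases hAE : A ≤ E
      · exact (he3 A hA hAE).1
      obtain ⟨a, haA, haE⟩ := SetLike.not_le_iff_exists.1 hAE
      obtain ⟨e, he, b, hb, heb⟩ : ∃ e ∈ E, ∃ b ∈ B, e * b = a := by
        have hset : ((E ⊔ B : Subgroup H) : Set H) = (E : Set H) * (B : Set H) :=
          Subgroup.coe_mul_of_left_le_normalizer_right E B fun x hx => mem_normalizer_of_conjS
            (Subgroup.eq_of_le_of_card_ge (by
              rintro _ ⟨y, hy, rfl⟩
              show x * y * x⁻¹ ∈ B
              rw [hcm x hx y hy, mul_inv_cancel_right]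
              exact hy) (by rw [card_conjS]))
        have := hAF haA
        rw [← SetLike.mem_coe, hset] at this
        exact this
      have hb1 : b ≠ 1 := fun h => haE (by rw [← heb, h, mul_one]; exact he)
      have hfix : fx V A ≤ fx V B := by
        intro v hv
        refine (hs.natOff_min hp2 hBmin).fix_eq b hb hb1 v ?_
        rw [← sub_eq_zero, ← AddSubgroup.mem_bot, ← hdisj]
        refine ⟨?_, sub_mem_mv hb v⟩
        have h1 : b • v - v = -(e • (b • v) - b • v) := by
          rw [← mul_smul, heb, hv a haA]; abel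
        rw [h1]
        exact (mv V E).neg_mem (sub_mem_mv he _)
      have hAB : Cmt A B := fun x hx y hy =>
        (cmt_sup hcm (fun s hs' t ht => hBmin.comm s hs' t ht)) x (hAF hx) y hy
      have hle : A ⊔ B ≤ E ⊔ B := sup_le hAF le_sup_right
      have hm : meas V (A ⊔ B) ≤ Nat.card V := hs.bound hp2
        ((hsup ▸ hF.pg : IsPGroup p ↥(E ⊔ B)).to_le hle) ((hsup ▸ hF.cmt_sSup : Cmt (E ⊔ B) (E ⊔ B)).mono hle hle)
      rw [meas, fx_sup, inf_eq_left.2 hfix, ← (hs.natOff_min hp2 hA).meas_eq, meas] at hm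
      have h2 : A ⊔ B = A :=
        (Subgroup.eq_of_le_of_card_ge le_sup_left (Nat.le_of_mul_le_mul_right hm Nat.card_pos)).symm
      have hBA : B ≤ A := h2 ▸ le_sup_right
      rcases eq_or_ne B A with h | h
      · exact h ▸ hB
      · exact absurd (hA.small B hBA hBmin.ne h) (not_lt.2 hBmin.large)
    obtain ⟨B, hB⟩ : F.Nonempty := by
      rw [← Set.ncard_pos (Set.toFinite F)]; omega
    exact ⟨(step B hB).2.1, (step B hB).2.2.1, (step B hB).2.2.2, fun A hA => (step A hA).1⟩

theorem IsMin.mv_nontrivial (hs : Sit p V S M) (hp2 : p ≠ 2) {A : Subgroup H} (hA : IsMin p V A) :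
    ∃ u ∈ mv V A, u ≠ 0 := by
  by_contra hc
  push Not at hc
  refine hA.ne (Subgroup.card_eq_one.1 ?_)
  rw [← (hs.natOff_min hp2 hA).card_mv, AddSubgroup.card_eq_one]
  exact le_bot_iff.1 fun u hu => AddSubgroup.mem_bot.2 (hc u hu)

theorem mv_le_of_sSup {F : Set (Subgroup H)} {W : AddSubgroup V} (h : ∀ A ∈ F, mv V A ≤ W) :
    mv V (sSup F) ≤ W := by
  let K : Subgroup H :=
    { carrier := {g | ∀ v : V, g • v - v ∈ W}
      one_mem' := fun v => by rw [one_smul, sub_self]; exact zero_mem _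
      mul_mem' := fun {g h} hg hh v => by
        have : (g * h) • v - v = (g • (h • v) - h • v) + (h • v - v) := by rw [mul_smul]; abel
        rw [this]
        exact add_mem (hg _) (hh v)
      inv_mem' := fun {g} hg v => by
        have : g⁻¹ • v - v = -(g • (g⁻¹ • v) - g⁻¹ • v) := by rw [smul_inv_smul]; abel
        rw [this]
        exact neg_mem (hg _) }
  exact mv_le fun g hg v => (sSup_le (fun A hA a ha w => h A hA (sub_mem_mv ha w)) : sSup F ≤ K) hg v

/-- The join of a commuting family acts quadratically. -/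
theorem Fam.quad (hs : Sit p V S M) (hp2 : p ≠ 2) {F : Set (Subgroup H)} (hF : Fam p V F) :
    mv V (sSup F) ≤ fx V (sSup F) := by
  refine mv_le_of_sSup fun A hA u hu g hg => ?_
  have hle : sSup F ≤ MulAction.stabilizer H u := sSup_le fun B hB b hb =>
    ((hs.natOff_min hp2 (hF.isMin A hA)).scalar hs.ppow (isPEl_of_mem (hF.isMin B hB).pg hb)
      fun a ha => hF.cmt A hA B hB a ha b hb).1 u hu
  exact hle hg

/-- Members are told apart by their displacement spaces. -/
theorem Fam.eq_of_mem_mv (hs : Sit p V S M) (hgen : Gen V S) (hp2 : p ≠ 2) {F : Set (Subgroup H)} (hF : Fam p V F)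
    {A B : Subgroup H} (hA : A ∈ F) (hB : B ∈ F) {u : V} (hu : u ∈ mv V A) (hu' : u ∈ mv V B) (h0 : u ≠ 0) :
    A = B := by
  by_contra hne
  refine h0 ?_
  rw [← AddSubgroup.mem_bot, ← ((hF.indep hs hgen hp2).2.2.2 B hB).disj]
  exact ⟨mv_mono (le_sSup (show A ∈ F \ {B} from ⟨hA, hne⟩)) hu, hu'⟩

/-- A `p`-element acting quadratically and permuting a family fixes its members. -/
theorem Fam.fix_member (hs : Sit p V S M) (hgen : Gen V S) (hp2 : p ≠ 2) {F : Set (Subgroup H)}
    (hF : Fam p V F) {y : H} (hy : IsPEl p y) (hperm : ∀ B ∈ F, conjS y B ∈ F)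
    (hq : ∀ B ∈ F, ∀ u ∈ mv V B, y • (y • u - u) = y • u - u) {B : Subgroup H} (hB : B ∈ F) :
    conjS y B = B ∧ ∀ b ∈ B, b * y = y * b := by
  have hfix : conjS y B = B := by
    by_contra hne
    have h2 : conjS (y * y) B ≠ B := fun h => hne (conjS_of_mem_normalizer
      (IsPEl.of_sq hp2 hy (mem_normalizer_of_conjS h)))
    obtain ⟨v, hv, hv0⟩ := (hF.isMin B hB).mv_nontrivial hs hp2
    refine hv0 ?_
    rw [← AddSubgroup.mem_bot, ← ((hF.indep hs hgen hp2).2.2.2 B hB).disj]
    refine ⟨?_, hv⟩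
    have hq' := hq B hB v hv
    rw [smul_sub, ← mul_smul] at hq'
    have e : v = (y • v + y • v) - (y * y) • v := by
      rw [sub_eq_iff_eq_add.1 hq']; abel
    rw [e]
    have hm1 : y • v ∈ mv V (sSup (F \ {B})) :=
      mv_mono (le_sSup (show conjS y B ∈ F \ {B} from ⟨hperm B hB, hne⟩)) (mem_mv_conjS hv)
    have hm2 : (y * y) • v ∈ mv V (sSup (F \ {B})) :=
      mv_mono (le_sSup (show conjS (y * y) B ∈ F \ {B} from
        ⟨by rw [← conjS_mul]; exact hperm _ (hperm B hB), h2⟩)) (mem_mv_conjS hv)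
    exact (mv V _).sub_mem ((mv V _).add_mem hm1 hm1) hm2
  exact ⟨hfix, (hs.natOff_min hp2 (hF.isMin B hB)).centralizes hs.ppow hp2 hy
    (fun b hb => hfix ▸ mem_conjS_self hb) (hq B hB)⟩

/-- The minimal offenders in the Sylow subgroup. -/
def Del (p : ℕ) (V : Type*) [AddCommGroup V] [DistribMulAction H V] (S : Subgroup H) : Set (Subgroup H) :=
  {A | IsMin p V A ∧ A ≤ S}

/-- They commute with one another. -/
theorem Sit.fam (hs : Sit p V S M) (hgen : Gen V S) (hp2 : p ≠ 2) :
    Fam p V (Del p V (S : Subgroup H)) := by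
  obtain ⟨F, ⟨hFD, hF⟩, hmax⟩ := (Set.toFinite
    {F : Set (Subgroup H) | F ⊆ Del p V (S : Subgroup H) ∧ Fam p V F}).exists_maximal
    ⟨∅, Set.empty_subset _, fun A h => absurd h id, fun A h => absurd h id⟩
  suffices hsub : Del p V (S : Subgroup H) ⊆ F from hF.subset hsub
  intro A₀ hA₀
  by_contra hA₀F
  obtain ⟨-, -, hclosed, -⟩ := hF.indep hs hgen hp2
  obtain ⟨A, hA, hAS, hAF, hAN⟩ := exists_extra (E := IsMin p V) (fun X hX k => hX.conj k) S.isPGroup'
    (C := F) (fun X hX => hFD hX) hclosed hA₀.1 hA₀.2 hA₀F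
  refine hAF (hmax ⟨Set.insert_subset ⟨hA, hAS⟩ hFD, ?_⟩ (Set.subset_insert A F) (Set.mem_insert A F))
  have hnA := hs.natOff_min hp2 hA
  have hperm : ∀ y ∈ A, ∀ B ∈ F, conjS y B ∈ F := fun y hy B hB => hclosed _ ((hF.isMin B hB).conj y)
    ((conjS_mono (le_sSup hB)).trans (conjS_of_mem_normalizer (hAN hy)).le)
  have hcent : ∀ B ∈ F, Cmt B A := fun B hB b hb y hy =>
    (hF.fix_member hs hgen hp2 (isPEl_of_mem hA.pg hy) (hperm y hy)
      (fun C _ u _ => hnA.quad y hy u y hy) hB).2 b hb
  refine ⟨fun X hX => ?_, fun X hX Y hY => ?_⟩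
  · rcases hX with rfl | hX
    · exact hA
    · exact hF.isMin X hX
  · rcases hX with rfl | hX <;> rcases hY with rfl | hY
    · exact hA.comm
    · exact (hcent Y hY).symm
    · exact hcent X hX
    · exact hF.cmt X hX Y hY

theorem Sit.normalizer_sSup_le (hs : Sit p V S M) (hgen : Gen V S) (hp2 : p ≠ 2)
    (hne : (Del p V (S : Subgroup H)).Nonempty) :
    Subgroup.normalizer ((sSup (Del p V (S : Subgroup H)) : Subgroup H) : Set H) ≤ M := by
  refine hs.up _ (fun s hs' => mem_normalizer_of_conjS (Subgroup.eq_of_le_of_card_ge ?_ (by rw [card_conjS]))) ?_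
  · rw [conjS_le_iff, sSup_le_iff]
    intro A hA
    exact conjS_le_iff.1 (show conjS s A ≤ sSup _ from
      le_sSup ⟨hA.1.conj s, (conjS_mono hA.2).trans (conjS_of_mem hs').le⟩)
  · intro htop
    obtain ⟨A, hA⟩ := hne
    refine hA.1.ne (le_bot_iff.1 ?_)
    rw [← hs.core _ (Subgroup.normalizer_eq_top_iff.1 htop) (hs.fam hgen hp2).pg]
    exact le_sSup hA

end Cfsg.Agent.T3
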