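/-
The conjugates of the Sylow subgroup through a maximal common set of minimal offenders: each of them has a
single further offender, and any two of these generate a natural `SL₂(q)`.
-/
import Cfsg.Agent.Lib.Transfer3.Family

set_option autoImplicit false
set_option linter.unusedSectionVars false
set_option linter.style.haveILetI false

namespace Cfsg.Agent.T3

open Cfsg.Agent.FFEmb

variable {H : Type*} [Group H] [Finite H] {p : ℕ} [hp : Fact p.Prime]
  {V : Type*} [AddCommGroup V] [DistribMulAction H V] {S : Sylow p H} {M : Subgroup H}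

theorem Gen.conj (h : Gen V S) (k : H) : Gen V (k • S) := by
  refine eq_top_iff.2 (h.ge.trans ((AddSubgroup.closure_le _).2 ?_))
  rintro _ ⟨g, v, hv, rfl⟩
  refine AddSubgroup.subset_closure ⟨g * k⁻¹, k • v, ?_, by rw [mul_smul, inv_smul_smul]⟩
  rw [sylow_smul_coe, mem_fx_conjS, inv_smul_smul]
  exact hv

theorem conjS_cmt {k : H} {B : Subgroup H} (h : ∀ b ∈ B, b * k = k * b) : conjS k B = B :=
  conjS_of_mem_normalizer (Subgroup.mem_normalizer_iff.2 fun x => by
    constructor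
    · intro hx; rw [← h x hx, mul_inv_cancel_right]; exact hx
    · intro hx
      have h1 := h _ hx
      rw [inv_mul_cancel_right] at h1
      rw [show k * x * k⁻¹ = x from mul_left_cancel (h1.symm.trans rfl)] at hx
      exact hx)

theorem card_addSup_le {V : Type*} [AddCommGroup V] [Finite V] (U W : AddSubgroup V) :
    Nat.card ↥(U ⊔ W) ≤ Nat.card U * Nat.card W := by
  rw [← Nat.card_prod]
  refine Nat.card_le_card_of_surjective
    (fun x : U × W => (⟨(x.1 : V) + x.2, AddSubgroup.add_mem_sup x.1.2 x.2.2⟩ : ↥(U ⊔ W))) fun x => ?_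
  obtain ⟨a, ha, b, hb, h⟩ := AddSubgroup.mem_sup.1 x.2
  exact ⟨(⟨a, ha⟩, ⟨b, hb⟩), Subtype.ext h⟩

variable [Finite V]

/-- A base pair of conjugates sharing as many minimal offenders as possible. -/
structure Base (p : ℕ) (V : Type*) [AddCommGroup V] [DistribMulAction H V] (S : Sylow p H) (M : Subgroup H)
    (g : H) : Prop where
  sit : Sit p V S M
  gen : Gen V S
  odd : p ≠ 2
  top : Top (IsMin p V) S M g
  ex : (Del p V (S : Subgroup H)).Nonempty

/-- A conjugate containing all common members. -/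
def Pt (V : Type*) [AddCommGroup V] [DistribMulAction H V] (S : Sylow p H) (g x : H) : Prop :=
  ∀ B ∈ com (IsMin p V) S 1 g, B ≤ conjS x (S : Subgroup H)

/-- An extra member at a point. -/
structure IsEx (p : ℕ) (V : Type*) [AddCommGroup V] [DistribMulAction H V] (S : Sylow p H) (g x : H)
    (X : Subgroup H) : Prop where
  isMin : IsMin p V X
  le : X ≤ conjS x (S : Subgroup H)
  notMem : X ∉ com (IsMin p V) S 1 g

/-- Extras of different points. -/
structure Opp (p : ℕ) (V : Type*) [AddCommGroup V] [DistribMulAction H V] (M : Subgroup H) (X Y : Subgroup H) :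
    Prop where
  card_eq : Nat.card Y = Nat.card X
  inf : ∀ u ∈ mv V Y, u ∈ fx V X → u = 0
  decomp : ∀ v : V, ∃ a ∈ mv V X, ∃ b ∈ mv V Y, ∃ f ∈ fx V X ⊓ fx V Y, a + b + f = v
  kit : ∃ (L : Subgroup H) (t z : H), L ≤ X ⊔ Y ∧ ¬ L ≤ M ∧ Kit p V M X L t z ∧
    fx V L = fx V X ⊓ fx V Y ∧ mv V L = mv V X ⊔ mv V Y

theorem mem_conjS_M {x y : H} : y ∈ conjS x M ↔ x⁻¹ * y * x ∈ M := mem_conjS

theorem conjS_M_eq {x x' : H} (h : x⁻¹ * x' ∈ M) : conjS x' M = conjS x M := by
  rw [show x' = x * (x⁻¹ * x') by group, ← conjS_mul, conjS_of_mem h]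

namespace Base

variable {g : H} (hb : Base p V S M g)
include hb

theorem g_not : g ∉ M := hb.top.1

theorem mem_com {B : Subgroup H} (hB : B ∈ com (IsMin p V) S 1 g) : IsMin p V B ∧ B ≤ (S : Subgroup H) :=
  ⟨hB.1, by have := hB.2.1; rwa [conjS_one] at this⟩

theorem pt_one : Pt V S g 1 := fun _ hB => hB.2.1

theorem pt_g : Pt V S g g := fun _ hB => hB.2.2

theorem com_eq {x y : H} (hx : Pt V S g x) (hy : Pt V S g y) (hxy : x⁻¹ * y ∉ M) :
    com (IsMin p V) S x y = com (IsMin p V) S 1 g :=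
  (Set.eq_of_subset_of_ncard_le (s := com (IsMin p V) S 1 g) (t := com (IsMin p V) S x y)
    (fun B hB => ⟨hB.1, hx B hB, hy B hB⟩) (hb.top.2 x y hxy) (Set.toFinite _)).symm

theorem fam (x : H) : Fam p V (Del p V (conjS x (S : Subgroup H))) := by
  have := (hb.sit.conj x).fam (hb.gen.conj x) hb.odd
  rwa [sylow_smul_coe] at this

theorem del_one : Del p V (conjS 1 (S : Subgroup H)) = Del p V (S : Subgroup H) := by rw [conjS_one]

theorem ncard_del (x : H) :
    (Del p V (conjS x (S : Subgroup H))).ncard = (Del p V (S : Subgroup H)).ncard := by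
  refine (Set.ncard_congr (s := Del p V (S : Subgroup H)) (t := Del p V (conjS x (S : Subgroup H)))
    (fun A _ => conjS x A) (fun A hA => ⟨hA.1.conj x, conjS_mono hA.2⟩)
    (fun A B _ _ h => ?_) fun B hB => ⟨conjS x⁻¹ B, ⟨hB.1.conj _, ?_⟩, ?_⟩).symm
  · have := congrArg (conjS x⁻¹) h
    rwa [conjS_mul, conjS_mul, inv_mul_cancel, conjS_one, conjS_one] at this
  · rw [conjS_le_iff, inv_inv]; exact hB.2
  · rw [conjS_mul, mul_inv_cancel, conjS_one]

theorem exists_out : ∃ A, IsMin p V A ∧ A ≤ (S : Subgroup H) ∧ A ∉ com (IsMin p V) S 1 g := by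
  obtain ⟨-, -, ⟨A, hA, hAS, hAC, -⟩, -⟩ := hb.top.step hb.sit (fun _ hA k => hA.conj k) (fun _ hA => hA.ne)
    (let ⟨A, hA⟩ := hb.ex; ⟨A, hA.1, hA.2⟩)
  exact ⟨A, hA, hAS, hAC⟩

theorem exists_ex {x : H} (hx : Pt V S g x) : ∃ X, IsEx p V S g x X := by
  obtain ⟨A, hA, hAS, hAC⟩ := hb.exists_out
  by_contra hc
  push Not at hc
  have hsub : Del p V (conjS x (S : Subgroup H)) ⊆ com (IsMin p V) S 1 g := fun B hB => by
    by_contra hBC
    exact hc B ⟨hB.1, hB.2, hBC⟩
  have h1 := Set.ncard_le_ncard hsub (Set.toFinite _)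
  rw [hb.ncard_del] at h1
  have h2 : (com (IsMin p V) S 1 g).ncard < (Del p V (S : Subgroup H)).ncard :=
    Set.ncard_lt_ncard (Set.ssubset_iff_of_subset (fun B hB => hb.mem_com hB) |>.2 ⟨A, ⟨hA, hAS⟩, hAC⟩)
      (Set.toFinite _)
  omega

theorem cmt_ex {x : H} (hx : Pt V S g x) {X : Subgroup H} (hX : IsEx p V S g x X) {B : Subgroup H}
    (hB : B ∈ com (IsMin p V) S 1 g) : Cmt B X :=
  (hb.fam x).cmt B ⟨hB.1, hx B hB⟩ X ⟨hX.isMin, hX.le⟩

theorem ex_normalizes {x : H} (hx : Pt V S g x) {X : Subgroup H} (hX : IsEx p V S g x X) :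
    X ≤ Subgroup.normalizer ((sSup (com (IsMin p V) S 1 g) : Subgroup H) : Set H) := fun a ha =>
  mem_normalizer_of_conjS (conjS_cmt fun b hb' =>
    (cmt_iff.2 (sSup_le fun B hB => cmt_iff.1 (hb.cmt_ex hx hX hB))) b hb' a ha)

theorem opp {x y : H} (hx : Pt V S g x) (hy : Pt V S g y) (hxy : x⁻¹ * y ∉ M) {X Y : Subgroup H}
    (hX : IsEx p V S g x X) (hY : IsEx p V S g y Y) : Opp p V (conjS x M) X Y := by
  have loc : ∀ {x y : H}, Pt V S g x → Pt V S g y → x⁻¹ * y ∉ M → ∀ {X Y : Subgroup H}, IsEx p V S g x X →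
      IsEx p V S g y Y → ∃ (L : Subgroup H) (t z : H), L ≤ X ⊔ Y ∧ ¬ L ≤ conjS x M ∧
        Kit p V (conjS x M) X L t z ∧ mv V L ≤ mv V X ⊔ mv V Y ∧ Nat.card X ≤ Nat.card Y := by
    intro x y hx hy hxy X Y hX hY
    set D := sSup (com (IsMin p V) S 1 g) with hD
    have hDx : D ≤ conjS x (S : Subgroup H) := sSup_le hx
    have hs' := hb.sit.conj x
    have hnat := hb.sit.natOff_min hb.odd hX.isMin
    have hUM : ¬ X ⊔ Y ≤ conjS x M := by
      intro hle
      have hDp : IsPGroup p D := S.isPGroup'.to_le (sSup_le fun B hB => (hb.mem_com hB).2)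
      obtain ⟨m, hm, hle'⟩ := hs'.le_of_pgroup
        (IsPGroup.to_sup_of_normal_left' hDp ((S.isPGroup'.map _).to_le hY.le) (hb.ex_normalizes hy hY))
        (sup_le (hDx.trans (conjS_mono hb.sit.SM)) (le_sup_right.trans hle))
      rw [sylow_smul_coe, conjS_mul] at hle'
      rw [mem_conjS] at hm
      have hmy : (m * x)⁻¹ * y ∉ M := fun h => hxy (by
        have := mul_mem hm h
        simpa [mul_assoc] using this)
      have hpt : Pt V S g (m * x) := fun B hB => ((le_sSup hB).trans le_sup_left).trans hle'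
      exact hY.notMem (hb.com_eq hpt hy hmy ▸ ⟨hY.isMin, le_sup_right.trans hle', hY.le⟩)
    obtain ⟨L, t, z, -, hLU, hLM, hk⟩ := hs'.loc hb.odd (A := X) (D := D) (U := X ⊔ Y)
      ⟨hX.isMin.pg, hX.isMin.ne, hX.isMin.comm, hX.isMin.large,
        fun B hB h0 h1 => lt_of_lt_of_le (hX.isMin.small B hB h0 h1) hX.isMin.large, hnat.quad⟩
      hX.le hDx le_sup_left (sup_le (hb.ex_normalizes hx hX) (hb.ex_normalizes hy hY)) hUM fun k hk => by
        rw [sylow_smul_coe, conjS_mul] at hk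
        by_contra hkM
        rw [mem_conjS] at hkM
        have hpt : Pt V S g (k * x) := fun B hB => ((le_sSup hB).trans le_sup_left).trans hk
        exact hX.notMem (hb.com_eq hx hpt (by rwa [← mul_assoc]) ▸
          ⟨hX.isMin, hX.le, le_sup_right.trans hk⟩)
    have hmv : mv V L ≤ mv V X ⊔ mv V Y := (mv_mono hLU).trans (mv_sup_le X Y)
    refine ⟨L, t, z, hLU, hLM, hk, hmv, ?_⟩
    have h1 : Nat.card (mv V L) ≤ Nat.card ↥(mv V X ⊔ mv V Y) :=
      Nat.card_le_card_of_injective (Set.inclusion hmv) (Set.inclusion_injective _)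
    have h2 := h1.trans (card_addSup_le _ _)
    rw [hk.pair.card_N, hnat.card_mv, (hb.sit.natOff_min hb.odd hY.isMin).card_mv, sq] at h2
    exact Nat.le_of_mul_le_mul_left h2 Nat.card_pos
  obtain ⟨L, t, z, hLU, hLM, hk, hmv, hq⟩ := loc hx hy hxy hX hY
  obtain ⟨-, -, -, -, -, -, -, hq'⟩ := loc hy hx (fun h => hxy (by simpa using inv_mem h)) hY hX
  have hnX := hb.sit.natOff_min hb.odd hX.isMin
  have hnY := hb.sit.natOff_min hb.odd hY.isMin
  have hqq : Nat.card Y = Nat.card X := le_antisymm hq' hq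
  have hmvL : mv V L = mv V X ⊔ mv V Y := by
    refine AddSubgroup.eq_of_le_of_card_ge hmv ((card_addSup_le _ _).trans ?_)
    rw [hk.pair.card_N, hnX.card_mv, hnY.card_mv, hqq, sq]
  -- the two commutator spaces meet trivially
  have hdis : ∀ u ∈ mv V Y, u ∈ mv V X → u = 0 := by
    intro u hu hu'
    let σ : mv V X × mv V Y →+ V := (mv V X).subtype.coprod (mv V Y).subtype
    have hr : mv V L ≤ σ.range := hmvL.le.trans fun w hw => by
      obtain ⟨a, ha, b, hb', rfl⟩ := AddSubgroup.mem_sup.1 hw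
      exact ⟨(⟨a, ha⟩, ⟨b, hb'⟩), rfl⟩
    have hh := σ.ker.card_mul_index
    rw [AddSubgroup.index_ker, Nat.card_prod, hnX.card_mv, hnY.card_mv, hqq, ← sq, ← hk.pair.card_N] at hh
    have h3 : Nat.card (mv V L) ≤ Nat.card σ.range :=
      Nat.card_le_card_of_injective (Set.inclusion hr) (Set.inclusion_injective _)
    have h4 : Nat.card σ.ker = 1 := by
      rw [← hh] at h3
      have : Nat.card σ.ker * Nat.card σ.range ≤ 1 * Nat.card σ.range := by rw [one_mul]; exact h3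
      exact le_antisymm (Nat.le_of_mul_le_mul_right this Nat.card_pos) Nat.card_pos
    have hx0 : ((⟨u, hu'⟩, ⟨-u, neg_mem hu⟩) : mv V X × mv V Y) ∈ σ.ker := by
      show u + -u = 0
      exact add_neg_cancel u
    rw [AddSubgroup.eq_bot_of_card_eq σ.ker h4, AddSubgroup.mem_bot] at hx0
    exact congrArg (fun q => ((q.1 : mv V X) : V)) hx0
  have hfL : fx V L = fx V X ⊓ fx V Y := by
    refine (AddSubgroup.eq_of_le_of_card_ge ((fx_sup X Y).ge.trans (fx_anti hLU)) ?_).symm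
    have h1 := FFEmb.card_mul_card_le (fx V X) (fx V Y)
    let τ : mv V L × fx V L →+ V := (mv V L).subtype.coprod (fx V L).subtype
    have hb1 : Function.Bijective τ := by
      refine ⟨(injective_iff_map_eq_zero τ).2 ?_, fun v => ?_⟩
      · rintro ⟨n, f⟩ h
        have h' : (n : V) + f = 0 := h
        have hn : (n : V) = 0 := hk.pair.disj n n.2 (by
          rw [eq_neg_of_add_eq_zero_left h']; exact neg_mem f.2)
        rw [hn, zero_add] at h'
        exact Prod.ext (Subtype.ext hn) (Subtype.ext h')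
      · obtain ⟨n, hn, f, hf, he⟩ := hk.pair.decomp v
        exact ⟨(⟨n, hn⟩, ⟨f, hf⟩), he⟩
    have h2 := Nat.card_eq_of_bijective _ hb1
    rw [Nat.card_prod, hk.pair.card_N] at h2
    refine Nat.le_of_mul_le_mul_left ?_ (pow_pos (Nat.card_pos (α := X)) 2)
    refine Nat.le_of_mul_le_mul_left ?_ (Nat.card_pos (α := V))
    calc Nat.card V * (Nat.card X ^ 2 * Nat.card (fx V L)) = (Nat.card X * Nat.card (fx V X)) *
          (Nat.card Y * Nat.card (fx V Y)) := by rw [h2, ← hnX.card, ← hnY.card]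
      _ = Nat.card X ^ 2 * (Nat.card (fx V X) * Nat.card (fx V Y)) := by rw [hqq]; ring
      _ ≤ Nat.card X ^ 2 * (Nat.card V * Nat.card ↥(fx V X ⊓ fx V Y)) := Nat.mul_le_mul_left _ h1
      _ = _ := by ring
  refine ⟨hqq, fun u hu hu' => hdis u hu ?_, fun v => ?_, L, t, z, hLU, hLM, hk, hfL, hmvL⟩
  · rw [← hk.pair.inter]
    exact ⟨hmvL.ge (AddSubgroup.mem_sup_right hu), hu'⟩
  · obtain ⟨n, hn, f, hf, rfl⟩ := hk.pair.decomp v
    obtain ⟨a, ha, b, hb', rfl⟩ := AddSubgroup.mem_sup.1 (hmvL.le hn)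
    exact ⟨a, ha, b, hb', f, hfL.le hf, rfl⟩

theorem not_fix {x y : H} (hx : Pt V S g x) (hy : Pt V S g y) (hxy : x⁻¹ * y ∉ M) {X Y : Subgroup H}
    (hX : IsEx p V S g x X) (hY : IsEx p V S g y Y) (h : mv V Y ≤ fx V X) : False := by
  obtain ⟨u, hu, hu0⟩ := hY.isMin.mv_nontrivial hb.sit hb.odd
  exact hu0 ((hb.opp hx hy hxy hX hY).inf u hu (h hu))

/-- Conjugating a point by an element of the base extra. -/
theorem smul_pt {A : Subgroup H} (hA : IsEx p V S g 1 A) {a : H} (ha : a ∈ A) {x : H} (hx : Pt V S g x) :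
    Pt V S g (a * x) ∧ ∀ {X : Subgroup H}, IsEx p V S g x X → IsEx p V S g (a * x) (conjS a X) := by
  have hfix : ∀ B ∈ com (IsMin p V) S 1 g, conjS a B = B := fun B hB =>
    conjS_cmt fun b hb' => hb.cmt_ex hb.pt_one hA hB b hb' a ha
  refine ⟨fun B hB => ?_, fun {X} hX => ⟨hX.isMin.conj a, ?_, fun hC => hX.notMem ?_⟩⟩
  · rw [← hfix B hB, ← conjS_mul]; exact conjS_mono (hx B hB)
  · rw [← conjS_mul]; exact conjS_mono hX.le
  · have h1 := hfix _ hC
    have h2 := congrArg (conjS a⁻¹) h1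
    simp only [conjS_mul, inv_mul_cancel, conjS_one, inv_mul_cancel_left] at h2
    rwa [h2] at hC

theorem transl {A : Subgroup H} (hA : IsEx p V S g 1 A) {x y : H} (hx : Pt V S g x) (hy : Pt V S g y)
    (hxM : x ∉ M) (hyM : y ∉ M) {X Y : Subgroup H} (hX : IsEx p V S g x X) (hY : IsEx p V S g y Y)
    {u : V} (hu : u ∈ mv V Y) (hu0 : u ≠ 0) :
    ∃ a ∈ A, (a * x)⁻¹ * y ∈ M ∧ u ∈ fx V (conjS a X) := by
  have hnA := hb.sit.natOff_min hb.odd hA.isMin
  have hnX := hb.sit.natOff_min hb.odd hX.isMin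
  have hAX := hb.opp hb.pt_one hx (by simpa using hxM) hA hX
  have huA : u ∉ fx V A := fun h => hu0 ((hb.opp hb.pt_one hy (by simpa using hyM) hA hY).inf u hu h)
  obtain ⟨uA, huA', uX, huX, f, hf, he⟩ := hAX.decomp u
  have huXA : uX ∉ fx V A := fun h => huA (by
    rw [← he]; exact add_mem (add_mem (fun a ha => hnA.mv_fix ha huA') h) hf.1)
  obtain ⟨b, hbA, hbe⟩ := hnA.exists_disp huXA (neg_mem huA')
  have hfixu : b • u ∈ fx V X := by
    have : b • u = uX + f := by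
      rw [← he, smul_add, smul_add, hnA.mv_fix hbA huA', hf.1 b hbA, sub_eq_iff_eq_add.1 hbe]
      abel
    rw [this]
    exact add_mem (fun c hc => hnX.mv_fix hc huX) hf.2
  have hfix' : u ∈ fx V (conjS b⁻¹ X) := by rw [mem_fx_conjS, inv_inv]; exact hfixu
  refine ⟨b⁻¹, inv_mem hbA, ?_, hfix'⟩
  by_contra hne
  obtain ⟨hpt, hex⟩ := hb.smul_pt hA (inv_mem hbA) hx
  exact hu0 ((hb.opp hpt hy hne (hex hX) hY).inf u hu hfix')

theorem exists_rep {x : H} (hx : Pt V S g x) {e : H} (hp' : IsPGroup p ↥(sSup (com (IsMin p V) S 1 g) ⊔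
    Subgroup.zpowers e : Subgroup H)) (he : x⁻¹ * e * x ∈ M) :
    ∃ x' : H, Pt V S g x' ∧ x⁻¹ * x' ∈ M ∧ e ∈ conjS x' (S : Subgroup H) := by
  obtain ⟨m, hm, hle⟩ := (hb.sit.conj x).le_of_pgroup hp'
    (sup_le ((sSup_le hx).trans (conjS_mono hb.sit.SM)) (Subgroup.zpowers_le.2 (mem_conjS.2 he)))
  rw [sylow_smul_coe, conjS_mul] at hle
  exact ⟨m * x, fun B hB => ((le_sSup hB).trans le_sup_left).trans hle,
    by rw [← mul_assoc]; exact mem_conjS.1 hm, hle (Subgroup.mem_sup_right (Subgroup.mem_zpowers e))⟩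

theorem pg_sup {e : H} (he : e ∈ (S : Subgroup H)) :
    IsPGroup p ↥(sSup (com (IsMin p V) S 1 g) ⊔ Subgroup.zpowers e : Subgroup H) :=
  S.isPGroup'.to_le (sup_le (sSup_le fun _ hB => (hb.mem_com hB).2) (Subgroup.zpowers_le.2 he))

theorem perm {x : H} {e : H} (he : e ∈ conjS x (S : Subgroup H)) {B : Subgroup H}
    (hB : B ∈ Del p V (conjS x (S : Subgroup H))) : conjS e B ∈ Del p V (conjS x (S : Subgroup H)) :=
  ⟨hB.1.conj e, (conjS_mono hB.2).trans (conjS_of_mem he).le⟩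

theorem stab {A : Subgroup H} (hA : IsEx p V S g 1 A) {x : H} (hx : Pt V S g x) (hxM : x ∉ M) {a : H}
    (ha : a ∈ A) (h : x⁻¹ * a * x ∈ M) : a = 1 := by
  by_contra hne
  have haS : a ∈ (S : Subgroup H) := by have := hA.le ha; rwa [conjS_one] at this
  obtain ⟨x', hx', hxx', hax'⟩ := hb.exists_rep hx (hb.pg_sup haS) h
  have hx'M : x' ∉ M := fun h' => hxM (by
    have := mul_mem h' (inv_mem hxx')
    simpa [mul_assoc] using this)
  obtain ⟨X, hX⟩ := hb.exists_ex hx'
  have hnA := hb.sit.natOff_min hb.odd hA.isMin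
  have hya : IsPEl p a := isPEl_of_mem hA.isMin.pg ha
  obtain ⟨-, hc⟩ := (hb.fam x').fix_member hb.sit hb.gen hb.odd hya
    (fun B hB => hb.perm hax' hB) (fun B _ u _ => hnA.quad a ha u a ha) (B := X) ⟨hX.isMin, hX.le⟩
  refine hb.not_fix hb.pt_one hx' (by simpa using hx'M) hA hX fun u hu => ?_
  exact hnA.fix_eq a ha hne u (((hb.sit.natOff_min hb.odd hX.isMin).scalar hb.sit.ppow hya hc).1 u hu)

theorem single {A A' : Subgroup H} (hA : IsEx p V S g 1 A) (hA' : IsEx p V S g 1 A') : A' = A := by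
  by_contra hne
  have hAd : A ∈ Del p V (S : Subgroup H) := ⟨hA.isMin, by have := hA.le; rwa [conjS_one] at this⟩
  have hAd' : A' ∈ Del p V (S : Subgroup H) := ⟨hA'.isMin, by have := hA'.le; rwa [conjS_one] at this⟩
  have hF := hb.sit.fam hb.gen hb.odd
  obtain ⟨a₂, ha₂, ha₂1⟩ := (Subgroup.bot_or_exists_ne_one A').resolve_left hA'.isMin.ne
  obtain ⟨X, hX⟩ := hb.exists_ex hb.pt_g
  obtain ⟨hpt2, hex2⟩ := hb.smul_pt hA' ha₂ hb.pt_g
  have hyM : a₂ * g ∉ M := fun h => hb.g_not (by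
    have := mul_mem (inv_mem (hb.sit.SM (hAd'.2 ha₂))) h
    simpa using this)
  obtain ⟨u, hu, hu0⟩ := (hex2 hX).isMin.mv_nontrivial hb.sit hb.odd
  obtain ⟨a, ha, hag, -⟩ := hb.transl hA hb.pt_g hpt2 hb.g_not hyM hX (hex2 hX) hu hu0
  have heD : a⁻¹ * a₂ ∈ sSup (Del p V (S : Subgroup H)) :=
    mul_mem (inv_mem (le_sSup hAd ha)) (le_sSup hAd' ha₂)
  have heS : a⁻¹ * a₂ ∈ (S : Subgroup H) := mul_mem (inv_mem (hAd.2 ha)) (hAd'.2 ha₂)
  obtain ⟨x', hx', hgx', hex'⟩ := hb.exists_rep hb.pt_g (hb.pg_sup heS)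
    (by simpa [mul_assoc] using hag)
  have hx'M : x' ∉ M := fun h' => hb.g_not (by
    have := mul_mem h' (inv_mem hgx')
    simpa [mul_assoc] using this)
  obtain ⟨X', hX'⟩ := hb.exists_ex hx'
  have hye : IsPEl p (a⁻¹ * a₂) := isPEl_of_mem hF.pg heD
  obtain ⟨-, hc⟩ := (hb.fam x').fix_member hb.sit hb.gen hb.odd hye (fun B hB => hb.perm hex' hB)
    (fun B _ u _ => hF.quad hb.sit hb.odd (sub_mem_mv heD u) _ heD) (B := X') ⟨hX'.isMin, hX'.le⟩
  refine hb.not_fix hb.pt_one hx' (by simpa using hx'M) hA' hX' fun w hw => ?_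
  refine (hb.sit.natOff_min hb.odd hA'.isMin).fix_eq a₂ ha₂ ha₂1 w ?_
  have he := ((hb.sit.natOff_min hb.odd hX'.isMin).scalar hb.sit.ppow hye hc).1 w hw
  rw [mul_smul, inv_smul_eq_iff] at he
  rw [← sub_eq_zero]
  by_contra hd
  refine hne (hF.eq_of_mem_mv hb.sit hb.gen hb.odd hAd' hAd (sub_mem_mv ha₂ w) ?_ hd)
  rw [he]
  exact sub_mem_mv ha w

theorem del_eq {A : Subgroup H} (hA : IsEx p V S g 1 A) :
    Del p V (S : Subgroup H) = insert A (com (IsMin p V) S 1 g) := by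
  refine subset_antisymm (fun B hB => ?_) (Set.insert_subset ⟨hA.isMin, ?_⟩ fun B hB => hb.mem_com hB)
  · by_contra hnot
    rw [Set.mem_insert_iff, not_or] at hnot
    exact hnot.1 (hb.single hA ⟨hB.1, by rw [conjS_one]; exact hB.2, hnot.2⟩)
  · have := hA.le
    rwa [conjS_one] at this

theorem ex_unique {x x' : H} (hx : Pt V S g x) (hx' : Pt V S g x') (hxM : x ∉ M) (hxx : x⁻¹ * x' ∈ M)
    {X X' : Subgroup H} (hX : IsEx p V S g x X) (hX' : IsEx p V S g x' X') : X' = X := by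
  obtain ⟨A, hA⟩ := hb.exists_ex hb.pt_one
  have hx'M : x' ∉ M := fun h' => hxM (by
    have := mul_mem h' (inv_mem hxx)
    simpa [mul_assoc] using this)
  have key : ∀ {x x' : H}, Pt V S g x → Pt V S g x' → x ∉ M → x' ∉ M → x⁻¹ * x' ∈ M →
      ∀ {X X' : Subgroup H}, IsEx p V S g x X → IsEx p V S g x' X' → mv V X' ≤ fx V X := by
    intro x x' hx hx' hxM hx'M hxx X X' hX hX' u hu
    rcases eq_or_ne u 0 with rfl | hu0
    · exact zero_mem _
    obtain ⟨a, ha, hax, hu'⟩ := hb.transl hA hx hx' hxM hx'M hX hX' hu hu0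
    have h1 : x⁻¹ * a⁻¹ * x ∈ M := by
      have := mul_mem hax (inv_mem hxx)
      simpa [mul_assoc] using this
    rw [inv_eq_one.1 (hb.stab hA hx hxM (inv_mem ha) h1), conjS_one] at hu'
    exact hu'
  have h12 := key hx hx' hxM hx'M hxx hX hX'
  have h21 := key hx' hx hx'M hxM (by simpa using inv_mem hxx) hX' hX
  have hcm : Cmt X X' := fun b hb' c hc => comm_of_fix hb.sit.faith
    (fun v => h12 (sub_mem_mv hc v) b hb') (fun v => h21 (sub_mem_mv hb' v) c hc)
  set F := insert X' (insert X (com (IsMin p V) S 1 g)) with hF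
  have hFam : Fam p V F := by
    have hmin : ∀ B ∈ F, IsMin p V B := by
      rintro B (rfl | rfl | hB)
      exacts [hX'.isMin, hX.isMin, hB.1]
    refine ⟨hmin, ?_⟩
    rintro B (rfl | rfl | hB) C (rfl | rfl | hC)
    · exact hX'.isMin.comm
    · exact hcm.symm
    · exact (hb.cmt_ex hx' hX' hC).symm
    · exact hcm
    · exact hX.isMin.comm
    · exact (hb.cmt_ex hx hX hC).symm
    · exact hb.cmt_ex hx' hX' hB
    · exact hb.cmt_ex hx hX hB
    · exact (hb.fam x).cmt B ⟨hB.1, hx B hB⟩ C ⟨hC.1, hx C hC⟩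
  obtain ⟨m, hm, hle⟩ := (hb.sit.conj x).le_of_pgroup hFam.pg (sSup_le (by
    rintro B (rfl | rfl | hB)
    · rw [← conjS_M_eq hxx]; exact hX'.le.trans (conjS_mono hb.sit.SM)
    · exact hX.le.trans (conjS_mono hb.sit.SM)
    · exact (hx B hB).trans (conjS_mono hb.sit.SM)))
  rw [sylow_smul_coe, conjS_mul] at hle
  by_contra hne
  have h1 := Set.ncard_le_ncard (show F ⊆ Del p V (conjS (m * x) (S : Subgroup H)) from fun B hB =>
    ⟨hFam.isMin B hB, (le_sSup hB).trans hle⟩) (Set.toFinite _)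
  have hX'n : X' ∉ insert X (com (IsMin p V) S 1 g) := by
    rw [Set.mem_insert_iff, not_or]; exact ⟨hne, hX'.notMem⟩
  rw [hb.ncard_del, hb.del_eq hA, hF, Set.ncard_insert_of_notMem hX'n (Set.toFinite _),
    Set.ncard_insert_of_notMem hX.notMem (Set.toFinite _),
    Set.ncard_insert_of_notMem hA.notMem (Set.toFinite _)] at h1
  omega

/-- An element of `S` centralising all minimal offenders agrees with an element of the extra on the opposite
commutator space. -/
theorem adjust {A X : Subgroup H} (hA : IsEx p V S g 1 A) (hX : IsEx p V S g g X) {y : H}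
    (hy : y ∈ (S : Subgroup H)) (hc : Cmt (Subgroup.zpowers y) (sSup (Del p V (S : Subgroup H)))) :
    ∃ a ∈ A, ∀ u ∈ mv V X, (a⁻¹ * y) • u = u := by
  have hAd : A ∈ Del p V (S : Subgroup H) := ⟨hA.isMin, by have := hA.le; rwa [conjS_one] at this⟩
  have hCfix : ∀ B ∈ com (IsMin p V) S 1 g, ∀ b ∈ B, b * y = y * b := fun B hB b hb' =>
    (hc y (Subgroup.mem_zpowers y) b (le_sSup (show B ∈ Del p V (S : Subgroup H) from hb.mem_com hB) hb')).symm
  have hfixy : ∀ B ∈ com (IsMin p V) S 1 g, conjS y B = B := fun B hB => conjS_cmt (hCfix B hB)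
  have hpty : Pt V S g (y * g) := fun B hB => by
    rw [← hfixy B hB, ← conjS_mul]; exact conjS_mono (hb.pt_g B hB)
  have hexy : IsEx p V S g (y * g) (conjS y X) := ⟨hX.isMin.conj y,
    by rw [← conjS_mul]; exact conjS_mono hX.le, fun hC => hX.notMem (by
      have h2 := congrArg (conjS y⁻¹) (hfixy _ hC)
      simp only [conjS_mul, inv_mul_cancel, conjS_one, inv_mul_cancel_left] at h2
      rwa [h2] at hC)⟩
  have hyM : y * g ∉ M := fun h => hb.g_not (by
    have := mul_mem (inv_mem (hb.sit.SM hy)) h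
    simpa using this)
  obtain ⟨u, hu, hu0⟩ := hexy.isMin.mv_nontrivial hb.sit hb.odd
  obtain ⟨a, ha, hag, -⟩ := hb.transl hA hb.pt_g hpty hb.g_not hyM hX hexy hu hu0
  refine ⟨a, ha, ?_⟩
  set e := a⁻¹ * y with he
  have heS : e ∈ (S : Subgroup H) := mul_mem (inv_mem (hAd.2 ha)) hy
  obtain ⟨x', hx', hgx', hex'⟩ := hb.exists_rep hb.pt_g (hb.pg_sup heS) (by
    simpa [he, mul_assoc] using hag)
  obtain ⟨X', hX'⟩ := hb.exists_ex hx'
  have hXX : X' = X := hb.ex_unique hb.pt_g hx' hb.g_not hgx' hX hX'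
  subst hXX
  have hfixC : ∀ B ∈ com (IsMin p V) S 1 g, conjS e B = B := fun B hB => conjS_cmt fun b hb' => by
    rw [he, ← mul_assoc, (hb.cmt_ex hb.pt_one hA hB b hb' a⁻¹ (inv_mem ha)), mul_assoc, hCfix B hB b hb',
      mul_assoc]
  have hXfix : conjS e X' = X' := by
    refine hb.ex_unique hx' hx' ?_ (by simpa using one_mem M) hX'
      ⟨hX'.isMin.conj e, (hb.perm hex' ⟨hX'.isMin, hX'.le⟩).2, fun hC => hX'.notMem ?_⟩
    · exact fun h' => hb.g_not (by
        have := mul_mem h' (inv_mem hgx')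
        simpa [mul_assoc] using this)
    · have h2 := congrArg (conjS e⁻¹) (hfixC _ hC)
      simp only [conjS_mul, inv_mul_cancel, conjS_one, inv_mul_cancel_left] at h2
      rwa [h2] at hC
  have hAe : ∀ b ∈ A, b * e = e * b := fun b hb' => by
    rw [he, ← mul_assoc, hA.isMin.comm b hb' a⁻¹ (inv_mem ha), mul_assoc,
      (hc y (Subgroup.mem_zpowers y) b (le_sSup hAd hb')).symm, mul_assoc]
  intro w hw
  have h1 : e • w ∈ mv V X' := hXfix ▸ mem_mv_conjS hw
  have h2 := ((hb.sit.natOff_min hb.odd hA.isMin).scalar hb.sit.ppow (isPEl_of_mem S.isPGroup' heS) hAe).2 w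
  rw [← sub_eq_zero]
  exact (hb.opp hb.pt_one hb.pt_g (by simpa using hb.g_not) hA hX).inf _ (sub_mem h1 hw) h2

/-- All minimal offenders of `S` are conjugate in `S`. -/
theorem orbit {A B : Subgroup H} (hA : IsEx p V S g 1 A) (hB : B ∈ Del p V (S : Subgroup H)) :
    ∃ s ∈ (S : Subgroup H), conjS s A = B := by
  by_contra hc
  push Not at hc
  set R := {C ∈ Del p V (S : Subgroup H) | ∀ s ∈ (S : Subgroup H), conjS s A ≠ C} with hR
  have hRC : ∀ C ∈ R, C ∈ com (IsMin p V) S 1 g := fun C hC => by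
    have h1 := hC.1
    rw [hb.del_eq hA] at h1
    exact h1.resolve_left fun h => hC.2 1 (one_mem _) (by rw [conjS_one, h])
  obtain ⟨X, hX⟩ := hb.exists_ex hb.pt_g
  obtain ⟨L, t, z, hL, hLM, -, -, -⟩ := (hb.opp hb.pt_one hb.pt_g (by simpa using hb.g_not) hA hX).kit
  rw [conjS_one] at hLM
  set N := Subgroup.normalizer ((sSup R : Subgroup H) : Set H) with hN
  have hSN : (S : Subgroup H) ≤ N := fun k hk => by
    refine mem_normalizer_of_conjS (Subgroup.eq_of_le_of_card_ge ?_ (by rw [card_conjS]))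
    rw [conjS_le_iff, sSup_le_iff]
    intro C hC
    refine conjS_le_iff.1 (show conjS k C ≤ sSup R from le_sSup ⟨⟨hC.1.1.conj k,
      (conjS_mono hC.1.2).trans (conjS_of_mem hk).le⟩, fun s hs' h => hC.2 (k⁻¹ * s) (mul_mem (inv_mem hk) hs') ?_⟩)
    rw [← conjS_mul, h, conjS_mul, inv_mul_cancel, conjS_one]
  have hLN : L ≤ N := hL.trans (sup_le ?_ ?_)
  rotate_left
  · exact fun a ha => mem_normalizer_of_conjS (conjS_cmt fun b hb' =>
      (cmt_iff.2 (sSup_le fun C hC => cmt_iff.1 (hb.cmt_ex hb.pt_one hA (hRC C hC)))) b hb' a ha)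
  · exact fun a ha => mem_normalizer_of_conjS (conjS_cmt fun b hb' =>
      (cmt_iff.2 (sSup_le fun C hC => cmt_iff.1 (hb.cmt_ex hb.pt_g hX (hRC C hC)))) b hb' a ha)
  have htop : N = ⊤ := by
    by_contra hne
    exact hLM (hLN.trans (hb.sit.up N hSN hne))
  have hbot := hb.sit.core _ (Subgroup.normalizer_eq_top_iff.1 htop)
    ((hb.sit.fam hb.gen hb.odd).subset fun C hC => hC.1).pg
  exact hB.1.ne (le_bot_iff.1 (hbot ▸ le_sSup (show B ∈ R from ⟨hB, fun s hs' h => hc s hs' h⟩)))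

end Base

/-- Every minimal offender in `S` is left out by a maximal pair. -/
theorem Sit.exists_base (hs : Sit p V S M) (hgen : Gen V S) (hp2 : p ≠ 2) {B : Subgroup H}
    (hB : B ∈ Del p V (S : Subgroup H)) : ∃ g, Base p V S M g ∧ IsEx p V S g 1 B := by
  obtain ⟨k, g, hg⟩ := exists_top (IsMin p V) S hs.Mne
  have hB' : conjS k B ∈ Del p V ((k • S : Sylow p H) : Subgroup H) :=
    ⟨hB.1.conj k, conjS_mono hB.2⟩
  have hb : Base p V (k • S) (conjS k M) g := ⟨hs.conj k, hgen.conj k, hp2, hg, ⟨_, hB'⟩⟩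
  obtain ⟨A, hA⟩ := hb.exists_ex hb.pt_one
  obtain ⟨s, hsS, hsA⟩ := hb.orbit hA hB'
  -- move the pair by `s`, then back by `k`
  set g' := k⁻¹ * (s * g) * k with hg'
  have hA'S : A ≤ conjS k (S : Subgroup H) := by
    have := hA.le
    rwa [conjS_one, sylow_smul_coe] at this
  have hsg : ∀ X, X ∈ com (IsMin p V) (k • S) 1 g ↔ conjS (k⁻¹ * s) X ∈ com (IsMin p V) S 1 g' := by
    intro X
    have e1 : ∀ a : H, conjS (k⁻¹ * s) (conjS a (conjS k (S : Subgroup H))) =
        conjS (k⁻¹ * s * a * k) (S : Subgroup H) := fun a => by rw [conjS_mul, conjS_mul]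
    have e2 : conjS (k⁻¹ * s * 1 * k) (S : Subgroup H) = (S : Subgroup H) := by
      rw [← e1, conjS_one, ← conjS_mul, conjS_of_mem (show s ∈ conjS k (S : Subgroup H) from hsS), conjS_mul,
        inv_mul_cancel, conjS_one]
    have e3 : k⁻¹ * s * g * k = g' := by rw [hg']; group
    constructor
    · rintro ⟨h1, h2, h3⟩
      rw [sylow_smul_coe] at h2 h3
      refine ⟨h1.conj _, ?_, ?_⟩
      · have := conjS_mono (k := k⁻¹ * s) h2
        rw [e1, e2] at this
        rwa [conjS_one]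
      · have := conjS_mono (k := k⁻¹ * s) h3
        rwa [e1, e3] at this
    · rintro ⟨h1, h2, h3⟩
      refine ⟨?_, ?_, ?_⟩
      · have := h1.conj (k⁻¹ * s)⁻¹
        rwa [conjS_mul, inv_mul_cancel, conjS_one] at this
      · rw [conjS_one] at h2
        rw [← e2, ← e1] at h2
        rw [sylow_smul_coe]
        exact (Subgroup.map_le_map_iff_of_injective (MulAut.conj (k⁻¹ * s)).injective).1 h2
      · rw [← e3, ← e1] at h3
        rw [sylow_smul_coe]
        exact (Subgroup.map_le_map_iff_of_injective (MulAut.conj (k⁻¹ * s)).injective).1 h3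
  have hcard : (com (IsMin p V) S 1 g').ncard = (com (IsMin p V) (k • S) 1 g).ncard := by
    refine (Set.ncard_congr (fun X _ => conjS (k⁻¹ * s) X) (fun X hX => (hsg X).1 hX) (fun X Y _ _ h => ?_)
      fun Y hY => ⟨conjS (k⁻¹ * s)⁻¹ Y, ?_, ?_⟩).symm
    · exact Subgroup.map_injective (MulAut.conj (k⁻¹ * s)).injective h
    · rw [hsg, conjS_mul, mul_inv_cancel, conjS_one]; exact hY
    · rw [conjS_mul, mul_inv_cancel, conjS_one]
  have hg'M : g' ∉ M := by
    intro h
    refine hg.1 (mem_conjS.2 ?_)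
    have h1 : k⁻¹ * s * k ∈ M := hs.SM (mem_conjS.1 hsS)
    have h2 := mul_mem (inv_mem h1) h
    simpa [hg', mul_assoc] using h2
  refine ⟨g', ⟨hs, hgen, hp2, ⟨hg'M, fun x y hxy => ?_⟩, ⟨B, hB⟩⟩, hB.1, by rw [conjS_one]; exact hB.2, ?_⟩
  · rw [hcard]
    have h := hg.2 (x * k⁻¹) (y * k⁻¹) (fun h' => hxy ?_)
    · rwa [com_smul, inv_mul_cancel_right, inv_mul_cancel_right] at h
    · rw [mem_conjS] at h'
      simpa [mul_assoc] using h'
  · intro h
    refine hA.notMem ((hsg A).2 ?_)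
    rwa [← conjS_mul, hsA, conjS_mul, inv_mul_cancel, conjS_one]

end Cfsg.Agent.T3
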