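/-
An abelian subgroup of the Sylow subgroup of largest measure lies in the join of the minimal offenders.
-/
import Cfsg.Agent.Lib.Transfer3.Points

set_option autoImplicit false
set_option linter.unusedSectionVars false
set_option linter.style.haveILetI false

namespace Cfsg.Agent.T3

open Cfsg.Agent.FFEmb

variable {H : Type*} [Group H] [Finite H] {p : ℕ} [hp : Fact p.Prime]
  {V : Type*} [AddCommGroup V] [DistribMulAction H V] {S : Sylow p H} {M : Subgroup H} [Finite V]

/-- The join of the minimal offenders in the Sylow subgroup. -/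
abbrev DD (p : ℕ) (V : Type*) [AddCommGroup V] [DistribMulAction H V] (S : Subgroup H) : Subgroup H :=
  sSup (Del p V S)

theorem DD_le (S : Subgroup H) : DD p V S ≤ S := sSup_le fun _ hA => hA.2

/-- An offender together with an opposite one. -/
def Mate (p : ℕ) (V : Type*) [AddCommGroup V] [DistribMulAction H V] (S : Sylow p H) (M A X : Subgroup H) : Prop :=
  ∃ g : H, Base p V S M g ∧ IsEx p V S g 1 A ∧ IsEx p V S g g X

theorem Sit.exists_mate (hs : Sit p V S M) (hgen : Gen V S) (hp2 : p ≠ 2) {A : Subgroup H}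
    (hA : A ∈ Del p V (S : Subgroup H)) : ∃ X, Mate p V S M A X := by
  obtain ⟨g, hb, hA'⟩ := hs.exists_base hgen hp2 hA
  obtain ⟨X, hX⟩ := hb.exists_ex hb.pt_g
  exact ⟨X, g, hb, hA', hX⟩

theorem Mate.opp {A X : Subgroup H} (h : Mate p V S M A X) : Opp p V M A X := by
  obtain ⟨g, hb, hA, hX⟩ := h
  have := hb.opp hb.pt_one hb.pt_g (by simpa using hb.g_not) hA hX
  rwa [conjS_one] at this

theorem Mate.isMin {A X : Subgroup H} (h : Mate p V S M A X) : IsMin p V X := by
  obtain ⟨g, -, -, hX⟩ := h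
  exact hX.isMin

theorem Mate.mem_del {A X : Subgroup H} (h : Mate p V S M A X) : A ∈ Del p V (S : Subgroup H) := by
  obtain ⟨g, -, hA, -⟩ := h
  exact ⟨hA.isMin, by have := hA.le; rwa [conjS_one] at this⟩

/-- The other members centralise the opposite offender. -/
theorem Mate.cmt {A X : Subgroup H} (h : Mate p V S M A X) {B : Subgroup H}
    (hB : B ∈ Del p V (S : Subgroup H)) (hne : B ≠ A) : Cmt B X := by
  obtain ⟨g, hb, hA, hX⟩ := h
  have hB' := hB
  rw [hb.del_eq hA] at hB'
  exact hb.cmt_ex hb.pt_g hX (hB'.resolve_left hne)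

theorem Mate.fix {A X : Subgroup H} (h : Mate p V S M A X) (hp2 : p ≠ 2) {B : Subgroup H}
    (hB : B ∈ Del p V (S : Subgroup H)) (hne : B ≠ A) {b : H} (hb' : b ∈ B) {u : V} (hu : u ∈ mv V X) :
    b • u = u := by
  have hcm := h.cmt hB hne
  obtain ⟨g, hb, -, hX⟩ := h
  exact ((hb.sit.natOff_min hp2 hX.isMin).scalar hb.sit.ppow (isPEl_of_mem hB.1.pg hb')
    fun a ha => (hcm b hb' a ha).symm).1 u hu

theorem Sit.perm_del (hs : Sit p V S M) {y : H} (hy : y ∈ (S : Subgroup H)) {B : Subgroup H}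
    (hB : B ∈ Del p V (S : Subgroup H)) : conjS y B ∈ Del p V (S : Subgroup H) :=
  ⟨hB.1.conj y, (conjS_mono hB.2).trans (conjS_of_mem hy).le⟩

theorem Sit.meas_DD (hs : Sit p V S M) (hgen : Gen V S) (hp2 : p ≠ 2) :
    meas V (DD p V (S : Subgroup H)) = Nat.card V := ((hs.fam hgen hp2).indep hs hgen hp2).1

theorem Sit.le_DD (hs : Sit p V S M) (hgen : Gen V S) (hp2 : p ≠ 2) {P : Subgroup H}
    (hPS : P ≤ (S : Subgroup H)) (hc : Cmt P P) (hl : Nat.card V ≤ meas V P) : P ≤ DD p V (S : Subgroup H) := by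
  suffices key : ∀ (n : ℕ) (P : Subgroup H), Nat.card P = n → P ≤ (S : Subgroup H) → Cmt P P →
      Nat.card V ≤ meas V P → P ≤ DD p V (S : Subgroup H) from key _ P rfl hPS hc hl
  intro n
  induction n using Nat.strong_induction_on with
  | _ n ih =>
    intro P hn hPS hc hl
    set D := DD p V (S : Subgroup H) with hD
    have hF := hs.fam hgen hp2
    have hPp : IsPGroup p P := S.isPGroup'.to_le hPS
    have hq : ∀ A ∈ Del p V (S : Subgroup H), ∀ u ∈ mv V A, ∀ y ∈ P, y • (y • u - u) = y • u - u := by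
      by_cases hquad : ∀ a ∈ P, ∀ v : V, a • v - v ∈ fx V P
      · exact fun A _ u _ y hy => hquad y hy u y hy
      obtain ⟨P', U, hP', hne, hU, -, hle, hU2⟩ := replacement hs.ppow hPp hc hquad
      have h2 : Nat.card P' * Nat.card U ≤ meas V P' := Nat.mul_le_mul_left _
        (Nat.card_le_card_of_injective (Set.inclusion hU) (Set.inclusion_injective _))
      have h3 := hs.bound hp2 (hPp.to_le hP') (hc.mono hP' hP')
      have hUeq : U = fx V P' := AddSubgroup.eq_of_le_of_card_ge hU
        (Nat.le_of_mul_le_mul_left (show Nat.card P' * Nat.card (fx V P') ≤ Nat.card P' * Nat.card U from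
          (h3.trans hl).trans hle) Nat.card_pos)
      have hP'D : P' ≤ D := ih (Nat.card P')
        (hn ▸ lt_of_le_of_ne (Subgroup.card_le_of_le hP') fun h => hne (Subgroup.eq_of_le_of_card_ge hP' h.ge))
        P' rfl (hP'.trans hPS) (hc.mono hP' hP') (hl.trans (hle.trans h2))
      intro A hA u hu y hy
      have huU : u ∈ U := hUeq.ge (fx_anti hP'D (hF.quad hs hp2 (mv_mono (le_sSup hA) hu)))
      exact hU2 u huU y hy y hy
    have hPD : Cmt P D := cmt_iff.2 fun y hy => by
      have hle : D ≤ Subgroup.centralizer ({y} : Set H) := sSup_le fun A hA a ha => by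
        rw [Subgroup.mem_centralizer_singleton_iff]
        exact (hF.fix_member hs hgen hp2 (isPEl_of_mem hPp hy) (fun B hB => hs.perm_del (hPS hy) hB)
          (fun B hB u hu => hq B hB u hu y hy) hA).2 a ha
      intro d hd
      exact Subgroup.mem_centralizer_singleton_iff.1 (hle hd)
    set P'' := P ⊔ D with hP''
    have hP''S : P'' ≤ (S : Subgroup H) := sup_le hPS (DD_le _)
    have hc'' : Cmt P'' P'' := cmt_sup (cmt_sup hc hPD.symm).symm (cmt_sup hPD hF.cmt_sSup).symm
    have hl'' : Nat.card V ≤ meas V P'' := by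
      have h1 := meas_mul_le (V := V) hPD
      rw [hs.meas_DD hgen hp2] at h1
      have h2 := hs.bound hp2 (hPp.to_le inf_le_left : IsPGroup p ↥(P ⊓ D : Subgroup H))
        (hc.mono inf_le_left inf_le_left)
      exact Nat.le_of_mul_le_mul_right (((Nat.mul_le_mul_right _ hl).trans h1).trans
        (Nat.mul_le_mul_left _ h2)) Nat.card_pos
    choose! X hX using fun A (hA : A ∈ Del p V (S : Subgroup H)) => hs.exists_mate hgen hp2 hA
    have key : ∀ G : Set (Subgroup H), G ⊆ Del p V (S : Subgroup H) →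
        ∃ Q : Subgroup H, Q ≤ P'' ∧ (∀ B ∈ Del p V (S : Subgroup H), B ∉ G → B ≤ Q) ∧
          (∀ A ∈ G, ∀ q ∈ Q, ∀ u ∈ mv V (X A), q • u = u) ∧ Nat.card V ≤ meas V Q ∧ P'' ≤ sSup G ⊔ Q := by
      intro G
      have hfin : G.Finite := Set.toFinite G
      induction G, hfin using Set.Finite.induction_on with
      | empty => exact fun _ => ⟨P'', le_rfl, fun B hB _ => (le_sSup hB).trans le_sup_right, fun A hA => absurd hA id,
          hl'', le_sup_right⟩
      | @insert A G hAG _ ih' =>
        intro hsub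
        have hAd : A ∈ Del p V (S : Subgroup H) := hsub (Set.mem_insert A G)
        obtain ⟨Q, hQP, hQmem, hQfix, hQl, hQsup⟩ := ih' ((Set.subset_insert A G).trans hsub)
        have hmate := hX A hAd
        let Q' : Subgroup H :=
          { carrier := {q | q ∈ Q ∧ ∀ u ∈ mv V (X A), q • u = u}
            one_mem' := ⟨one_mem _, fun u _ => one_smul H u⟩
            mul_mem' := fun {a b} ha hb => ⟨mul_mem ha.1 hb.1, fun u hu => by
              rw [mul_smul, hb.2 u hu, ha.2 u hu]⟩
            inv_mem' := fun {a} ha => ⟨inv_mem ha.1, fun u hu => inv_smul_eq_iff.2 (ha.2 u hu).symm⟩ }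
        have hQ'Q : Q' ≤ Q := fun q hq' => hq'.1
        have hAQ : A ≤ Q := hQmem A hAd hAG
        have hsplit : Q ≤ A ⊔ Q' := by
          intro e he
          obtain ⟨g, hb, hA1, hXg⟩ := hmate
          obtain ⟨a, ha, hae⟩ := hb.adjust hA1 hXg (y := e) (hP''S (hQP he))
            (hc''.mono (Subgroup.zpowers_le.2 (hQP he)) le_sup_right)
          have : e = a * (a⁻¹ * e) := by group
          rw [this]
          exact mul_mem (Subgroup.mem_sup_left ha)
            (Subgroup.mem_sup_right ⟨mul_mem (inv_mem (hAQ ha)) he, hae⟩)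
        refine ⟨Q', hQ'Q.trans hQP, fun B hB hBG b hb' => ⟨?_, fun u hu => ?_⟩, fun B hB q hq' u hu => ?_, ?_, ?_⟩
        · exact hQmem B hB (fun h => hBG (Set.mem_insert_of_mem A h)) hb'
        · exact hmate.fix hp2 hB (fun h => hBG (h ▸ Set.mem_insert A G)) hb' hu
        · rcases hB with rfl | hB
          · exact hq'.2 u hu
          · exact hQfix B hB q hq'.1 u hu
        · refine hQl.trans ?_
          have h1 : Nat.card Q ≤ Nat.card A * Nat.card Q' := by
            have := card_sup_mul_card_inf (A := A) (B := Q') (hc''.mono (hAQ.trans hQP) (hQ'Q.trans hQP))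
            refine ((Subgroup.card_le_of_le hsplit).trans (Nat.le_mul_of_pos_right _ Nat.card_pos)).trans this.ge
          have h2 : Nat.card (fx V Q) * Nat.card A ≤ Nat.card (fx V Q') := by
            rw [← (hs.natOff_min hp2 hAd.1).card_mv.trans rfl, (hs.natOff_min hp2 hAd.1).card_mv,
              ← hmate.opp.card_eq, ← (hs.natOff_min hp2 hmate.isMin).card_mv, ← Nat.card_prod]
            refine Nat.card_le_card_of_injective (fun w : fx V Q × mv V (X A) =>
              (⟨(w.1 : V) + w.2, add_mem (fx_anti hQ'Q w.1.2) fun q hq' => hq'.2 _ w.2.2⟩ : fx V Q')) ?_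
            rintro ⟨c, u⟩ ⟨c', u'⟩ h
            have h' : (c : V) + u = c' + u' := congrArg Subtype.val h
            have h3 : (u : V) - u' = c' - c := by
              rw [sub_eq_sub_iff_add_eq_add, add_comm, h']
            have h4 : (u : V) = u' := sub_eq_zero.1 (hmate.opp.inf _ (sub_mem u.2 u'.2)
              (by rw [h3]; exact fx_anti hAQ (sub_mem c'.2 c.2)))
            rw [h4, add_left_inj] at h'
            exact Prod.ext (Subtype.ext h') (Subtype.ext h4)
          calc Nat.card Q * Nat.card (fx V Q) ≤ Nat.card A * Nat.card Q' * Nat.card (fx V Q) :=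
                Nat.mul_le_mul_right _ h1
            _ = Nat.card Q' * (Nat.card (fx V Q) * Nat.card A) := by ring
            _ ≤ meas V Q' := Nat.mul_le_mul_left _ h2
        · rw [sSup_insert]
          exact hQsup.trans (sup_le (le_sup_right.trans le_sup_left) (hsplit.trans
            (sup_le (le_sup_left.trans le_sup_left) le_sup_right)))
    obtain ⟨Q, hQP, -, hQfix, hQl, hQsup⟩ := key _ subset_rfl
    rcases eq_or_ne Q ⊥ with hQ0 | hQ0
    · rw [hQ0, sup_bot_eq] at hQsup
      exact le_sup_left.trans hQsup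
    obtain ⟨B, hBQ, hB⟩ := exists_isMin (S.isPGroup'.to_le (hQP.trans hP''S)) hQ0 (hc''.mono hQP hQP) hQl
    have hBd : B ∈ Del p V (S : Subgroup H) := ⟨hB, hBQ.trans (hQP.trans hP''S)⟩
    obtain ⟨u, hu, hu0⟩ := (hX B hBd).isMin.mv_nontrivial hs hp2
    exact absurd ((hX B hBd).opp.inf u hu fun b hb => hQfix B hBd b (hBQ hb) u hu) hu0

/-- The elements of `S` fixing the fixed space of `D` lie in `D`. -/
theorem Sit.mem_DD (hs : Sit p V S M) (hgen : Gen V S) (hp2 : p ≠ 2) {y : H} (hy : y ∈ (S : Subgroup H))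
    (hfix : ∀ v ∈ fx V (DD p V (S : Subgroup H)), y • v = v) : y ∈ DD p V (S : Subgroup H) := by
  set D := DD p V (S : Subgroup H) with hD
  have hF := hs.fam hgen hp2
  let Y : Subgroup H :=
    { carrier := {x | x ∈ (S : Subgroup H) ∧ ∀ v ∈ fx V D, x • v = v}
      one_mem' := ⟨one_mem _, fun v _ => one_smul H v⟩
      mul_mem' := fun {a b} ha hb => ⟨mul_mem ha.1 hb.1, fun v hv => by rw [mul_smul, hb.2 v hv, ha.2 v hv]⟩
      inv_mem' := fun {a} ha => ⟨inv_mem ha.1, fun v hv => inv_smul_eq_iff.2 (ha.2 v hv).symm⟩ }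
  have hfix' : ∀ A ∈ Del p V (S : Subgroup H), ∀ u ∈ mv V A, ∀ x ∈ Y, x • u = u := fun A hA u hu x hx =>
    hx.2 u (hF.quad hs hp2 (mv_mono (le_sSup hA) hu))
  have hYD : Cmt Y D := cmt_iff.2 fun x hx => by
    have hle : D ≤ Subgroup.centralizer ({x} : Set H) := sSup_le fun A hA a ha => by
      rw [Subgroup.mem_centralizer_singleton_iff]
      exact (hF.fix_member hs hgen hp2 (isPEl_of_mem S.isPGroup' hx.1) (fun B hB => hs.perm_del hx.1 hB)
        (fun B hB u hu => by rw [hfix' B hB u hu x hx, sub_self, smul_zero]) hA).2 a ha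
    intro d hd
    exact Subgroup.mem_centralizer_singleton_iff.1 (hle hd)
  have hmod : ∀ x ∈ Y, ∀ v : V, x • v - v ∈ fx V D := fun x hx v d hd => by
    have h1 := hx.2 _ (hF.quad hs hp2 (sub_mem_mv hd v))
    rw [smul_sub, ← mul_smul, hYD x hx d hd, mul_smul] at h1
    rw [smul_sub, sub_eq_sub_iff_sub_eq_sub, h1]
  have hYc : Cmt Y Y := fun a ha b hb => comm_of_fix hs.faith (fun v => ha.2 _ (hmod b hb v))
    fun v => hb.2 _ (hmod a ha v)
  have hDY : D ≤ Y := fun d hd => ⟨DD_le _ hd, fun v hv => hv d hd⟩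
  refine hs.le_DD hgen hp2 (P := Y) (fun x hx => hx.1) hYc ?_ (show y ∈ Y from ⟨hy, hfix⟩)
  rw [← hs.meas_DD hgen hp2]
  refine Nat.mul_le_mul (Subgroup.card_le_of_le hDY) ?_
  exact Nat.card_le_card_of_injective (Set.inclusion fun v (hv : v ∈ fx V D) => fun x hx => hx.2 v hv)
    (Set.inclusion_injective _)

end Cfsg.Agent.T3
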