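/-
A group in which the centre and the second functor fail to control transfer, and its action on the normal
closure of the centre of a Sylow subgroup.
-/
import Cfsg.Agent.Lib.Transfer3.Struct
import Cfsg.Agent.Lib.Transfer3.Functor

set_option autoImplicit false
set_option linter.unusedSectionVars false
set_option linter.style.haveILetI false

namespace Cfsg.Agent.T3

open Cfsg Cfsg.Agent.FFEmb

universe u

variable {G : Type u} [Group G] {p : ℕ}

/-- `Z(S)` inside the group. -/
def zc (S : Sylow p G) : Subgroup G := (S : Subgroup G) ⊓ Subgroup.centralizer ((S : Subgroup G) : Set G)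

/-- The normal closure of `Z(S)`. -/
def vc (S : Sylow p G) : Subgroup G := Subgroup.normalClosure (zc S : Set G)

instance vc_normal (S : Sylow p G) : (vc S).Normal := Subgroup.normalClosure_normal

theorem conjNormal_coe {N : Subgroup G} [N.Normal] (g : G) (v : N) :
    ((MulAut.conjNormal g v : N) : G) = g * v * g⁻¹ := MulAut.conjNormal_apply g v

/-- The group induced on the normal closure. -/
abbrev Hb (S : Sylow p G) : Type u := ↥(MulAut.conjNormal (H := vc S)).range

/-- The map onto it. -/
def hb (S : Sylow p G) : G →* Hb S := (MulAut.conjNormal (H := vc S)).rangeRestrict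

theorem hb_surj (S : Sylow p G) : Function.Surjective (hb S) := MonoidHom.rangeRestrict_surjective _

/-- The module. -/
class Abel (S : Sylow p G) : Prop where
  comm : ∀ a b : vc S, a * b = b * a

instance (S : Sylow p G) [Abel S] : CommGroup (vc S) :=
  { (inferInstance : Group (vc S)) with mul_comm := Abel.comm }

instance vAct (S : Sylow p G) [Abel S] : DistribMulAction (Hb S) (Additive (vc S)) where
  smul f v := Additive.ofMul ((f : MulAut (vc S)) (Additive.toMul v))
  one_smul v := Additive.toMul.injective rfl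
  mul_smul f f' v := Additive.toMul.injective rfl
  smul_zero f := Additive.toMul.injective (map_one (f : MulAut (vc S)))
  smul_add f v v' := Additive.toMul.injective (map_mul (f : MulAut (vc S)) _ _)

/-- An element of `V` as a vector. -/
def vv {S : Sylow p G} {v : G} (hv : v ∈ vc S) : Additive (vc S) := Additive.ofMul ⟨v, hv⟩

/-- The element behind a vector. -/
def vg {S : Sylow p G} (v : Additive (vc S)) : G := ((Additive.toMul v : vc S) : G)

theorem vg_mem {S : Sylow p G} (v : Additive (vc S)) : vg v ∈ vc S := (Additive.toMul v : vc S).2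

theorem vg_inj {S : Sylow p G} {v w : Additive (vc S)} (h : vg v = vg w) : v = w :=
  Additive.toMul.injective (Subtype.ext h)

section

variable {S : Sylow p G} [Abel S]

theorem vg_smul (g : G) (v : Additive (vc S)) : vg (hb S g • v) = g * vg v * g⁻¹ := conjNormal_coe g _

theorem vg_add (v w : Additive (vc S)) : vg (v + w) = vg v * vg w := rfl

theorem vg_zero : vg (0 : Additive (vc S)) = 1 := rfl

theorem vg_neg (v : Additive (vc S)) : vg (-v) = (vg v)⁻¹ := rfl

theorem vg_sub (v w : Additive (vc S)) : vg (v - w) = vg v * (vg w)⁻¹ := by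
  rw [sub_eq_add_neg, vg_add, vg_neg]

theorem vg_vv {v : G} (hv : v ∈ vc S) : vg (vv (S := S) hv) = v := rfl

theorem smul_eq_iff (g : G) (v : Additive (vc S)) : hb S g • v = v ↔ g * vg v = vg v * g := by
  rw [← mul_inv_eq_iff_eq_mul, ← vg_smul]
  exact ⟨fun h => by rw [h], fun h => vg_inj h⟩

theorem mem_fx_map {B : Subgroup G} {v : Additive (vc S)} :
    v ∈ fx (Additive (vc S)) (B.map (hb S)) ↔ vg v ∈ Subgroup.centralizer (B : Set G) := by
  constructor
  · intro h b hb'
    exact (smul_eq_iff b v).1 (h _ ⟨b, hb', rfl⟩)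
  · rintro h _ ⟨b, hb', rfl⟩
    exact (smul_eq_iff b v).2 (h b hb')

theorem card_fx_map (B : Subgroup G) :
    Nat.card (fx (Additive (vc S)) (B.map (hb S))) = Nat.card ↥(vc S ⊓ Subgroup.centralizer (B : Set G)) :=
  Nat.card_congr
    { toFun := fun v => ⟨vg v.1, vg_mem v.1, mem_fx_map.1 v.2⟩
      invFun := fun v => ⟨vv v.2.1, mem_fx_map.2 v.2.2⟩
      left_inv := fun _ => rfl
      right_inv := fun _ => rfl }

theorem hb_eq_one_iff {g : G} : hb S g = 1 ↔ g ∈ Subgroup.centralizer (vc S : Set G) := by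
  constructor
  · intro h v hv
    have := (smul_eq_iff g (vv (S := S) hv)).1 (by rw [h, one_smul])
    exact this.symm
  · intro h
    refine Subtype.ext (MulEquiv.ext fun v => Subtype.ext ?_)
    show ((MulAut.conjNormal g v : vc S) : G) = v
    rw [conjNormal_coe, mul_inv_eq_iff_eq_mul]
    exact (h v v.2).symm

theorem hb_eq_iff {g k : G} : hb S g = hb S k ↔ k⁻¹ * g ∈ Subgroup.centralizer (vc S : Set G) := by
  rw [← hb_eq_one_iff, map_mul, map_inv, inv_mul_eq_one, eq_comm]

theorem card_map [Finite G] (B : Subgroup G) :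
    Nat.card B = Nat.card ↥(B ⊓ Subgroup.centralizer (vc S : Set G)) * Nat.card ↥(B.map (hb S)) := by
  have h := ((hb S).domRestrict B).ker.card_mul_index
  rw [Subgroup.index_ker, MonoidHom.domRestrict_range] at h
  rw [← h]
  refine congrArg (· * _) (Nat.card_congr
    { toFun := fun x => ⟨(x.1 : G), x.1.2, hb_eq_one_iff.1 x.2⟩
      invFun := fun x => ⟨⟨x.1, x.2.1⟩, hb_eq_one_iff.2 x.2.2⟩
      left_inv := fun _ => rfl
      right_inv := fun _ => rfl })

end

/-- A group in which the two functors fail to control transfer. -/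
structure Cex (p : ℕ) (S : Sylow p G) (R : Subgroup G) : Prop where
  constr : Subgroup.centralizer ((pCore p G : Subgroup G) : Set G) ≤ pCore p G
  Mne : Subgroup.normalizer (R : Set G) ≠ ⊤
  up : ∀ K : Subgroup G, (S : Subgroup G) ≤ K → K ≠ ⊤ → K ≤ Subgroup.normalizer (R : Set G)
  RQ : R ≤ pCore p G
  comm : ⁅pCore p G, Subgroup.normalizer (R : Set G)⁆ ≤ R
  zN : ¬ (zc S).Normal
  wN : ¬ (inducedFunctor (G := G) wF (S : Subgroup G)).Normal

namespace Cex

variable [Finite G] [hp : Fact p.Prime] {S : Sylow p G} {R : Subgroup G} (cx : Cex p S R)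
include cx

theorem Q_le : pCore p G ≤ (S : Subgroup G) := PBasic.pCore_le_sylow S

theorem SM : (S : Subgroup G) ≤ Subgroup.normalizer (R : Set G) := by
  refine cx.up _ le_rfl fun h => cx.zN ?_
  rw [zc, h]
  exact ⟨fun x hx g => by
    have hc := hx.2
    have : g * x = x * g := hc g (Subgroup.mem_top g)
    rw [this, mul_inv_cancel_right]
    exact hx⟩

theorem zc_le_center : zc S ≤ pCore p G ⊓ Subgroup.centralizer ((pCore p G : Subgroup G) : Set G) := by
  intro x hx
  have h : x ∈ Subgroup.centralizer ((pCore p G : Subgroup G) : Set G) := Subgroup.centralizer_le cx.Q_le hx.2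
  exact ⟨cx.constr h, h⟩

theorem vc_le_center : vc S ≤ pCore p G ⊓ Subgroup.centralizer ((pCore p G : Subgroup G) : Set G) := by
  haveI : (pCore p G).Normal := Cfsg.pCore_normal p G
  exact Subgroup.normalClosure_le_normal cx.zc_le_center

theorem vc_le : vc S ≤ pCore p G := cx.vc_le_center.trans inf_le_left

theorem vc_leS : vc S ≤ (S : Subgroup G) := cx.vc_le.trans cx.Q_le

theorem Q_le_cV : pCore p G ≤ Subgroup.centralizer (vc S : Set G) :=
  Subgroup.le_centralizer_iff.1 (cx.vc_le_center.trans inf_le_right)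

theorem abel : Abel S :=
  ⟨fun a b => Subtype.ext (cx.Q_le_cV (cx.vc_le b.2) a a.2)⟩

theorem cV_le : Subgroup.centralizer (vc S : Set G) ≤ Subgroup.normalizer (R : Set G) := by
  have hle : Subgroup.centralizer (zc S : Set G) ≤ Subgroup.normalizer (R : Set G) := by
    refine cx.up _ (Subgroup.le_centralizer_iff.1 inf_le_right) fun h => cx.zN ⟨fun x hx g => ?_⟩
    have hg : g ∈ Subgroup.centralizer (zc S : Set G) := h ▸ Subgroup.mem_top g
    rw [← hg x hx, mul_inv_cancel_right]
    exact hx
  exact (Subgroup.centralizer_le Subgroup.le_normalClosure).trans hle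

/-- Normal subgroups containing `Cv(V)` meet `S` in the core. -/
theorem inf_le_core {N : Subgroup G} (hN : N.Normal) (hle : N ≤ Subgroup.normalizer (R : Set G)) :
    (S : Subgroup G) ⊓ N ≤ pCore p G := by
  haveI := hN
  set X := (S : Subgroup G) ⊓ N with hX
  have hidx : ¬ p ∣ (X.subgroupOf N).index := by
    have h1 : (X.subgroupOf N).index ∣ (S : Subgroup G).index := by
      show X.relIndex N ∣ _
      have e1 := Subgroup.relIndex_mul_relIndex X N ((S : Subgroup G) ⊔ N) inf_le_right le_sup_right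
      have e2 := Subgroup.relIndex_mul_relIndex X (S : Subgroup G) ((S : Subgroup G) ⊔ N) inf_le_left le_sup_left
      rw [Subgroup.relIndex_sup_right, ← e2, hX, Subgroup.inf_relIndex_left, mul_comm (N.relIndex _)] at e1
      rw [hX, Nat.eq_of_mul_eq_mul_right (Nat.pos_of_ne_zero Subgroup.index_ne_zero_of_finite) e1]
      exact Subgroup.relIndex_dvd_index_of_le le_sup_left
    exact fun h => S.not_dvd_index (h.trans h1)
  have hXp : IsPGroup p (X.subgroupOf N) :=
    (S.2.to_le inf_le_left).of_equiv (Subgroup.subgroupOfEquivOfLe (inf_le_right : X ≤ N)).symm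
  have hfr := Sylow.normalizer_sup_eq_top (hXp.toSylow hidx)
  rw [IsPGroup.toSylow_coe, Subgroup.map_subgroupOf_eq_of_le (inf_le_right : X ≤ N)] at hfr
  have hSX : (S : Subgroup G) ≤ Subgroup.normalizer (X : Set G) := fun t ht => by
    refine mem_normalizer_of_conjS (Subgroup.eq_of_le_of_card_ge ?_ (by rw [FFEmb.card_conjS]))
    rintro _ ⟨y, hy, rfl⟩
    exact ⟨(S : Subgroup G).mul_mem ((S : Subgroup G).mul_mem ht hy.1) ((S : Subgroup G).inv_mem ht),
      hN.conj_mem y hy.2 t⟩
  have htop : Subgroup.normalizer (X : Set G) = ⊤ := by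
    by_contra hne
    exact cx.Mne (top_le_iff.1 (hfr.ge.trans (sup_le (cx.up _ hSX hne) hle)))
  haveI : X.Normal := Subgroup.normalizer_eq_top_iff.1 htop
  exact le_sSup ⟨inferInstance, S.isPGroup'.to_le inf_le_left⟩

theorem S_inf_cV : (S : Subgroup G) ⊓ Subgroup.centralizer (vc S : Set G) = pCore p G :=
  le_antisymm (cx.inf_le_core inferInstance cx.cV_le) (le_inf cx.Q_le cx.Q_le_cV)

theorem mem_core {x : G} (hx : x ∈ (S : Subgroup G)) (hx' : x ∈ Subgroup.centralizer (vc S : Set G)) :
    x ∈ pCore p G := cx.S_inf_cV.le ⟨hx, hx'⟩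

end Cex

/-- The Sylow subgroup of the induced group. -/
noncomputable def sb [Finite G] [Fact p.Prime] (S : Sylow p G) : Sylow p (Hb S) := S.mapSurjective (hb_surj S)

theorem coe_sb [Finite G] [Fact p.Prime] (S : Sylow p G) :
    (sb S : Subgroup (Hb S)) = (S : Subgroup G).map (hb S) := rfl

namespace Cex

variable [Finite G] [hp : Fact p.Prime] {S : Sylow p G} {R : Subgroup G} [Abel S] (cx : Cex p S R)
include cx

theorem mem_map_M {g : G} (h : hb S g ∈ (Subgroup.normalizer (R : Set G)).map (hb S)) :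
    g ∈ Subgroup.normalizer (R : Set G) := by
  obtain ⟨m, hm, he⟩ := h
  have := mul_mem hm (cx.cV_le (hb_eq_iff.1 he.symm))
  simpa using this

theorem sit : T3.Sit p (Additive (vc S)) (sb S) ((Subgroup.normalizer (R : Set G)).map (hb S)) := by
  refine ⟨fun f hf => ?_, fun v => ?_, fun h => cx.Mne ?_, Subgroup.map_mono cx.SM, fun K hK hK1 => ?_,
    fun N hN hNp => ?_, fun f hf => ?_⟩
  · obtain ⟨g, rfl⟩ := hb_surj S f
    exact hb_eq_one_iff.2 fun v hv => ((smul_eq_iff g (vv (S := S) hv)).1 (hf _)).symm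
  · obtain ⟨k, hk⟩ := (S.isPGroup'.to_le cx.vc_leS) (Additive.toMul v)
    exact ⟨k, Additive.toMul.injective hk⟩
  · exact eq_top_iff.2 fun g _ => cx.mem_map_M (h ▸ Subgroup.mem_top _)
  · have h1 := cx.up (K.comap (hb S)) (Subgroup.map_le_iff_le_comap.1 hK) fun h => hK1 (by
      rw [← Subgroup.map_comap_eq_self_of_surjective (hb_surj S) K, h,
        Subgroup.map_top_of_surjective _ (hb_surj S)])
    rw [← Subgroup.map_comap_eq_self_of_surjective (hb_surj S) K]
    exact Subgroup.map_mono h1
  · haveI := hN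
    have hNS : N ≤ (sb S : Subgroup (Hb S)) := by
      obtain ⟨P, hP⟩ := hNp.exists_le_sylow
      obtain ⟨k, hk⟩ := MulAction.exists_smul_eq (Hb S) P (sb S)
      intro x hx
      rw [← hk, sylow_smul_coe, mem_conjS]
      exact hP (by simpa using hN.conj_mem x hx k⁻¹)
    have hpre : N.comap (hb S) ≤ Subgroup.normalizer (R : Set G) := fun g hg => cx.mem_map_M
      (Subgroup.map_mono cx.SM (hNS hg))
    have hcore := cx.inf_le_core (hN.comap (hb S)) hpre
    refine le_bot_iff.1 fun f hf => ?_
    obtain ⟨s, hs, rfl⟩ := hNS hf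
    exact hb_eq_one_iff.2 (cx.Q_le_cV (hcore ⟨hs, hf⟩))
  · obtain ⟨g, rfl⟩ := hb_surj S f
    have hle : Subgroup.centralizer (zc S : Set G) ≤ Subgroup.normalizer (R : Set G) := by
      refine cx.up _ (Subgroup.le_centralizer_iff.1 inf_le_right) fun h => cx.zN ⟨fun x hx g' => ?_⟩
      have hg : g' ∈ Subgroup.centralizer (zc S : Set G) := h ▸ Subgroup.mem_top g'
      rw [← hg x hx, mul_inv_cancel_right]
      exact hx
    refine Subgroup.mem_map_of_mem _ (hle fun x hx => ?_)
    have hxV : x ∈ vc S := Subgroup.le_normalClosure hx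
    refine ((smul_eq_iff g (vv (S := S) hxV)).1 (hf _ ?_)).symm
    rw [coe_sb, mem_fx_map]
    exact hx.2

theorem gen : Gen (Additive (vc S)) (sb S) := by
  refine eq_top_iff.2 fun v _ => ?_
  set W := AddSubgroup.closure {u : Additive (vc S) | ∃ f : Hb S, ∃ z ∈ fx (Additive (vc S))
    (sb S : Subgroup (Hb S)), u = f • z} with hW
  let K : Subgroup G :=
    { carrier := {g | ∃ h : g ∈ vc S, vv (S := S) h ∈ W}
      one_mem' := ⟨one_mem _, zero_mem W⟩
      mul_mem' := fun {a b} ⟨ha, ha'⟩ ⟨hb', hb''⟩ => ⟨mul_mem ha hb', add_mem ha' hb''⟩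
      inv_mem' := fun {a} ⟨ha, ha'⟩ => ⟨inv_mem ha, neg_mem ha'⟩ }
  have hle : vc S ≤ K := (Subgroup.closure_le K).2 fun x hx => by
    obtain ⟨z, hz, hxz⟩ := Group.mem_conjugatesOfSet_iff.1 hx
    obtain ⟨c, rfl⟩ := isConj_iff.1 hxz
    have hzV : z ∈ vc S := Subgroup.le_normalClosure hz
    refine ⟨(vc_normal S).conj_mem z hzV c, AddSubgroup.subset_closure ⟨hb S c, vv hzV, ?_, ?_⟩⟩
    · rw [coe_sb, mem_fx_map]
      exact hz.2
    · exact vg_inj (by rw [vg_smul]; rfl)
  obtain ⟨h, h'⟩ := hle (vg_mem v)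
  exact h'

end Cex

end Cfsg.Agent.T3
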