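/-
The abelian subgroups of largest order of the Sylow subgroup and their images on the module.
-/
import Cfsg.Agent.Lib.Transfer3.Ctx

set_option autoImplicit false
set_option linter.unusedSectionVars false
set_option linter.style.haveILetI false

namespace Cfsg.Agent.T3

open Cfsg Cfsg.Agent.FFEmb
open scoped Pointwise

universe u

section join

variable {H : Type*} [Group H] [Finite H] {p : ℕ} [hp : Fact p.Prime]
  {V : Type*} [AddCommGroup V] [DistribMulAction H V] {S : Sylow p H} {M : Subgroup H} [Finite V]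

/-- A subgroup of `D` of largest measure is the join of the minimal offenders it contains. -/
theorem Sit.le_sSup_members (hs : Sit p V S M) (hgen : Gen V S) (hp2 : p ≠ 2) {P : Subgroup H}
    (hP : P ≤ DD p V (S : Subgroup H)) (hl : Nat.card V ≤ meas V P) :
    P ≤ sSup {B ∈ Del p V (S : Subgroup H) | B ≤ P} := by
  have hF := hs.fam hgen hp2
  suffices key : ∀ (n : ℕ) (P : Subgroup H), Nat.card P = n → P ≤ DD p V (S : Subgroup H) →
      Nat.card V ≤ meas V P → P ≤ sSup {B ∈ Del p V (S : Subgroup H) | B ≤ P} from key _ P rfl hP hl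
  intro n
  induction n using Nat.strong_induction_on with
  | _ n ih =>
    intro P hn hP hl
    rcases eq_or_ne P ⊥ with rfl | hP0
    · exact bot_le
    have hPp : IsPGroup p P := hF.pg.to_le hP
    obtain ⟨B, hBP, hB⟩ := exists_isMin hPp hP0 (hF.cmt_sSup.mono hP hP) hl
    have hBd : B ∈ Del p V (S : Subgroup H) := ⟨hB, hBP.trans (hP.trans (DD_le _))⟩
    obtain ⟨X, hX⟩ := hs.exists_mate hgen hp2 hBd
    set E := sSup (Del p V (S : Subgroup H) \ {B}) with hE
    obtain ⟨hinf, -⟩ := (hF.indep hs hgen hp2).2.2.2 B hBd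
    have hEfix : ∀ e ∈ E, ∀ u ∈ mv V X, e • u = u := fun e he u hu => by
      have hle : E ≤ MulAction.stabilizer H u :=
        sSup_le fun C hC c hc => hX.fix hp2 hC.1 hC.2 hc hu
      exact hle he
    have hsplit : P ≤ B ⊔ P ⊓ E := by
      intro y hy
      have hD : DD p V (S : Subgroup H) ≤ B ⊔ E := by
        rw [hE, ← sSup_insert, Set.insert_sdiff_singleton, Set.insert_eq_of_mem hBd]
      have hcm : ∀ b ∈ B, b ∈ Subgroup.normalizer (E : Set H) := fun b hb => mem_normalizer_of_conjS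
        (conjS_cmt fun e he => (hF.cmt_sSup.mono (sSup_le_sSup Set.sdiff_subset) (le_sSup hBd)) e he b hb)
      have hset : ((B ⊔ E : Subgroup H) : Set H) = (B : Set H) * (E : Set H) :=
        Subgroup.coe_mul_of_left_le_normalizer_right B E hcm
      have h1 := hD (hP hy)
      rw [← SetLike.mem_coe, hset] at h1
      obtain ⟨b, hb, e, he, rfl⟩ := h1
      have heP : e ∈ P := by simpa using mul_mem (inv_mem (hBP hb)) hy
      exact mul_mem (Subgroup.mem_sup_left hb) (Subgroup.mem_sup_right ⟨heP, he⟩)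
    have hl1 : Nat.card V ≤ meas V (P ⊓ E) := by
      refine hl.trans ?_
      have h1 : Nat.card P ≤ Nat.card B * Nat.card ↥(P ⊓ E) := by
        have := card_sup_mul_card_inf (A := B) (B := P ⊓ E) (hF.cmt_sSup.mono (hBP.trans hP) (inf_le_left.trans hP))
        exact ((Subgroup.card_le_of_le hsplit).trans (Nat.le_mul_of_pos_right _ Nat.card_pos)).trans this.ge
      have h2 : Nat.card (fx V P) * Nat.card B ≤ Nat.card (fx V (P ⊓ E)) := by
        rw [← hX.opp.card_eq, ← (hs.natOff_min hp2 hX.isMin).card_mv, ← Nat.card_prod]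
        refine Nat.card_le_card_of_injective (fun w : fx V P × mv V X => (⟨(w.1 : V) + w.2,
          add_mem (fx_anti inf_le_left w.1.2) fun q hq => hEfix q hq.2 _ w.2.2⟩ : fx V (P ⊓ E))) ?_
        rintro ⟨c, u⟩ ⟨c', u'⟩ h
        have h' : (c : V) + u = c' + u' := congrArg Subtype.val h
        have h3 : (u : V) - u' = c' - c := by rw [sub_eq_sub_iff_add_eq_add, add_comm, h']
        have h4 : (u : V) = u' := sub_eq_zero.1 (hX.opp.inf _ (sub_mem u.2 u'.2)
          (by rw [h3]; exact fx_anti hBP (sub_mem c'.2 c.2)))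
        rw [h4, add_left_inj] at h'
        exact Prod.ext (Subtype.ext h') (Subtype.ext h4)
      calc Nat.card P * Nat.card (fx V P) ≤ Nat.card B * Nat.card ↥(P ⊓ E) * Nat.card (fx V P) :=
            Nat.mul_le_mul_right _ h1
        _ = Nat.card ↥(P ⊓ E) * (Nat.card (fx V P) * Nat.card B) := by ring
        _ ≤ _ := Nat.mul_le_mul_left _ h2
    have hne : P ⊓ E ≠ P := fun h => hB.ne (le_bot_iff.1 (hinf ▸ le_inf (hBP.trans (h.ge.trans inf_le_right)) le_rfl))
    have h5 := ih _ (hn ▸ lt_of_le_of_ne (Subgroup.card_le_of_le inf_le_left)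
      fun h => hne (Subgroup.eq_of_le_of_card_ge inf_le_left h.ge)) (P ⊓ E) rfl (inf_le_left.trans hP) hl1
    refine hsplit.trans (sup_le (le_sSup ⟨hBd, hBP⟩) (h5.trans (sSup_le_sSup fun C hC => ⟨hC.1, ?_⟩)))
    exact hC.2.trans inf_le_left

end join

variable {G : Type u} [Group G] {p : ℕ}

/-- An abelian subgroup of largest order of `X`. -/
structure MA (X A : Subgroup G) : Prop where
  le : A ≤ X
  cmt : Cmt A A
  max : ∀ B ≤ X, Cmt B B → Nat.card B ≤ Nat.card A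

/-- `J`. -/
def js (X : Subgroup G) : Subgroup G := sSup {A | MA X A}

/-- `Z(J)`. -/
def zj (X : Subgroup G) : Subgroup G := js X ⊓ Subgroup.centralizer (js X : Set G)

/-- `C(Z(J))`. -/
def s2 (X : Subgroup G) : Subgroup G := X ⊓ Subgroup.centralizer (zj X : Set G)

theorem cmt_map {P : Type*} [Group P] {f : P →* G} (hf : Function.Injective f) {A : Subgroup P} :
    Cmt (A.map f) (A.map f) ↔ IsMulCommutative A := by
  constructor
  · exact fun h => .of_setLike_mul_comm fun a ha b hb => hf (by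
      rw [map_mul, map_mul]; exact h _ ⟨a, ha, rfl⟩ _ ⟨b, hb, rfl⟩)
  · rintro h _ ⟨a, ha, rfl⟩ _ ⟨b, hb, rfl⟩
    haveI := h
    rw [← map_mul, ← map_mul, setLike_mul_comm ha hb]

theorem ma_iff {X : Subgroup G} {A : Subgroup X} : MA X (A.map X.subtype) ↔ A ∈ maxAbelianSubgroups X := by
  constructor
  · intro h
    refine ⟨(cmt_map X.subtype_injective).1 h.cmt, fun B hB => ?_⟩
    have := h.max _ (Subgroup.map_subtype_le B) ((cmt_map X.subtype_injective).2 hB)
    rwa [Subgroup.card_map_of_injective X.subtype_injective, Subgroup.card_map_of_injective X.subtype_injective]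
      at this
  · intro h
    refine ⟨Subgroup.map_subtype_le A, (cmt_map X.subtype_injective).2 h.1, fun B hB hBc => ?_⟩
    rw [← Subgroup.map_subgroupOf_eq_of_le hB, Subgroup.card_map_of_injective X.subtype_injective,
      Subgroup.card_map_of_injective X.subtype_injective]
    refine h.2 _ ((cmt_map X.subtype_injective).1 ?_)
    rwa [Subgroup.map_subgroupOf_eq_of_le hB]

theorem map_thompson (X : Subgroup G) : (thompsonSubgroupA X).map X.subtype = js X := by
  refine le_antisymm (Subgroup.map_le_iff_le_comap.2 (sSup_le fun A hA => Subgroup.map_le_iff_le_comap.1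
    (le_sSup (ma_iff.2 hA)))) (sSup_le fun A hA => ?_)
  rw [← Subgroup.map_subgroupOf_eq_of_le hA.le]
  refine Subgroup.map_mono (le_sSup (ma_iff.1 ?_))
  rwa [Subgroup.map_subgroupOf_eq_of_le hA.le]

theorem map_centralizer_sub {X : Subgroup G} (Y : Subgroup X) :
    (Subgroup.centralizer (Y : Set X)).map X.subtype = X ⊓ Subgroup.centralizer (Y.map X.subtype : Set G) := by
  ext g
  constructor
  · rintro ⟨x, hx, rfl⟩
    refine ⟨x.2, ?_⟩
    rintro _ ⟨y, hy, rfl⟩
    exact congrArg Subtype.val (hx y hy)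
  · rintro ⟨hgX, hg⟩
    exact ⟨⟨g, hgX⟩, fun y hy => Subtype.ext (hg _ ⟨y, hy, rfl⟩), rfl⟩

theorem js_le (X : Subgroup G) : js X ≤ X := sSup_le fun _ hA => hA.le

theorem map_zJ_sub (X : Subgroup G) : (zJ X).map X.subtype = zj X := by
  rw [zJ, Subgroup.map_inf _ _ _ X.subtype_injective, map_centralizer_sub, map_thompson, zj, ← inf_assoc,
    inf_of_le_left (js_le X)]

theorem map_cz_sub (X : Subgroup G) : (cz X).map X.subtype = s2 X := by
  rw [cz, map_centralizer_sub, map_zJ_sub, s2]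

variable [Finite G]

theorem exists_ma (X : Subgroup G) : ∃ A, MA X A := by
  obtain ⟨A, hA⟩ := CLarge.exists_maxAbelian (P := X)
  exact ⟨_, ma_iff.2 hA⟩

theorem MA.mem {X A : Subgroup G} (hA : MA X A) {x : G} (hx : x ∈ X) (hc : ∀ a ∈ A, a * x = x * a) : x ∈ A := by
  have hz : Cmt (Subgroup.zpowers x) (Subgroup.zpowers x) := fun a ha b hb => by
    obtain ⟨i, rfl⟩ := Subgroup.mem_zpowers_iff.1 ha
    obtain ⟨j, rfl⟩ := Subgroup.mem_zpowers_iff.1 hb
    exact zpow_mul_comm x i j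
  have hAz : Cmt A (Subgroup.zpowers x) := fun a ha b hb => by
    obtain ⟨j, rfl⟩ := Subgroup.mem_zpowers_iff.1 hb
    exact (show Commute a x from hc a ha).zpow_right j
  have h := hA.max (A ⊔ Subgroup.zpowers x) (sup_le hA.le (Subgroup.zpowers_le.2 hx))
    (cmt_sup (cmt_sup hA.cmt hAz.symm).symm (cmt_sup hAz hz).symm)
  rw [Subgroup.eq_of_le_of_card_ge le_sup_left h]
  exact Subgroup.mem_sup_right (Subgroup.mem_zpowers x)

theorem MA.conj {X A : Subgroup G} (hA : MA X A) (g : G) : MA (FFEmb.conjS g X) (FFEmb.conjS g A) := by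
  refine ⟨Subgroup.map_mono hA.le, ?_, fun B hB hBc => ?_⟩
  · rintro _ ⟨a, ha, rfl⟩ _ ⟨b, hb, rfl⟩
    rw [← map_mul, ← map_mul, hA.cmt a ha b hb]
  · rw [FFEmb.card_conjS, ← FFEmb.card_conjS g⁻¹ B]
    refine hA.max _ (conjS_le_iff.2 (by rwa [inv_inv])) ?_
    rintro _ ⟨a, ha, rfl⟩ _ ⟨b, hb, rfl⟩
    rw [← map_mul, ← map_mul, hBc a ha b hb]

theorem MA.of_card {X A B : Subgroup G} (hA : MA X A) (hB : B ≤ X) (hc : Cmt B B)
    (hcard : Nat.card A ≤ Nat.card B) : MA X B := ⟨hB, hc, fun C hC hCc => (hA.max C hC hCc).trans hcard⟩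

theorem zj_mem {X : Subgroup G} {x : G} (hx : x ∈ X) (hc : ∀ A, MA X A → ∀ a ∈ A, a * x = x * a) : x ∈ zj X := by
  obtain ⟨A, hA⟩ := exists_ma X
  refine ⟨le_sSup (show A ∈ {A | MA X A} from hA) (hA.mem hx (hc A hA)), ?_⟩
  have hle : js X ≤ Subgroup.centralizer ({x} : Set G) := sSup_le fun B hB b hb => by
    rw [Subgroup.mem_centralizer_singleton_iff]
    exact hc B hB b hb
  intro j hj
  exact Subgroup.mem_centralizer_singleton_iff.1 (hle hj)

theorem zj_cmt {X : Subgroup G} {A : Subgroup G} (hA : MA X A) {x : G} (hx : x ∈ zj X) {a : G} (ha : a ∈ A) :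
    a * x = x * a := hx.2 a (le_sSup (show A ∈ {A | MA X A} from hA) ha)

theorem MA.le_s2 {X A : Subgroup G} (hA : MA X A) : A ≤ s2 X :=
  le_inf hA.le fun _ ha _ hx => (zj_cmt hA hx ha).symm

namespace Cex

variable [hp : Fact p.Prime] {S : Sylow p G} {R : Subgroup G} [Abel S] (cx : Cex p S R) (hp2 : p ≠ 2)
include cx

theorem card_map_sylow {B : Subgroup G} (hB : B ≤ (S : Subgroup G)) :
    Nat.card B = Nat.card ↥(B ⊓ pCore p G) * Nat.card ↥(B.map (hb S)) := by
  rw [card_map (S := S) B, show B ⊓ Subgroup.centralizer (vc S : Set G) = B ⊓ pCore p G from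
    le_antisymm (fun x hx => ⟨hx.1, cx.mem_core (hB hx.1) hx.2⟩) (inf_le_inf_left _ cx.Q_le_cV)]

theorem fx_ma {A : Subgroup G} (hA : MA (S : Subgroup G) A) :
    vc S ⊓ Subgroup.centralizer (A : Set G) = A ⊓ vc S :=
  le_antisymm (fun _ hx => ⟨hA.mem (cx.vc_leS hx.1) hx.2, hx.1⟩)
    fun x hx => ⟨hx.2, fun a ha => hA.cmt a ha x hx.1⟩

include hp2

/-- `(A ∩ Q) V` is again of largest order. -/
theorem core_ma {A : Subgroup G} (hA : MA (S : Subgroup G) A) :
    MA (S : Subgroup G) (A ⊓ pCore p G ⊔ vc S) ∧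
      meas (Additive (vc S)) (A.map (hb S)) = Nat.card (Additive (vc S)) := by
  have hbd := cx.sit.bound hp2 ((S.isPGroup'.to_le hA.le).map (hb S)) (by
    rintro _ ⟨a, ha, rfl⟩ _ ⟨b, hb', rfl⟩
    rw [← map_mul, ← map_mul, hA.cmt a ha b hb'])
  have hV : Nat.card (Additive (vc S)) = Nat.card (vc S) := rfl
  rw [meas, card_fx_map, cx.fx_ma hA, hV] at hbd
  have hVc : Cmt (vc S) (vc S) := fun a ha b hb' => cx.Q_le_cV (cx.vc_le hb') a ha
  have hA0V : Cmt (A ⊓ pCore p G) (vc S) := fun a ha b hb' => (cx.Q_le_cV ha.2 b hb').symm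
  have hsum := card_sup_mul_card_inf hA0V
  rw [show A ⊓ pCore p G ⊓ vc S = A ⊓ vc S by rw [inf_assoc, inf_of_le_right cx.vc_le]] at hsum
  have hcA := cx.card_map_sylow hA.le
  have hle : A ⊓ pCore p G ⊔ vc S ≤ (S : Subgroup G) := sup_le (inf_le_left.trans hA.le) cx.vc_leS
  have hcm : Cmt (A ⊓ pCore p G ⊔ vc S) (A ⊓ pCore p G ⊔ vc S) :=
    cmt_sup (cmt_sup (hA.cmt.mono inf_le_left inf_le_left) hA0V.symm).symm (cmt_sup hA0V hVc).symm
  have hup := hA.max _ hle hcm
  set a := Nat.card A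
  set a0 := Nat.card ↥(A ⊓ pCore p G : Subgroup G)
  set i := Nat.card ↥(A.map (hb S))
  set f := Nat.card ↥(A ⊓ vc S : Subgroup G)
  set v := Nat.card (vc S)
  set b := Nat.card ↥(A ⊓ pCore p G ⊔ vc S : Subgroup G)
  have hf : 0 < f := Nat.card_pos
  have ha0 : 0 < a0 := Nat.card_pos
  have h2 : a * f ≤ b * f := by
    rw [← hsum, hcA, mul_assoc]
    exact Nat.mul_le_mul_left _ hbd
  have h3 : b = a := le_antisymm hup (Nat.le_of_mul_le_mul_right h2 hf)
  refine ⟨hA.of_card hle hcm h3.ge, ?_⟩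
  rw [meas, card_fx_map, cx.fx_ma hA, hV]
  refine Nat.eq_of_mul_eq_mul_left ha0 ?_
  rw [hsum, h3, hcA, mul_assoc]

theorem img_le {A : Subgroup G} (hA : MA (S : Subgroup G) A) :
    A.map (hb S) ≤ DD p (Additive (vc S)) ((S : Subgroup G).map (hb S)) := by
  refine cx.sit.le_DD cx.gen hp2 (Subgroup.map_mono hA.le) ?_ (cx.core_ma hp2 hA).2.ge
  rintro _ ⟨a, ha, rfl⟩ _ ⟨b, hb', rfl⟩
  rw [← map_mul, ← map_mul, hA.cmt a ha b hb']

theorem vc_le_js : vc S ≤ js (S : Subgroup G) := by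
  obtain ⟨A, hA⟩ := exists_ma (S : Subgroup G)
  exact le_sup_right.trans (le_sSup (show _ ∈ {A | MA (S : Subgroup G) A} from (cx.core_ma hp2 hA).1))

theorem zj_cmt_vc {x : G} (hx : x ∈ zj (S : Subgroup G)) {v : G} (hv : v ∈ vc S) : v * x = x * v :=
  hx.2 v (cx.vc_le_js hp2 hv)

theorem zj_le : zj (S : Subgroup G) ≤ pCore p G :=
  fun _ hx => cx.mem_core (js_le _ hx.1) fun _ hv => cx.zj_cmt_vc hp2 hx hv

theorem vc_le_s2 : vc S ≤ s2 (S : Subgroup G) :=
  le_inf cx.vc_leS fun _ hv _ hx => (cx.zj_cmt_vc hp2 hx hv).symm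

theorem fx_DD_le {v : Additive (vc S)}
    (hv : v ∈ fx (Additive (vc S)) (DD p (Additive (vc S)) ((S : Subgroup G).map (hb S)))) :
    vg v ∈ zj (S : Subgroup G) :=
  zj_mem (cx.vc_leS (vg_mem v)) fun _ hA a ha =>
    mem_fx_map.1 (fx_anti (cx.img_le hp2 hA) hv) a ha

theorem s2_le {x : G} (hx : x ∈ s2 (S : Subgroup G)) :
    hb S x ∈ DD p (Additive (vc S)) ((S : Subgroup G).map (hb S)) :=
  cx.sit.mem_DD cx.gen hp2 ⟨x, hx.1, rfl⟩ fun v hv =>
    (smul_eq_iff x v).2 (hx.2 _ (cx.fx_DD_le hp2 hv)).symm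

/-- A member of the image gives an abelian subgroup of largest order mapping onto it. -/
theorem reduce {A : Subgroup G} (hA : MA (S : Subgroup G) A) {B : Subgroup (Hb S)}
    (hB : IsMin p (Additive (vc S)) B) (hBA : B ≤ A.map (hb S)) :
    ∃ A', MA (S : Subgroup G) A' ∧ A ⊓ B.comap (hb S) ≤ A' ∧ A'.map (hb S) = B := by
  obtain ⟨hcore, hmA⟩ := cx.core_ma hp2 hA
  set AB := A ⊓ B.comap (hb S) with hAB
  have hmap : AB.map (hb S) = B := by
    refine le_antisymm (Subgroup.map_le_iff_le_comap.2 inf_le_right) fun f hf => ?_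
    obtain ⟨a, ha, rfl⟩ := hBA hf
    exact ⟨a, ⟨ha, hf⟩, rfl⟩
  set W := vc S ⊓ Subgroup.centralizer (AB : Set G) with hW
  have hVc : Cmt (vc S) (vc S) := fun a ha b hb' => cx.Q_le_cV (cx.vc_le hb') a ha
  have hABW : Cmt AB W := fun a ha w hw => hw.2 a ha
  have hcm : Cmt (AB ⊔ W) (AB ⊔ W) :=
    cmt_sup (cmt_sup (hA.cmt.mono inf_le_left inf_le_left) hABW.symm).symm
      (cmt_sup hABW (hVc.mono inf_le_left inf_le_left)).symm
  have hABS : AB ≤ (S : Subgroup G) := inf_le_left.trans hA.le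
  have h0 : AB ⊓ pCore p G = A ⊓ pCore p G := by
    refine le_antisymm (inf_le_inf_right _ inf_le_left) (le_inf (le_inf inf_le_left fun x hx => ?_) inf_le_right)
    rw [Subgroup.mem_comap, hb_eq_one_iff.2 (cx.Q_le_cV hx.2)]
    exact one_mem B
  have hcAB := cx.card_map_sylow hABS
  rw [h0, hmap] at hcAB
  have hcA := cx.card_map_sylow hA.le
  have hsum := card_sup_mul_card_inf hABW
  have hf : Nat.card ↥(AB ⊓ W) ≤ Nat.card ↥(A ⊓ vc S) :=
    Subgroup.card_le_of_le (inf_le_inf inf_le_left inf_le_left)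
  have hcW : Nat.card (fx (Additive (vc S)) B) = Nat.card W := by rw [← hmap, card_fx_map]
  have hmB := (cx.sit.natOff_min hp2 hB).meas_eq
  rw [meas, hcW] at hmB
  rw [meas, card_fx_map, cx.fx_ma hA, ← hmB] at hmA
  have hle : Nat.card A * Nat.card ↥(A ⊓ vc S) ≤ Nat.card ↥(AB ⊔ W) * Nat.card ↥(A ⊓ vc S) := by
    rw [hcA, mul_assoc, hmA, ← mul_assoc, ← hcAB, hsum]
    exact Nat.mul_le_mul_left _ hf
  refine ⟨AB ⊔ W, hA.of_card (sup_le hABS (inf_le_left.trans cx.vc_leS)) hcm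
    (Nat.le_of_mul_le_mul_right hle Nat.card_pos), le_sup_left, ?_⟩
  rw [Subgroup.map_sup, hmap, sup_eq_left]
  rintro _ ⟨x, hx, rfl⟩
  rw [hb_eq_one_iff.2 (cx.Q_le_cV (cx.vc_le hx.1))]
  exact one_mem B

variable (hJ : ¬ js (S : Subgroup G) ≤ pCore p G)
include hJ

theorem exists_img : ∃ A, MA (S : Subgroup G) A ∧
    ∃ B ∈ Del p (Additive (vc S)) ((S : Subgroup G).map (hb S)), B ≤ A.map (hb S) := by
  obtain ⟨A, hA, hAQ⟩ : ∃ A, MA (S : Subgroup G) A ∧ ¬ A ≤ pCore p G := by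
    by_contra hc
    push Not at hc
    exact hJ (sSup_le hc)
  have hne : A.map (hb S) ≠ ⊥ := fun h => hAQ fun a ha => cx.mem_core (hA.le ha) (hb_eq_one_iff.1 (by
    have h1 : hb S a ∈ A.map (hb S) := Subgroup.mem_map_of_mem _ ha
    rwa [h, Subgroup.mem_bot] at h1))
  obtain ⟨B, hBA, hB⟩ := exists_isMin ((S.isPGroup'.to_le hA.le).map (hb S)) hne
    (by rintro _ ⟨a, ha, rfl⟩ _ ⟨b, hb', rfl⟩; rw [← map_mul, ← map_mul, hA.cmt a ha b hb'])
    (cx.core_ma hp2 hA).2.ge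
  exact ⟨A, hA, B, ⟨hB, hBA.trans (Subgroup.map_mono hA.le)⟩, hBA⟩

/-- Every minimal offender is the image of an abelian subgroup of largest order. -/
theorem reduced {B : Subgroup (Hb S)} (hB : B ∈ Del p (Additive (vc S)) ((S : Subgroup G).map (hb S))) :
    ∃ A, MA (S : Subgroup G) A ∧ A.map (hb S) = B := by
  obtain ⟨A, hA, B₀, hB₀, hB₀A⟩ := cx.exists_img hp2 hJ
  obtain ⟨A', hA', -, hA'B⟩ := cx.reduce hp2 hA hB₀.1 hB₀A
  obtain ⟨g, hbase, hex⟩ := cx.sit.exists_base cx.gen hp2 (B := B₀) (by rw [coe_sb]; exact hB₀)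
  obtain ⟨f, hf, he⟩ := hbase.orbit hex (B := B) (by rw [coe_sb]; exact hB)
  rw [coe_sb] at hf
  obtain ⟨s, hs, rfl⟩ := hf
  refine ⟨FFEmb.conjS s A', by simpa [conjS_of_mem hs] using hA'.conj s, ?_⟩
  rw [← he, ← hA'B, FFEmb.conjS, FFEmb.conjS, Subgroup.map_map, Subgroup.map_map]
  congr 1
  ext x
  simp

omit hJ in
/-- An abelian subgroup of largest order is generated by such subgroups inside the core or with a minimal
image. -/
theorem le_sSup_reduced {A : Subgroup G} (hA : MA (S : Subgroup G) A) :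
    A ≤ sSup {A' | MA (S : Subgroup G) A' ∧ (A' ≤ pCore p G ∨
      A'.map (hb S) ∈ Del p (Additive (vc S)) ((S : Subgroup G).map (hb S)))} := by
  set T := sSup {A' | MA (S : Subgroup G) A' ∧ (A' ≤ pCore p G ∨
      A'.map (hb S) ∈ Del p (Additive (vc S)) ((S : Subgroup G).map (hb S)))} with hT
  have hin1 : ∀ A' : Subgroup G, MA (S : Subgroup G) A' → A' ≤ pCore p G → A' ≤ T :=
    fun A' h1 h2 => le_sSup ⟨h1, Or.inl h2⟩
  have hin2 : ∀ A' : Subgroup G, MA (S : Subgroup G) A' →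
      A'.map (hb S) ∈ Del p (Additive (vc S)) ((S : Subgroup G).map (hb S)) → A' ≤ T :=
    fun A' h1 h2 => le_sSup ⟨h1, Or.inr h2⟩
  have h0 : A ⊓ pCore p G ≤ T :=
    le_sup_left.trans (hin1 _ (cx.core_ma hp2 hA).1 (sup_le inf_le_right cx.vc_le))
  have hmem := cx.sit.le_sSup_members cx.gen hp2 (cx.img_le hp2 hA) (cx.core_ma hp2 hA).2.ge
  have hle : A.map (hb S) ≤ (A ⊓ T).map (hb S) := by
    refine hmem.trans (sSup_le fun B hB => ?_)
    obtain ⟨hBd, hBA⟩ := hB
    obtain ⟨A', hA', hABA', hA'B⟩ := cx.reduce hp2 hA hBd.1 hBA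
    have hd' : A'.map (hb S) ∈ Del p (Additive (vc S)) ((S : Subgroup G).map (hb S)) := by
      rw [hA'B]; exact hBd
    intro f hf
    obtain ⟨a, ha, rfl⟩ := hBA hf
    exact ⟨a, ⟨ha, hin2 A' hA' hd' (hABA' ⟨ha, hf⟩)⟩, rfl⟩
  intro a ha
  obtain ⟨b, hb', hba⟩ := hle (Subgroup.mem_map_of_mem _ ha)
  have hq : b⁻¹ * a ∈ A ⊓ pCore p G :=
    ⟨A.mul_mem (A.inv_mem hb'.1) ha, cx.mem_core (hA.le (A.mul_mem (A.inv_mem hb'.1) ha)) (hb_eq_iff.1 hba.symm)⟩
  simpa using mul_mem hb'.2 (h0 hq)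

end Cex

end Cfsg.Agent.T3
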