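/-
When the minimal centrally large subgroups of `C(Z(J))` are abelian, two abelian subgroups of largest order
multiply to a subgroup and the centraliser of their intersection is that subgroup.
-/
import Cfsg.Agent.Lib.Transfer3.MaxAb

set_option autoImplicit false
set_option linter.unusedSectionVars false
set_option linter.style.haveILetI false

namespace Cfsg.Agent.T3

open Cfsg Cfsg.Agent.FFEmb

universe u

variable {G : Type u} [Group G] [Finite G]

theorem MA.sub_mem {X A : Subgroup G} (hA : MA X A) :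
    A.subgroupOf (s2 X) ∈ maxAbelianSubgroups ↥(s2 X) := by
  refine ma_iff.1 ?_
  rw [Subgroup.map_subgroupOf_eq_of_le hA.le_s2]
  exact ⟨hA.le_s2, hA.cmt, fun B hB hBc => hA.max B (hB.trans inf_le_left) hBc⟩

theorem MA.sub_large {X A : Subgroup G} (hab : AbMcl ↥(s2 X)) (hA : MA X A) :
    IsCentralizerLarge (A.subgroupOf (s2 X)) := by
  obtain ⟨Q, hQ⟩ := CLarge.exists_mcl (P := ↥(s2 X))
  exact CLarge.cl_large ((CLarge.mcl_iff_maxAbelian hQ (hab Q hQ) _).2 hA.sub_mem).1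

/-- The join is the product. -/
theorem MA.exists_prod {X A B : Subgroup G} (hab : AbMcl ↥(s2 X)) (hA : MA X A) (hB : MA X B) {x : G}
    (hx : x ∈ A ⊔ B) : ∃ a ∈ A, ∃ b ∈ B, a * b = x := by
  have hxs : x ∈ s2 X := sup_le hA.le_s2 hB.le_s2 hx
  have h1 : (⟨x, hxs⟩ : ↥(s2 X)) ∈ A.subgroupOf (s2 X) ⊔ B.subgroupOf (s2 X) := by
    rw [← Subgroup.subgroupOf_sup hA.le_s2 hB.le_s2]
    exact hx
  obtain ⟨a, ha, b, hb, he⟩ := CLarge.mem_mul_of_mem_sup (CLarge.coe_sup (hA.sub_large hab) (hB.sub_large hab)) h1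
  exact ⟨a, ha, b, hb, congrArg Subtype.val he⟩

/-- An element centralising the intersection lies in the join. -/
theorem MA.mem_sup_of_inf {X A B : Subgroup G} (hab : AbMcl ↥(s2 X)) (hA : MA X A) (hB : MA X B) {x : G}
    (hx : x ∈ s2 X) (hc : ∀ i ∈ A ⊓ B, i * x = x * i) : x ∈ A ⊔ B := by
  have h1 : (⟨x, hx⟩ : ↥(s2 X)) ∈ Subgroup.centralizer
      ((A.subgroupOf (s2 X) ⊓ B.subgroupOf (s2 X) : Subgroup ↥(s2 X)) : Set ↥(s2 X)) :=
    fun i hi => Subtype.ext (hc _ hi)
  rw [CLarge.centralizer_inf (hA.sub_large hab) (hB.sub_large hab), CLarge.centralizer_maxAbelian hA.sub_mem,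
    CLarge.centralizer_maxAbelian hB.sub_mem, ← Subgroup.subgroupOf_sup hA.le_s2 hB.le_s2] at h1
  exact h1

end Cfsg.Agent.T3
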