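/-
`C_Q(Z(J(S)))` is normal when `J(S)` is not contained in the core.
-/
import Cfsg.Agent.Lib.Transfer3.MaxAb

set_option autoImplicit false
set_option linter.unusedSectionVars false
set_option linter.style.haveILetI false

namespace Cfsg.Agent.T3

open Cfsg Cfsg.Agent.FFEmb

universe u

variable {G : Type u} [Group G] {p : ℕ} [Finite G]

theorem MA.conj_back {X : Subgroup G} {c : G} {T : Subgroup G} (hT : MA (FFEmb.conjS c X) T) :
    MA X (FFEmb.conjS c⁻¹ T) := by
  have := hT.conj c⁻¹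
  rwa [FFEmb.conjS_mul, inv_mul_cancel, FFEmb.conjS_one] at this

theorem MA.transfer {X : Subgroup G} {c : G} {T : Subgroup G} (hT : MA (FFEmb.conjS c X) T) (hle : T ≤ X) :
    MA X T :=
  hT.conj_back.of_card hle hT.cmt (by rw [FFEmb.card_conjS])

theorem zj_conj {X : Subgroup G} {c : G} {x : G} (hx : x ∈ FFEmb.conjS c X)
    (h : ∀ T, MA (FFEmb.conjS c X) T → ∀ a ∈ T, a * x = x * a) : c⁻¹ * x * c ∈ zj X := by
  refine zj_mem (FFEmb.mem_conjS.1 hx) fun A hA a ha => ?_
  have h1 := h _ (hA.conj c) (c * a * c⁻¹) ⟨a, ha, rfl⟩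
  calc a * (c⁻¹ * x * c) = c⁻¹ * (c * a * c⁻¹ * x) * c := by group
    _ = c⁻¹ * (x * (c * a * c⁻¹)) * c := by rw [h1]
    _ = _ := by group

theorem zj_conj_mem {X : Subgroup G} {s x : G} (hs : s ∈ X) (hx : x ∈ zj X) : s * x * s⁻¹ ∈ zj X := by
  have h := zj_conj (X := X) (c := s⁻¹) (x := x) (by rw [conjS_of_mem (inv_mem hs)]; exact js_le _ hx.1)
    fun T hT a ha => zj_cmt (by rwa [conjS_of_mem (inv_mem hs)] at hT) hx ha
  rwa [inv_inv] at h

namespace Cex

variable [hp : Fact p.Prime] {S : Sylow p G} {R : Subgroup G} [Abel S] (cx : Cex p S R) (hp2 : p ≠ 2)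
include cx hp2

/-- A lift of a maximal pair which meets `S` in the whole preimage of the common members. -/
theorem exists_lift {g : Hb S}
    (hb' : Base p (Additive (vc S)) (sb S) ((Subgroup.normalizer (R : Set G)).map (hb S)) g) :
    ∃ c : G, c ∉ Subgroup.normalizer (R : Set G) ∧
      (FFEmb.conjS c (S : Subgroup G)).map (hb S) = FFEmb.conjS g (sb S : Subgroup (Hb S)) ∧
      FFEmb.conjS c (S : Subgroup G) ⊓
        (sSup (com (IsMin p (Additive (vc S))) (sb S) 1 g)).comap (hb S) ≤ (S : Subgroup G) := by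
  classical
  set D := sSup (com (IsMin p (Additive (vc S))) (sb S) 1 g) with hD
  set K := D.comap (hb S) with hK
  obtain ⟨c₀, rfl⟩ := hb_surj S g
  have hD1 : D ≤ (S : Subgroup G).map (hb S) := sSup_le fun B hB => (hb'.mem_com hB).2
  have hDg : D ≤ FFEmb.conjS (hb S c₀) (sb S : Subgroup (Hb S)) := sSup_le fun B hB => hB.2.2
  have hcmap : ∀ c : G, (FFEmb.conjS c (S : Subgroup G)).map (hb S) =
      FFEmb.conjS (hb S c) (sb S : Subgroup (Hb S)) := fun c => by
    rw [coe_sb, FFEmb.conjS, FFEmb.conjS, Subgroup.map_map, Subgroup.map_map]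
    congr 1
    ext x
    simp
  have hQn : ∀ c : G, FFEmb.conjS c (pCore p G) = pCore p G := fun c => by
    haveI : (pCore p G).Normal := Cfsg.pCore_normal p G
    exact conjS_of_mem_normalizer (by rw [Subgroup.normalizer_eq_top]; trivial)
  have hcV : ∀ c : G, FFEmb.conjS c (S : Subgroup G) ⊓ Subgroup.centralizer (vc S : Set G) ≤ pCore p G := by
    intro c x hx
    rw [← hQn c, FFEmb.mem_conjS]
    refine cx.mem_core (FFEmb.mem_conjS.1 hx.1) fun v hv => ?_
    have h1 : (c * v * c⁻¹) * x = x * (c * v * c⁻¹) := hx.2 _ ((vc_normal S).conj_mem v hv c)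
    calc v * (c⁻¹ * x * c) = c⁻¹ * ((c * v * c⁻¹) * x) * c := by group
      _ = c⁻¹ * (x * (c * v * c⁻¹)) * c := by rw [h1]
      _ = _ := by group
  have hcard : ∀ P : Subgroup G, IsPGroup p P → P ≤ K → Nat.card P ≤ Nat.card (pCore p G) * Nat.card D := by
    intro P hP hPK
    rw [card_map (S := S) P]
    refine Nat.mul_le_mul (Subgroup.card_le_of_le ?_) (Subgroup.card_le_of_le (Subgroup.map_le_iff_le_comap.2 hPK))
    obtain ⟨P', hP'⟩ := (hP.to_le (inf_le_left : P ⊓ Subgroup.centralizer (vc S : Set G) ≤ P)).exists_le_sylow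
    obtain ⟨k, hk⟩ := MulAction.exists_smul_eq G S P'
    rw [← hk, sylow_smul_coe] at hP'
    exact fun x hx => hcV k ⟨hP' hx, hx.2⟩
  have hfull : ∀ c : G, D ≤ (FFEmb.conjS c (S : Subgroup G)).map (hb S) →
      Nat.card (pCore p G) * Nat.card D ≤ Nat.card ↥(FFEmb.conjS c (S : Subgroup G) ⊓ K) := by
    intro c hDc
    rw [card_map (S := S) (FFEmb.conjS c (S : Subgroup G) ⊓ K)]
    refine Nat.mul_le_mul (Subgroup.card_le_of_le fun x hx => ⟨⟨?_, ?_⟩, cx.Q_le_cV hx⟩)
      (Subgroup.card_le_of_le fun f hf => ?_)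
    · rw [← hQn c, FFEmb.mem_conjS] at hx
      exact FFEmb.mem_conjS.2 (cx.Q_le hx)
    · show hb S x ∈ D
      rw [hb_eq_one_iff.2 (cx.Q_le_cV hx)]
      exact one_mem D
    · obtain ⟨x, hx, rfl⟩ := hDc hf
      exact ⟨x, ⟨hx, hf⟩, rfl⟩
  have mk : ∀ c : G, D ≤ (FFEmb.conjS c (S : Subgroup G)).map (hb S) →
      ∀ {Q : Subgroup K}, IsPGroup p Q → (FFEmb.conjS c (S : Subgroup G) ⊓ K).subgroupOf K ≤ Q →
        Q = (FFEmb.conjS c (S : Subgroup G) ⊓ K).subgroupOf K := by
    intro c hDc Q hQ hle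
    refine (Subgroup.eq_of_le_of_card_ge hle ?_).symm
    rw [card_subgroupOf inf_le_right]
    refine le_trans ?_ (hfull c hDc)
    rw [← Subgroup.card_map_of_injective K.subtype_injective]
    exact hcard _ (hQ.map _) (Subgroup.map_subtype_le Q)
  let P₁ : Sylow p K := ⟨(FFEmb.conjS 1 (S : Subgroup G) ⊓ K).subgroupOf K,
    ((S.isPGroup'.map _).to_le inf_le_left).of_equiv (Subgroup.subgroupOfEquivOfLe inf_le_right).symm,
    mk 1 (by rwa [FFEmb.conjS_one])⟩
  let P₂ : Sylow p K := ⟨(FFEmb.conjS c₀ (S : Subgroup G) ⊓ K).subgroupOf K,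
    ((S.isPGroup'.map _).to_le inf_le_left).of_equiv (Subgroup.subgroupOfEquivOfLe inf_le_right).symm,
    mk c₀ (by rw [hcmap]; exact hDg)⟩
  obtain ⟨k, hk⟩ := MulAction.exists_smul_eq K P₂ P₁
  have hkD : hb S (k : G) ∈ D := k.2
  refine ⟨k * c₀, fun h => hb'.g_not ?_, ?_, fun x hx => ?_⟩
  · have h1 := mul_mem (inv_mem (Subgroup.map_mono cx.SM (hD1 hkD)))
      (Subgroup.mem_map_of_mem (hb S) h)
    rwa [map_mul, inv_mul_cancel_left] at h1
  · rw [hcmap, map_mul, ← FFEmb.conjS_mul]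
    exact conjS_of_mem (hDg hkD)
  · obtain ⟨hx1, hx2⟩ := hx
    rw [← FFEmb.conjS_mul] at hx1
    replace hx1 : (k : G)⁻¹ * x * k ∈ FFEmb.conjS c₀ (S : Subgroup G) := FFEmb.mem_conjS.1 hx1
    have hxK : ((k : G))⁻¹ * x * k ∈ K := mul_mem (mul_mem (inv_mem k.2) hx2) k.2
    have h1 : (⟨x, hx2⟩ : K) ∈ ((k • P₂ : Sylow p K) : Subgroup K) := by
      refine ⟨⟨_, hxK⟩, ⟨hx1, hxK⟩, Subtype.ext ?_⟩
      show (k : G) * ((k : G)⁻¹ * x * k) * (k : G)⁻¹ = x
      group
    rw [hk] at h1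
    have h2 := h1.1
    rwa [FFEmb.conjS_one] at h2

variable (hJ : ¬ js (S : Subgroup G) ≤ pCore p G)
include hJ

theorem q2_normal : (pCore p G ⊓ Subgroup.centralizer (zj (S : Subgroup G) : Set G)).Normal := by
  classical
  obtain ⟨A₀, -, B₁, hB₁, -⟩ := cx.exists_img hp2 hJ
  obtain ⟨g, hbase, hex⟩ := cx.sit.exists_base cx.gen hp2 (B := B₁) (by rw [coe_sb]; exact hB₁)
  obtain ⟨X, hX⟩ := hbase.exists_ex hbase.pt_g
  obtain ⟨c, hcM, hcg, hcK⟩ := cx.exists_lift hp2 hbase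
  set D := sSup (com (IsMin p (Additive (vc S))) (sb S) 1 g) with hD
  set T := FFEmb.conjS c (S : Subgroup G) with hT
  have hopp := hbase.opp hbase.pt_one hbase.pt_g (by simpa using hbase.g_not) hex hX
  have hnX := cx.sit.natOff_min hp2 hX.isMin
  have hQT : pCore p G ≤ T := fun x hx => by
    haveI : (pCore p G).Normal := Cfsg.pCore_normal p G
    rw [hT, FFEmb.mem_conjS]
    exact cx.Q_le (by simpa using Subgroup.Normal.conj_mem inferInstance x hx c⁻¹)
  have hmapc : ∀ B : Subgroup G, (FFEmb.conjS c B).map (hb S) = FFEmb.conjS (hb S c) (B.map (hb S)) := fun B => by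
    rw [FFEmb.conjS, FFEmb.conjS, Subgroup.map_map, Subgroup.map_map]
    congr 1
    ext x
    simp
  have hdelT : ∀ B : Subgroup G, B.map (hb S) ∈ Del p (Additive (vc S)) ((S : Subgroup G).map (hb S)) →
      (FFEmb.conjS c B).map (hb S) ∈ insert X (com (IsMin p (Additive (vc S))) (sb S) 1 g) := by
    intro B hB
    rw [hmapc]
    by_contra hne
    rw [Set.mem_insert_iff, not_or] at hne
    have hle : FFEmb.conjS (hb S c) (B.map (hb S)) ≤ FFEmb.conjS g (sb S : Subgroup (Hb S)) := by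
      rw [← hcg, hT, hmapc]
      exact Subgroup.map_mono hB.2
    exact hne.1 (hbase.ex_unique hbase.pt_g hbase.pt_g hbase.g_not (by simp) hX ⟨hB.1.conj _, hle, hne.2⟩)
  -- an element of `Z(J(S))` agrees modulo `V` with one of the conjugate centre
  have hA1 := cx.sit.fam cx.gen hp2
  have hB₁d : B₁ ∈ Del p (Additive (vc S)) (sb S : Subgroup (Hb S)) := by rw [coe_sb]; exact hB₁
  obtain ⟨A₁, hA₁, hA₁B⟩ := cx.reduced hp2 hJ hB₁
  obtain ⟨AX₀, hAX₀, hAX₀X⟩ : ∃ A, MA T A ∧ A.map (hb S) = X := by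
    have hX' : FFEmb.conjS (hb S c)⁻¹ X ∈ Del p (Additive (vc S)) ((S : Subgroup G).map (hb S)) := by
      refine ⟨hX.isMin.conj _, conjS_le_iff.2 ?_⟩
      rw [inv_inv, ← hmapc, ← hT, hcg]
      exact hX.le
    obtain ⟨A, hA, hAm⟩ := cx.reduced hp2 hJ hX'
    exact ⟨FFEmb.conjS c A, hA.conj c, by rw [hmapc, hAm, FFEmb.conjS_mul, mul_inv_cancel, FFEmb.conjS_one]⟩
  have hsplit : ∀ y ∈ zj (S : Subgroup G), ∀ A : Subgroup G, MA T A → A.map (hb S) = X →
      ∃ u ∈ mv (Additive (vc S)) B₁, y * (vg u)⁻¹ ∈ A := by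
    intro y hy A hA hAX
    obtain ⟨hA', -⟩ := cx.core_ma hp2 hA.conj_back
    haveI : (pCore p G).Normal := Cfsg.pCore_normal p G
    have hW : MA (S : Subgroup G) (A ⊓ pCore p G ⊔ vc S) := by
      refine hA'.of_card (sup_le (inf_le_right.trans cx.Q_le) cx.vc_leS) ?_ (le_of_eq ?_)
      · have hc1 : Cmt (A ⊓ pCore p G) (vc S) := fun a ha b hb' => (cx.Q_le_cV ha.2 b hb').symm
        exact cmt_sup (cmt_sup (hA.cmt.mono inf_le_left inf_le_left) hc1.symm).symm
          (cmt_sup hc1 fun a ha b hb' => cx.Q_le_cV (cx.vc_le hb') a ha).symm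
      · rw [← FFEmb.card_conjS c (FFEmb.conjS c⁻¹ A ⊓ pCore p G ⊔ vc S), conjS_sup,
          conjS_of_mem_normalizer (k := c) (A := vc S) (by rw [Subgroup.normalizer_eq_top]; trivial),
          FFEmb.conjS, Subgroup.map_inf _ _ _ (MulAut.conj c).injective]
        change Nat.card ↥(FFEmb.conjS c (FFEmb.conjS c⁻¹ A) ⊓ FFEmb.conjS c (pCore p G) ⊔ vc S) = _
        rw [FFEmb.conjS_mul, mul_inv_cancel, FFEmb.conjS_one,
          conjS_of_mem_normalizer (k := c) (A := pCore p G) (by rw [Subgroup.normalizer_eq_top]; trivial)]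
    have hyW := hW.mem (js_le _ hy.1) fun a ha => zj_cmt hW hy ha
    haveI := vc_normal S
    rw [← SetLike.mem_coe, Subgroup.mul_normal] at hyW
    obtain ⟨a, ha, v, hv, rfl⟩ := hyW
    obtain ⟨uA, huA, uX, huX, f, hf, he⟩ := hopp.decomp (vv (S := S) hv)
    refine ⟨uA, huA, ?_⟩
    have hfix : uX + f ∈ fx (Additive (vc S)) (A.map (hb S)) := by
      rw [hAX]
      exact add_mem (fun b hb'' => hnX.mv_fix hb'' huX) hf.2
    have hmem : vg (uX + f) ∈ A := hA.mem (hQT (cx.vc_le (vg_mem _))) (mem_fx_map.1 hfix)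
    have h2 : v = vg (uX + f) * vg uA := by
      rw [← vg_add, show uX + f + uA = vv (S := S) hv by rw [← he]; abel, vg_vv]
    show a * v * (vg uA)⁻¹ ∈ A
    rw [h2, ← mul_assoc, mul_inv_cancel_right]
    exact A.mul_mem ha.1 hmem
  have key : ∀ y ∈ zj (S : Subgroup G), ∃ v ∈ vc S, c⁻¹ * (y * v) * c ∈ zj (S : Subgroup G) := by
    intro y hy
    obtain ⟨u, hu, hyu⟩ := hsplit y hy AX₀ hAX₀ hAX₀X
    refine ⟨(vg u)⁻¹, inv_mem (vg_mem u), ?_⟩
    set z := y * (vg u)⁻¹ with hz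
    have hzQ : z ∈ pCore p G := mul_mem (cx.zj_le hp2 hy) (inv_mem (cx.vc_le (vg_mem u)))
    refine zj_conj (hQT hzQ) fun A hA a ha => ?_
    -- it is enough to commute with the reduced ones
    have hgen : A ≤ sSup {A' | MA T A' ∧ (A' ≤ pCore p G ∨ A'.map (hb S) ∈
        insert X (com (IsMin p (Additive (vc S))) (sb S) 1 g))} := by
      refine (show A ≤ FFEmb.conjS c⁻¹⁻¹ _ from conjS_le_iff.1 (cx.le_sSup_reduced hp2 hA.conj_back)).trans ?_
      rw [inv_inv, conjS_le_iff, sSup_le_iff]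
      rintro A' ⟨hA', hA''⟩
      refine conjS_le_iff.1 (show FFEmb.conjS c A' ≤ _ from le_sSup ⟨hA'.conj c, ?_⟩)
      rcases hA'' with h | h
      · refine Or.inl ((conjS_mono h).trans ?_)
        haveI : (pCore p G).Normal := Cfsg.pCore_normal p G
        exact (conjS_of_mem_normalizer (by rw [Subgroup.normalizer_eq_top]; trivial)).le
      · exact Or.inr (hdelT A' h)
    suffices hle : sSup {A' | MA T A' ∧ (A' ≤ pCore p G ∨ A'.map (hb S) ∈
        insert X (com (IsMin p (Additive (vc S))) (sb S) 1 g))} ≤ Subgroup.centralizer ({z} : Set G) from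
      Subgroup.mem_centralizer_singleton_iff.1 (hle (hgen ha))
    refine sSup_le fun A' hA' a ha => ?_
    rw [Subgroup.mem_centralizer_singleton_iff]
    obtain ⟨hA'T, hcase⟩ := hA'
    -- members inside `S`
    have hinS : A' ≤ (S : Subgroup G) → (hb S a) • u = u → a * z = z * a := by
      intro hle hau
      have h1 : Commute a y := zj_cmt (hA'T.transfer hle) hy ha
      have h2 : Commute a (vg u) := (smul_eq_iff a u).1 hau
      exact (h1.mul_right h2.inv_right).eq
    rcases hcase with hQ | hX' | hC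
    · exact hinS (hQ.trans cx.Q_le) (by rw [hb_eq_one_iff.2 (cx.Q_le_cV (hQ ha)), one_smul])
    · -- the opposite member
      obtain ⟨b, hb0, hba⟩ : ∃ b ∈ AX₀, hb S b = hb S a := by
        have h1 : hb S a ∈ A'.map (hb S) := Subgroup.mem_map_of_mem _ ha
        rw [hX', ← hAX₀X] at h1
        exact h1
      obtain ⟨q, hq⟩ : ∃ q, q = b⁻¹ * a := ⟨_, rfl⟩
      have hqQ : q ∈ pCore p G := by
        refine hq ▸ ?_
        have h1 : b⁻¹ * a ∈ T := mul_mem (inv_mem (hAX₀.le hb0)) (hA'T.le ha)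
        have h2 : b⁻¹ * a ∈ Subgroup.centralizer (vc S : Set G) := hb_eq_iff.1 hba.symm
        rw [hT, FFEmb.mem_conjS] at h1
        have h3 := cx.mem_core h1 (fun v hv => by
          have h4 : (c * v * c⁻¹) * (b⁻¹ * a) = (b⁻¹ * a) * (c * v * c⁻¹) := h2 _ ((vc_normal S).conj_mem v hv c)
          calc v * (c⁻¹ * (b⁻¹ * a) * c) = c⁻¹ * ((c * v * c⁻¹) * (b⁻¹ * a)) * c := by group
            _ = c⁻¹ * ((b⁻¹ * a) * (c * v * c⁻¹)) * c := by rw [h4]
            _ = _ := by group)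
        haveI : (pCore p G).Normal := Cfsg.pCore_normal p G
        have h5 := Subgroup.Normal.conj_mem inferInstance _ h3 c
        simpa [mul_assoc] using h5
      obtain ⟨u', hu', hyu'⟩ := hsplit y hy A' hA'T hX'
      -- the commutator of `y` with either
      have hcomm : ∀ (e : G) (w : Additive (vc S)), e * (y * (vg w)⁻¹) = y * (vg w)⁻¹ * e →
          e * y * e⁻¹ * y⁻¹ = vg (hb S e • w - w) := by
        intro e w h
        have hyv : Commute y (vg w) := (cx.zj_cmt_vc hp2 hy (vg_mem w)).symm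
        have hyv' : Commute y (e * vg w * e⁻¹) := (cx.zj_cmt_vc hp2 hy ((vc_normal S).conj_mem _ (vg_mem w) e)).symm
        rw [vg_sub, vg_smul]
        calc e * y * e⁻¹ * y⁻¹ = (e * (y * (vg w)⁻¹)) * e⁻¹ * (e * vg w * e⁻¹) * y⁻¹ := by group
          _ = (y * (vg w)⁻¹) * (e * vg w * e⁻¹) * y⁻¹ := by rw [h]; group
          _ = (vg w)⁻¹ * (y * (e * vg w * e⁻¹)) * y⁻¹ := by rw [hyv.inv_right.eq]; group
          _ = (vg w)⁻¹ * (e * vg w * e⁻¹) := by rw [hyv'.eq]; group
          _ = e * vg w * e⁻¹ * (vg w)⁻¹ := cx.Q_le_cV (cx.vc_le ((vc_normal S).conj_mem _ (vg_mem w) e)) _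
              (inv_mem (vg_mem w))
      have hb1 := hcomm b u (hAX₀.cmt b hb0 z hyu)
      have ha1 := hcomm a u' (hA'T.cmt a ha _ hyu')
      set w := q * y * q⁻¹ * y⁻¹ with hw
      have hwz : w ∈ zj (S : Subgroup G) := mul_mem (zj_conj_mem (cx.Q_le hqQ) hy) (inv_mem hy)
      have hab : a = b * q := by rw [hq, mul_inv_cancel_left]
      have hbw : b * w * b⁻¹ = vg (hb S a • u' - u' - (hb S b • u - u)) := by
        rw [vg_sub, ← ha1, ← hb1, hw, hab]
        group
      have hd : ∃ d ∈ mv (Additive (vc S)) X, vg d = w := by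
        have hmem : hb S a • u' - u' - (hb S b • u - u) ∈ mv (Additive (vc S)) X := by
          refine sub_mem (sub_mem_mv ?_ _) (sub_mem_mv ?_ _)
          · rw [← hX']; exact Subgroup.mem_map_of_mem _ ha
          · rw [← hAX₀X]; exact Subgroup.mem_map_of_mem _ hb0
        refine ⟨_, hmem, ?_⟩
        have hfix : hb S b • (hb S a • u' - u' - (hb S b • u - u)) = hb S a • u' - u' - (hb S b • u - u) :=
          hnX.mv_fix (by rw [← hAX₀X]; exact Subgroup.mem_map_of_mem _ hb0) hmem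
        rw [smul_eq_iff] at hfix
        rw [← hbw] at hfix ⊢
        have h7 : b * w * b⁻¹ = w := by
          have h8 : b * (b * w * b⁻¹) * b⁻¹ = b * w * b⁻¹ := by rw [hfix, mul_inv_cancel_right]
          have h9 := congrArg (fun t => b⁻¹ * t * b) h8
          simpa [mul_assoc] using h9
        exact h7
      obtain ⟨d, hd, hdw⟩ := hd
      have hd0 : d = 0 := by
        refine hopp.inf d hd fun f hf => ?_
        rw [← hA₁B] at hf
        obtain ⟨a₁, ha₁, rfl⟩ := hf
        rw [smul_eq_iff, hdw]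
        exact zj_cmt hA₁ hwz ha₁
      have hqy : q * y = y * q := by
        rw [hd0, vg_zero, hw, eq_comm, mul_inv_eq_one, mul_inv_eq_iff_eq_mul] at hdw
        exact hdw
      have hqu : Commute q (vg u) := (cx.Q_le_cV hqQ _ (vg_mem u)).symm
      have hqz : Commute q z := (show Commute q y from hqy).mul_right hqu.inv_right
      have hbz : Commute b z := hAX₀.cmt b hb0 z hyu
      rw [hab]
      exact (hbz.mul_left hqz).eq
    · refine hinS (fun x hx => hcK ⟨hA'T.le hx, le_sSup hC (Subgroup.mem_map_of_mem _ hx)⟩) ?_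
      have h1 := hA1.quad cx.sit hp2 (mv_mono (le_sSup hB₁d) hu)
      have hC' : A'.map (hb S) ∈ Del p (Additive (vc S)) (sb S : Subgroup (Hb S)) := hbase.mem_com hC
      exact h1 _ (le_sSup hC' (Subgroup.mem_map_of_mem _ ha))
  -- both `S` and `c` normalise it
  set Q2 := pCore p G ⊓ Subgroup.centralizer (zj (S : Subgroup G) : Set G) with hQ2
  haveI : (pCore p G).Normal := Cfsg.pCore_normal p G
  have hc : c ∈ Subgroup.normalizer (Q2 : Set G) := by
    refine mem_normalizer_of_conjS (Subgroup.eq_of_le_of_card_ge ?_ (by rw [FFEmb.card_conjS]))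
    rintro _ ⟨x, hx, rfl⟩
    refine ⟨Subgroup.Normal.conj_mem inferInstance x hx.1 c, fun y hy => ?_⟩
    obtain ⟨v, hv, hyv⟩ := key y hy
    have h1 : Commute (c⁻¹ * (y * v) * c) x := hx.2 _ hyv
    have h2 : Commute (y * v) (c * x * c⁻¹) := by
      show y * v * (c * x * c⁻¹) = c * x * c⁻¹ * (y * v)
      calc y * v * (c * x * c⁻¹) = c * ((c⁻¹ * (y * v) * c) * x) * c⁻¹ := by group
        _ = c * (x * (c⁻¹ * (y * v) * c)) * c⁻¹ := by rw [h1.eq]
        _ = _ := by group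
    have h3 : Commute v (c * x * c⁻¹) :=
      cx.Q_le_cV (Subgroup.Normal.conj_mem inferInstance x hx.1 c) v hv
    have h4 := h2.mul_left h3.inv_left
    rw [mul_inv_cancel_right] at h4
    exact h4.eq
  have hS : (S : Subgroup G) ≤ Subgroup.normalizer (Q2 : Set G) := fun s hs => by
    refine mem_normalizer_of_conjS (Subgroup.eq_of_le_of_card_ge ?_ (by rw [FFEmb.card_conjS]))
    rintro _ ⟨x, hx, rfl⟩
    refine ⟨Subgroup.Normal.conj_mem inferInstance x hx.1 s, fun y hy => ?_⟩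
    have h1 : (s⁻¹ * y * s) * x = x * (s⁻¹ * y * s) := hx.2 _ (by simpa using zj_conj_mem (inv_mem hs) hy)
    show y * (s * x * s⁻¹) = s * x * s⁻¹ * y
    calc y * (s * x * s⁻¹) = s * ((s⁻¹ * y * s) * x) * s⁻¹ := by group
      _ = s * (x * (s⁻¹ * y * s)) * s⁻¹ := by rw [h1]
      _ = _ := by group
  refine Subgroup.normalizer_eq_top_iff.1 ?_
  by_contra hne
  exact hcM (cx.up _ hS hne hc)

end Cex

end Cfsg.Agent.T3
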