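/-
The module `Q / [Q, C(V)]`.
-/
import Cfsg.Agent.Lib.Transfer3.QTwo

set_option autoImplicit false
set_option linter.unusedSectionVars false
set_option linter.style.haveILetI false

namespace Cfsg.Agent.T3

open Cfsg Cfsg.Agent.FFEmb
open scoped commutatorElement

universe u

variable {G : Type u} [Group G] {p : ℕ}

/-- The core centralises `V`. -/
class CoreCent (S : Sylow p G) : Prop where
  le : pCore p G ≤ Subgroup.centralizer (vc S : Set G)

/-- `[Q, C(V)]`. -/
def k0 (S : Sylow p G) : Subgroup G := ⁅pCore p G, Subgroup.centralizer (vc S : Set G)⁆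

instance pCore_normal_inst : (pCore p G).Normal := Cfsg.pCore_normal p G

instance k0_normal (S : Sylow p G) : (k0 S).Normal := Subgroup.commutator_normal _ _

theorem k0_le (S : Sylow p G) : k0 S ≤ pCore p G := Subgroup.commutator_le_left _ _

/-- The quotient. -/
abbrev QQ (S : Sylow p G) : Type u := ↥(pCore p G) ⧸ (k0 S).subgroupOf (pCore p G)

theorem qq_eq_iff {S : Sylow p G} {x y : G} (hx : x ∈ pCore p G) (hy : y ∈ pCore p G) :
    ((⟨x, hx⟩ : pCore p G) : QQ S) = ((⟨y, hy⟩ : pCore p G) : QQ S) ↔ x⁻¹ * y ∈ k0 S := by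
  rw [QuotientGroup.eq]
  rfl

instance qqComm (S : Sylow p G) [CoreCent S] : CommGroup (QQ S) :=
  { (inferInstance : Group (QQ S)) with
    mul_comm := fun a b => by
      induction a using QuotientGroup.induction_on with
      | _ x =>
        induction b using QuotientGroup.induction_on with
        | _ y =>
          refine (qq_eq_iff (x := (x : G) * y) (y := (y : G) * x) (mul_mem x.2 y.2) (mul_mem y.2 x.2)).2 ?_
          have h : ⁅(y : G)⁻¹, (x : G)⁻¹⁆ ∈ k0 S :=
            Subgroup.commutator_mem_commutator (inv_mem y.2) (CoreCent.le (inv_mem x.2))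
          rw [commutatorElement_def, inv_inv, inv_inv] at h
          simpa [mul_assoc] using h }

/-- The action of an element of the group. -/
def gact (S : Sylow p G) (g : G) : QQ S →* QQ S :=
  QuotientGroup.map _ _ (MulAut.conjNormal (H := pCore p G) g).toMonoidHom fun x hx => by
    show ((MulAut.conjNormal g x : pCore p G) : G) ∈ k0 S
    rw [MulAut.conjNormal_apply]
    exact (k0_normal S).conj_mem _ hx g

theorem gact_mk (S : Sylow p G) (g : G) (x : pCore p G) :
    gact S g (x : QQ S) = ((MulAut.conjNormal g x : pCore p G) : QQ S) := rfl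

theorem gact_mul (S : Sylow p G) (g k : G) (v : QQ S) : gact S (g * k) v = gact S g (gact S k v) := by
  induction v using QuotientGroup.induction_on with
  | _ x => rw [gact_mk, gact_mk, gact_mk, map_mul, MulAut.mul_apply]

theorem gact_eq {S : Sylow p G} {g k : G} (h : hb S g = hb S k) [Abel S] (v : QQ S) : gact S g v = gact S k v := by
  have hc : k⁻¹ * g ∈ Subgroup.centralizer (vc S : Set G) := hb_eq_iff.1 h
  have hfix : gact S (k⁻¹ * g) v = v := by
    induction v using QuotientGroup.induction_on with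
    | _ x =>
      rw [gact_mk]
      refine (qq_eq_iff (MulAut.conjNormal (H := pCore p G) (k⁻¹ * g) x).2 x.2).2 ?_
      rw [MulAut.conjNormal_apply]
      set c := k⁻¹ * g
      have h1 : ⁅(x : G), c⁆ ∈ k0 S := Subgroup.commutator_mem_commutator x.2 hc
      have h2 := (k0_normal S).conj_mem _ h1 (x : G)⁻¹
      rw [commutatorElement_def] at h2
      have e : (c * x * c⁻¹)⁻¹ * x = (x : G)⁻¹ * ((x : G) * c * (x : G)⁻¹ * c⁻¹) * x := by group
      rw [e]
      simpa using h2
  calc gact S g v = gact S (k * (k⁻¹ * g)) v := by rw [mul_inv_cancel_left]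
    _ = gact S k v := by rw [gact_mul, hfix]

noncomputable instance qAct (S : Sylow p G) [Abel S] [CoreCent S] : DistribMulAction (Hb S) (Additive (QQ S)) where
  smul f v := Additive.ofMul (gact S (Function.surjInv (hb_surj S) f) (Additive.toMul v))
  one_smul v := by
    refine Additive.toMul.injective ?_
    show gact S _ (Additive.toMul v) = Additive.toMul v
    rw [gact_eq (k := 1) (by rw [Function.surjInv_eq (hb_surj S), map_one])]
    induction (Additive.toMul v) using QuotientGroup.induction_on with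
    | _ x => rw [gact_mk, map_one, MulAut.one_apply]
  mul_smul f f' v := by
    refine Additive.toMul.injective ?_
    show gact S _ (Additive.toMul v) = gact S _ (gact S _ (Additive.toMul v))
    rw [← gact_mul]
    exact gact_eq (by simp only [map_mul, Function.surjInv_eq (hb_surj S)]) _
  smul_zero f := Additive.toMul.injective (map_one (gact S _))
  smul_add f v v' := Additive.toMul.injective (map_mul (gact S _) _ _)

/-- An element of the core as a vector. -/
def qv {S : Sylow p G} {x : G} (hx : x ∈ pCore p G) : Additive (QQ S) :=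
  Additive.ofMul ((⟨x, hx⟩ : pCore p G) : QQ S)

theorem qv_surj {S : Sylow p G} (v : Additive (QQ S)) : ∃ (x : G) (hx : x ∈ pCore p G), qv (S := S) hx = v := by
  obtain ⟨x, hx⟩ := QuotientGroup.mk_surjective (Additive.toMul v)
  exact ⟨x, x.2, congrArg Additive.ofMul hx⟩

section

variable {S : Sylow p G}

theorem qv_eq_iff {x y : G} (hx : x ∈ pCore p G) (hy : y ∈ pCore p G) :
    qv (S := S) hx = qv (S := S) hy ↔ x⁻¹ * y ∈ k0 S :=
  Additive.ofMul.injective.eq_iff.trans (qq_eq_iff hx hy)

theorem qv_congr {x y : G} {hx : x ∈ pCore p G} (h : x = y) (hy : y ∈ pCore p G) :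
    qv (S := S) hx = qv (S := S) hy := by subst h; rfl

variable [CoreCent S]

theorem qv_mul {x y : G} (hx : x ∈ pCore p G) (hy : y ∈ pCore p G) :
    qv (S := S) (mul_mem hx hy) = qv (S := S) hx + qv (S := S) hy := rfl

theorem qv_inv {x : G} (hx : x ∈ pCore p G) : qv (S := S) (inv_mem hx) = -qv (S := S) hx := rfl

theorem qv_one : qv (S := S) (one_mem (pCore p G)) = 0 := rfl

/-- The image of the part of a subgroup inside the core. -/
def qimg (S : Sylow p G) [CoreCent S] (Y : Subgroup G) : AddSubgroup (Additive (QQ S)) where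
  carrier := {v | ∃ (y : G) (hy : y ∈ pCore p G), y ∈ Y ∧ qv (S := S) hy = v}
  zero_mem' := ⟨1, one_mem _, one_mem _, rfl⟩
  add_mem' := by
    rintro _ _ ⟨y, hy, hyY, rfl⟩ ⟨z, hz, hzY, rfl⟩
    exact ⟨y * z, mul_mem hy hz, mul_mem hyY hzY, rfl⟩
  neg_mem' := by
    rintro _ ⟨y, hy, hyY, rfl⟩
    exact ⟨y⁻¹, inv_mem hy, inv_mem hyY, rfl⟩

theorem qv_mem_qimg {Y : Subgroup G} {y : G} (hy : y ∈ pCore p G) (hyY : y ∈ Y) :
    qv (S := S) hy ∈ qimg S Y := ⟨y, hy, hyY, rfl⟩

theorem mem_of_qimg {Y : Subgroup G} (hY : k0 S ≤ Y) {x : G} {hx : x ∈ pCore p G}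
    (h : qv (S := S) hx ∈ qimg S Y) : x ∈ Y := by
  obtain ⟨y, hy, hyY, he⟩ := h
  have := mul_mem hyY (hY ((qv_eq_iff hy hx).1 he))
  simpa using this

theorem qv_conj_core {c q : G} (hc : c ∈ pCore p G) (hq : q ∈ pCore p G) :
    qv (S := S) (Subgroup.Normal.conj_mem inferInstance q hq c) = qv (S := S) hq := by
  rw [qv_congr (y := c * q * c⁻¹) rfl (mul_mem (mul_mem hc hq) (inv_mem hc)), qv_mul (mul_mem hc hq) (inv_mem hc),
    qv_mul hc hq, qv_inv hc]
  abel

variable [Abel S]

theorem hb_smul_qv (g : G) {x : G} (hx : x ∈ pCore p G) :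
    hb S g • qv (S := S) hx = qv (S := S) (Subgroup.Normal.conj_mem inferInstance x hx g) := by
  refine Additive.toMul.injective ?_
  show gact S _ ((⟨x, hx⟩ : pCore p G) : QQ S) = _
  rw [gact_eq (k := g) (Function.surjInv_eq (hb_surj S) _), gact_mk]
  rfl

theorem smul_eq_of_commute {g x : G} (hx : x ∈ pCore p G) (h : g * x = x * g) :
    hb S g • qv (S := S) hx = qv (S := S) hx := by
  rw [hb_smul_qv]
  exact qv_congr (by rw [h, mul_inv_cancel_right]) hx

theorem qq_ppow [Finite G] [Fact p.Prime] (v : Additive (QQ S)) : ∃ k : ℕ, p ^ k • v = 0 := by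
  obtain ⟨k, hk⟩ := ((PBasic.pCore_isPGroup p G).to_quotient ((k0 S).subgroupOf (pCore p G))) (Additive.toMul v)
  exact ⟨k, Additive.toMul.injective hk⟩

end

end Cfsg.Agent.T3
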