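/-
An element of order three acting on a quaternion group: two elementary facts about modules of odd exponent.
-/
import Cfsg.Agent.Lib.Transfer3.Kit

set_option autoImplicit false
set_option linter.unusedSectionVars false
set_option linter.style.haveILetI false

namespace Cfsg.Agent.T3

open Cfsg.Agent.FFEmb

variable {H : Type*} [Group H] {W : Type*} [AddCommGroup W] [DistribMulAction H W]

/-- The relations between `a`, `w` and the central involution. -/
structure Quat (a w z : H) : Prop where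
  sq : w * w = z
  za : z * a = a * z
  zw : z * w = w * z
  rel : w * (a * w * a⁻¹) = z * (a⁻¹ * w * a)
  cube : a * a * a = 1

theorem Weyl.quat {M L : Subgroup H} {t z a w : H} (h : Weyl M L t z a w) : Quat a w z :=
  ⟨h.sq, h.za, h.zw, h.rel, h.cube⟩

/-- The operator `3 - w - w' - w''`. -/
def pim (W : Type*) [AddCommGroup W] [DistribMulAction H W] (a w : H) : W →+ W :=
  AddMonoidHom.mk' (fun x => x + x + x - w • x - (a * w * a⁻¹) • x - (a⁻¹ * w * a) • x) fun x y => by
    simp only [smul_add]; abel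

theorem pim_apply (a w : H) (x : W) :
    pim W a w x = x + x + x - w • x - (a * w * a⁻¹) • x - (a⁻¹ * w * a) • x := rfl

namespace Quat

variable {a w z : H} (h : Quat a w z)
include h

theorem a_sq : a * a = a⁻¹ := eq_inv_of_mul_eq_one_left h.cube

theorem conj_w1 : a * (a * w * a⁻¹) = (a⁻¹ * w * a) * a := by
  calc a * (a * w * a⁻¹) = (a * a) * w * a⁻¹ := by simp only [mul_assoc]
    _ = a⁻¹ * w * (a * a) := by rw [h.a_sq]
    _ = _ := by simp only [mul_assoc]

theorem zw1 : z * (a * w * a⁻¹) = (a * w * a⁻¹) * z :=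
  (((show Commute z a from h.za).mul_right (show Commute z w from h.zw)).mul_right
    (show Commute z a from h.za).inv_right).eq

theorem zw2 : z * (a⁻¹ * w * a) = (a⁻¹ * w * a) * z :=
  (((show Commute z a from h.za).inv_right.mul_right (show Commute z w from h.zw)).mul_right
    (show Commute z a from h.za)).eq

theorem w1_w2 : (a * w * a⁻¹) * (a⁻¹ * w * a) = z * w := by
  have h1 := congrArg (fun u => a * u * a⁻¹) h.rel
  have e1 : a * (w * (a * w * a⁻¹)) * a⁻¹ = (a * w * a⁻¹) * (a * (a * w * a⁻¹) * a⁻¹) := by group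
  have e2 : a * (z * (a⁻¹ * w * a)) * a⁻¹ = z * w := by
    rw [← mul_assoc a z, ← h.za]; group
  simp only [e1, e2] at h1
  rwa [h.conj_w1, mul_inv_cancel_right] at h1

theorem w2_w : (a⁻¹ * w * a) * w = z * (a * w * a⁻¹) := by
  have h1 := congrArg (fun u => a * u * a⁻¹) h.w1_w2
  have e1 : a * ((a * w * a⁻¹) * (a⁻¹ * w * a)) * a⁻¹ = (a * (a * w * a⁻¹) * a⁻¹) * w := by group
  have e2 : a * (z * w) * a⁻¹ = z * (a * w * a⁻¹) := by
    rw [← mul_assoc a z, ← h.za]; group
  simp only [e1, e2] at h1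
  rwa [h.conj_w1, mul_inv_cancel_right] at h1

theorem sq1 : (a * w * a⁻¹) * (a * w * a⁻¹) = z := by
  calc (a * w * a⁻¹) * (a * w * a⁻¹) = a * (w * w) * a⁻¹ := by group
    _ = z := by rw [h.sq, ← h.za, mul_inv_cancel_right]

theorem sq2 : (a⁻¹ * w * a) * (a⁻¹ * w * a) = z := by
  calc (a⁻¹ * w * a) * (a⁻¹ * w * a) = a⁻¹ * (w * w) * a := by group
    _ = z := by rw [h.sq, mul_assoc, h.za, inv_mul_cancel_left]

theorem w_w2 : w * (a⁻¹ * w * a) = a * w * a⁻¹ :=
  mul_left_cancel (a := w) (by rw [h.rel, ← mul_assoc, h.sq])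

theorem w1_w : (a * w * a⁻¹) * w = a⁻¹ * w * a :=
  mul_left_cancel (a := a * w * a⁻¹) (by rw [← mul_assoc, h.sq1, h.w1_w2])

theorem w2_w1 : (a⁻¹ * w * a) * (a * w * a⁻¹) = w :=
  mul_left_cancel (a := a⁻¹ * w * a) (by rw [← mul_assoc, h.sq2, h.w2_w])

theorem smul_pim (x : W) : a • pim W a w x = pim W a w (a • x) := by
  have f0 : a • w • x = (a * w * a⁻¹) • a • x := by rw [← mul_smul, ← mul_smul, inv_mul_cancel_right]
  have f1 : a • (a * w * a⁻¹) • x = (a⁻¹ * w * a) • a • x := by rw [← mul_smul, h.conj_w1, mul_smul]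
  have f2 : a • (a⁻¹ * w * a) • x = w • a • x := by
    rw [← mul_smul, mul_assoc a⁻¹, mul_inv_cancel_left, mul_smul]
  simp only [pim_apply, smul_sub, smul_add, f0, f1, f2]
  abel

theorem smul_z_pim (x : W) : z • pim W a w x = pim W a w (z • x) := by
  simp only [pim_apply, smul_sub, smul_add, ← mul_smul, h.zw, h.zw1, h.zw2]

section fixed

variable {x : W} (hx : z • x = x)
include hx

theorem s_ww : w • w • x = x := by rw [← mul_smul, h.sq, hx]
theorem s_11 : (a * w * a⁻¹) • (a * w * a⁻¹) • x = x := by rw [← mul_smul, h.sq1, hx]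
theorem s_22 : (a⁻¹ * w * a) • (a⁻¹ * w * a) • x = x := by rw [← mul_smul, h.sq2, hx]
theorem s_w1 : w • (a * w * a⁻¹) • x = (a⁻¹ * w * a) • x := by
  rw [← mul_smul, h.rel, h.zw2, mul_smul, hx]
theorem s_w2 : w • (a⁻¹ * w * a) • x = (a * w * a⁻¹) • x := by rw [← mul_smul, h.w_w2]
theorem s_1w : (a * w * a⁻¹) • w • x = (a⁻¹ * w * a) • x := by rw [← mul_smul, h.w1_w]
theorem s_12 : (a * w * a⁻¹) • (a⁻¹ * w * a) • x = w • x := by rw [← mul_smul, h.w1_w2, h.zw, mul_smul, hx]
theorem s_2w : (a⁻¹ * w * a) • w • x = (a * w * a⁻¹) • x := by rw [← mul_smul, h.w2_w, h.zw1, mul_smul, hx]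
theorem s_21 : (a⁻¹ * w * a) • (a * w * a⁻¹) • x = w • x := by rw [← mul_smul, h.w2_w1]

theorem smul_w_pim : w • pim W a w x = pim W a w (w • x) := by
  simp only [pim_apply, smul_sub, smul_add, h.s_ww hx, h.s_w1 hx, h.s_w2 hx, h.s_1w hx, h.s_2w hx]

/-- The four group kills the image of `pim`. -/
theorem pim_total : pim W a w x + w • pim W a w x + (a * w * a⁻¹) • pim W a w x +
    (a⁻¹ * w * a) • pim W a w x = 0 := by
  simp only [pim_apply, smul_sub, smul_add, h.s_ww hx, h.s_11 hx, h.s_22 hx, h.s_w1 hx, h.s_w2 hx, h.s_1w hx,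
    h.s_12 hx, h.s_2w hx, h.s_21 hx]
  abel

end fixed

section odd

variable {p : ℕ} [hp : Fact p.Prime]

/-- A vector on which `a - 1` squares to zero is moved by the four group inside any subgroup containing the
displacements of `a`. -/
theorem moved (hp2 : p ≠ 2) (hW : ∀ v : W, ∃ k : ℕ, p ^ k • v = 0) {U : AddSubgroup W}
    (hU : ∀ v : W, a • v - v ∈ U) {x : W} (hx : z • x = x)
    (hd : a • (a • pim W a w x - pim W a w x) = a • pim W a w x - pim W a w x)
    (hd' : a • (a • pim W a w (w • x) - pim W a w (w • x)) = a • pim W a w (w • x) - pim W a w (w • x)) :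
    x - w • x ∈ U := by
  have hU' : ∀ v : W, a⁻¹ • v - v ∈ U := fun v => by
    have := neg_mem (hU (a⁻¹ • v))
    rwa [smul_inv_smul, neg_sub] at this
  have halve : ∀ u : W, u + u ∈ U → u ∈ U := by
    intro u hu
    obtain ⟨k, hk⟩ := hW u
    obtain ⟨m, hm⟩ : Even (p ^ k + 1) := ((hp.out.odd_of_ne_two hp2).pow).add_one
    have : u = m • (u + u) := by
      calc u = (p ^ k + 1) • u := by rw [add_smul, hk, one_smul, zero_add]
        _ = m • (u + u) := by rw [hm, add_smul, smul_add]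
    rw [this]
    exact nsmul_mem hu m
  -- the relation modulo the displacements
  have key : ∀ e : W, e + w • e + (a * w * a⁻¹) • e + (a⁻¹ * w * a) • e = 0 →
      a • (a • e - e) = a • e - e → e + (w • e + w • e + w • e) ∈ U := by
    intro e hsum hsq
    have hinv : a⁻¹ • e = e - (a • e - e) := by
      have h1 : a⁻¹ • (a • e - e) = a • e - e := inv_smul_eq_iff.2 hsq.symm
      rw [smul_sub, inv_smul_smul, sub_eq_iff_eq_add] at h1
      calc a⁻¹ • e = a⁻¹ • e + (a • e - e) - (a • e - e) := by abel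
        _ = e - (a • e - e) := by rw [add_comm (a⁻¹ • e), ← h1]
    have e1 : (a * w * a⁻¹) • e = a • (w • e - w • (a • e - e)) := by
      rw [mul_smul, mul_smul, hinv, smul_sub w e (a • e - e)]
    have e2 : (a⁻¹ * w * a) • e = a⁻¹ • (w • e + w • (a • e - e)) := by
      rw [mul_smul, mul_smul, ← smul_add w, add_sub_cancel]
    have m1 := hU (w • e - w • (a • e - e))
    have m2 := hU' (w • e + w • (a • e - e))
    rw [← e1] at m1
    rw [← e2] at m2
    have hmem := neg_mem (add_mem m1 m2)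
    convert hmem using 1
    rw [← sub_eq_zero, ← hsum]
    abel
  have k1 := key _ (h.pim_total hx) hd
  have hzw' : z • w • x = w • x := by rw [← mul_smul, h.zw, mul_smul, hx]
  rw [← h.smul_w_pim hx] at hd'
  set e := pim W a w x with he
  have hsum' : w • e + w • w • e + (a * w * a⁻¹) • w • e + (a⁻¹ * w * a) • w • e = 0 := by
    rw [he, h.smul_w_pim hx, ← h.pim_total hzw']
  have k2 := key (w • e) hsum' hd'
  have hze : z • e = e := by rw [he, h.smul_z_pim, hx]
  rw [h.s_ww hze] at k2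
  have h8 : e ∈ U := by
    refine halve _ (halve _ (halve _ ?_))
    have h9 := sub_mem (add_mem (add_mem k2 k2) k2) k1
    convert h9 using 1
    abel
  have hwe : w • e ∈ U := by
    have h10 := sub_mem k2 (add_mem (add_mem h8 h8) h8)
    rwa [add_sub_cancel_right] at h10
  refine halve _ (halve _ ?_)
  have h11 := sub_mem h8 hwe
  convert h11 using 1
  rw [he, h.smul_w_pim hx]
  simp only [pim_apply, h.s_ww hx, h.s_1w hx, h.s_2w hx]
  abel

/-- A space fixed by `a`, killed by the four group sum, with small enough span under `w`, is trivial. -/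
theorem vanish [Finite W] (hp2 : p ≠ 2) (hW : ∀ v : W, ∃ k : ℕ, p ^ k • v = 0) {F E : AddSubgroup W}
    (hz : ∀ e ∈ F, z • e = e) (ha : ∀ e ∈ F, a • e = e)
    (hsum : ∀ e ∈ F, e + w • e + (a * w * a⁻¹) • e + (a⁻¹ * w * a) • e = 0)
    (hFE : F ≤ E) (hwF : ∀ e ∈ F, w • e ∈ E) (hE : ∀ u ∈ E, a • u ∈ E)
    (hcard : Nat.card E ≤ Nat.card F * Nat.card F) : F = ⊥ := by
  classical
  have h1F : ∀ e ∈ F, (a * w * a⁻¹) • e = a • w • e := fun e he => by
    rw [mul_smul, mul_smul, inv_smul_eq_iff.2 (ha e he).symm]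
  have h2F : ∀ e ∈ F, (a⁻¹ * w * a) • e = a • a • w • e := fun e he => by
    rw [mul_smul, mul_smul, ha e he, ← h.a_sq, mul_smul]
  let f : F × F × F → E := fun q =>
    ⟨((q.1 : W) + w • (q.1 : W)) + ((q.2.1 : W) + a • w • (q.2.1 : W)) + ((q.2.2 : W) + a • a • w • (q.2.2 : W)),
      add_mem (add_mem (add_mem (hFE q.1.2) (hwF _ q.1.2)) (add_mem (hFE q.2.1.2) (hE _ (hwF _ q.2.1.2))))
        (add_mem (hFE q.2.2.2) (hE _ (hE _ (hwF _ q.2.2.2))))⟩
  have key : ∀ e1 ∈ F, ∀ e2 ∈ F, ∀ e3 ∈ F,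
      (e1 + w • e1) + (e2 + (a * w * a⁻¹) • e2) + (e3 + (a⁻¹ * w * a) • e3) = 0 →
      e1 = 0 ∧ e2 = 0 ∧ e3 = 0 := by
    intro e1 he1 e2 he2 e3 he3 h0
    have z1 := hz e1 he1
    have z2 := hz e2 he2
    have z3 := hz e3 he3
    have s1 := hsum e1 he1
    have s2 := hsum e2 he2
    have s3 := hsum e3 he3
    have dbl : ∀ u : W, u + u = 0 → u = 0 := fun u hu => eq_zero_of_double hp2 hW hu
    -- each component vanishes
    have c1 : e1 + w • e1 = 0 := by
      have h1 := congrArg (fun u => u + w • u) h0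
      simp only [smul_add, smul_zero, add_zero, h.s_ww z1, h.s_w1 z2, h.s_w2 z3] at h1
      refine dbl _ ?_
      calc (e1 + w • e1) + (e1 + w • e1)
          = ((e1 + w • e1) + (e2 + (a * w * a⁻¹) • e2) + (e3 + (a⁻¹ * w * a) • e3) +
              (w • e1 + e1 + (w • e2 + (a⁻¹ * w * a) • e2) + (w • e3 + (a * w * a⁻¹) • e3))) -
              (e2 + w • e2 + (a * w * a⁻¹) • e2 + (a⁻¹ * w * a) • e2) -
              (e3 + w • e3 + (a * w * a⁻¹) • e3 + (a⁻¹ * w * a) • e3) := by abel
        _ = 0 := by rw [h1, s2, s3, sub_zero, sub_zero]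
    have c2 : e2 + (a * w * a⁻¹) • e2 = 0 := by
      have h1 := congrArg (fun u => u + (a * w * a⁻¹) • u) h0
      simp only [smul_add, smul_zero, add_zero, h.s_1w z1, h.s_11 z2, h.s_12 z3] at h1
      refine dbl _ ?_
      calc (e2 + (a * w * a⁻¹) • e2) + (e2 + (a * w * a⁻¹) • e2)
          = ((e1 + w • e1) + (e2 + (a * w * a⁻¹) • e2) + (e3 + (a⁻¹ * w * a) • e3) +
              ((a * w * a⁻¹) • e1 + (a⁻¹ * w * a) • e1 + ((a * w * a⁻¹) • e2 + e2) +
                ((a * w * a⁻¹) • e3 + w • e3))) -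
              (e1 + w • e1 + (a * w * a⁻¹) • e1 + (a⁻¹ * w * a) • e1) -
              (e3 + w • e3 + (a * w * a⁻¹) • e3 + (a⁻¹ * w * a) • e3) := by abel
        _ = 0 := by rw [h1, s1, s3, sub_zero, sub_zero]
    have c3 : e3 + (a⁻¹ * w * a) • e3 = 0 := by rwa [c1, c2, zero_add, zero_add] at h0
    -- a vector negated by one of them is negated by all
    have fin : ∀ e ∈ F, w • e = -e → e = 0 := by
      intro e he hw
      have hs := hsum e he
      rw [h1F e he, h2F e he, hw, smul_neg, ha e he, smul_neg, ha e he] at hs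
      refine dbl e ?_
      calc e + e = -(e + -e + -e + -e) := by abel
        _ = 0 := by rw [hs, neg_zero]
    refine ⟨fin e1 he1 (eq_neg_of_add_eq_zero_right c1), fin e2 he2 ?_, fin e3 he3 ?_⟩
    · have hc := eq_neg_of_add_eq_zero_right c2
      rw [h1F e2 he2] at hc
      rw [← inv_smul_smul a (w • e2), hc, smul_neg, inv_smul_eq_iff.2 (ha e2 he2).symm]
    · have hc := eq_neg_of_add_eq_zero_right c3
      rw [mul_smul, mul_smul, ha e3 he3, inv_smul_eq_iff] at hc
      rw [hc, smul_neg, ha e3 he3]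
  have hf : Function.Injective f := by
    rintro ⟨x1, x2, x3⟩ ⟨y1, y2, y3⟩ hxy
    have h' : ((x1 : W) + w • (x1 : W)) + ((x2 : W) + a • w • (x2 : W)) + ((x3 : W) + a • a • w • (x3 : W)) =
        ((y1 : W) + w • (y1 : W)) + ((y2 : W) + a • w • (y2 : W)) + ((y3 : W) + a • a • w • (y3 : W)) :=
      congrArg Subtype.val hxy
    obtain ⟨k1, k2, k3⟩ := key _ (sub_mem x1.2 y1.2) _ (sub_mem x2.2 y2.2) _ (sub_mem x3.2 y3.2) (by
      rw [h1F _ (sub_mem x2.2 y2.2), h2F _ (sub_mem x3.2 y3.2)]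
      simp only [smul_sub]
      rw [← sub_eq_zero] at h'
      rw [← h']
      abel)
    exact Prod.ext (Subtype.ext (sub_eq_zero.1 k1))
      (Prod.ext (Subtype.ext (sub_eq_zero.1 k2)) (Subtype.ext (sub_eq_zero.1 k3)))
  have hle := (Nat.card_le_card_of_injective f hf).trans hcard
  rw [Nat.card_prod, Nat.card_prod, ← mul_assoc] at hle
  have h1 : Nat.card F ≤ 1 := Nat.le_of_mul_le_mul_left (by rwa [mul_one])
    (Nat.mul_pos (Nat.card_pos (α := F)) (Nat.card_pos (α := F)))
  exact AddSubgroup.eq_bot_of_card_eq F (le_antisymm h1 Nat.card_pos)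

end odd

end Quat

end Cfsg.Agent.T3
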