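/-
The case of abelian minimal centrally large subgroups: a quaternion element normalises `R`.
-/
import Cfsg.Agent.Lib.Transfer3.QMod
import Cfsg.Agent.Lib.Transfer3.Large
import Cfsg.Agent.Lib.Transfer3.Quat

set_option autoImplicit false
set_option linter.unusedSectionVars false
set_option linter.style.haveILetI false

namespace Cfsg.Agent.T3

open Cfsg Cfsg.Agent.FFEmb
open scoped commutatorElement

universe u

/-- A fixed class between two invariant subgroups. -/
theorem exists_fixed_between {H : Type*} [Group H] [Finite H] {W : Type*} [AddCommGroup W] [DistribMulAction H W]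
    {p : ℕ} [Fact p.Prime] [Finite W] (hpp : ∀ v : W, ∃ k : ℕ, p ^ k • v = 0) {P : Subgroup H} (hP : IsPGroup p P)
    {B Γ : AddSubgroup W} (hB : ∀ a ∈ P, ∀ v ∈ B, a • v ∈ B) (hΓ : ∀ a ∈ P, ∀ v ∈ Γ, a • v ∈ Γ)
    (hne : ¬ Γ ≤ B) : ∃ v ∈ Γ, v ∉ B ∧ ∀ a ∈ P, a • v - v ∈ B := by
  letI : DistribMulAction P Γ :=
    { smul := fun a v => ⟨(a : H) • (v : W), hΓ a a.2 v v.2⟩
      one_smul := fun v => Subtype.ext (one_smul H (v : W))
      mul_smul := fun a b v => Subtype.ext (mul_smul (a : H) (b : H) (v : W))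
      smul_zero := fun a => Subtype.ext (smul_zero (a : H))
      smul_add := fun a v v' => Subtype.ext (smul_add (a : H) (v : W) (v' : W)) }
  obtain ⟨v, hv, hv'⟩ := exists_fixed_mod (H := P) (V := Γ) (p := p) (P := ⊤)
    (fun v => by obtain ⟨k, hk⟩ := hpp v; exact ⟨k, Subtype.ext hk⟩) (hP.of_equiv Subgroup.topEquiv.symm)
    (W := B.addSubgroupOf Γ) (fun a _ v hv => hB a a.2 v hv) fun h => hne fun w hw => by
      have : (⟨w, hw⟩ : Γ) ∈ B.addSubgroupOf Γ := h ▸ AddSubgroup.mem_top _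
      exact this
  exact ⟨v, v.2, hv, fun a ha => hv' ⟨a, ha⟩ trivial⟩

variable {G : Type u} [Group G] [Finite G] {p : ℕ} [hp : Fact p.Prime] {S : Sylow p G} {R : Subgroup G}

theorem Cex.core_false [Abel S] [CoreCent S] (cx : Cex p S R) (hp3 : p = 3)
    (hab : AbMcl ↥(s2 (S : Subgroup G))) (hJ : ¬ js (S : Subgroup G) ≤ pCore p G) : False := by
  classical
  have hp2 : p ≠ 2 := by omega
  have hppV := cx.sit.ppow
  have hpp : ∀ v : Additive (QQ S), ∃ k : ℕ, p ^ k • v = 0 := qq_ppow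
  -- the pair
  obtain ⟨A₀, -, B, hBdel, -⟩ := cx.exists_img hp2 hJ
  obtain ⟨g, hbase, hex⟩ := cx.sit.exists_base cx.gen hp2 (B := B) (by rw [coe_sb]; exact hBdel)
  obtain ⟨X, hX⟩ := hbase.exists_ex hbase.pt_g
  obtain ⟨L, t, z, hLU, -, hk, hfL, -⟩ :=
    (hbase.opp hbase.pt_one hbase.pt_g (by simpa using hbase.g_not) hex hX).kit
  rw [FFEmb.conjS_one] at hk
  set Mb := (Subgroup.normalizer (R : Set G)).map (hb S) with hMb
  have hBmin : IsMin p (Additive (vc S)) B := hBdel.1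
  have hLC : ∀ C ∈ com (IsMin p (Additive (vc S))) (sb S) 1 g, ∀ l ∈ L, ∀ c ∈ C, c * l = l * c := by
    intro C hC l hl c hc
    have hle : L ≤ Subgroup.centralizer (C : Set (Hb S)) := hLU.trans (sup_le
      (cmt_iff.1 (hbase.cmt_ex hbase.pt_one hex hC).symm) (cmt_iff.1 (hbase.cmt_ex hbase.pt_g hX hC).symm))
    exact hle hl c hc
  have htB : t ∈ Subgroup.normalizer (B : Set (Hb S)) := mem_normalizer_of_conjS
    (Subgroup.eq_of_le_of_card_ge (by rintro _ ⟨a, ha, rfl⟩; exact hk.tA a ha) (by rw [FFEmb.card_conjS]))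
  have htk : ∀ k ∈ Subgroup.zpowers t, ∀ b ∈ B, k * b * k⁻¹ ∈ B := fun k hk' b hb' =>
    (Subgroup.mem_normalizer_iff.1 ((Subgroup.zpowers_le.2 htB) hk') b).1 hb'
  have htM : t ∈ Mb := by
    refine cx.sit.normalizer_sSup_le cx.gen hp2 ⟨B, by rw [coe_sb]; exact hBdel⟩ ?_
    refine mem_normalizer_of_conjS (Subgroup.eq_of_le_of_card_ge ?_ (by rw [FFEmb.card_conjS]))
    rw [conjS_le_iff, sSup_le_iff]
    intro C hC
    refine conjS_le_iff.1 (?_ : FFEmb.conjS t C ≤ _)
    rw [hbase.del_eq hex] at hC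
    rcases hC with rfl | hC
    · rw [conjS_of_mem_normalizer htB]
      exact le_sSup (by rw [coe_sb]; exact hBdel)
    · rw [conjS_cmt fun c hc => hLC C hC t hk.tL c hc]
      exact le_sSup (show C ∈ Del p (Additive (vc S)) (sb S : Subgroup (Hb S)) from hbase.mem_com hC)
  have hzM : z ∈ Mb := (Subgroup.zpowers_le.2 htM) hk.zt
  have hBM : B ≤ Mb := hBdel.2.trans (Subgroup.map_mono cx.SM)
  have hzL : z ∈ L := (Subgroup.zpowers_le.2 hk.tL) hk.zt
  have hz2 : z * z = 1 := by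
    refine cx.sit.faith _ fun v => ?_
    obtain ⟨n, hn, f, hf, rfl⟩ := hk.pair.decomp v
    rw [mul_smul, smul_add, hk.neg n hn, hf z hzL, smul_add, smul_neg, hk.neg n hn, neg_neg, hf z hzL]
  -- displacements by `M` lie in the image of `R`
  have hk0R : k0 S ≤ R := (Subgroup.commutator_mono le_rfl cx.cV_le).trans cx.comm
  set Rb := qimg S R with hRb
  have hmove : ∀ f ∈ Mb, ∀ x : Additive (QQ S), f • x - x ∈ Rb := by
    rintro _ ⟨m, hm, rfl⟩ x
    obtain ⟨x, hx, rfl⟩ := qv_surj x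
    have hmem : m * x * m⁻¹ * x⁻¹ ∈ R := by
      have h1 : ⁅m, x⁆ ∈ ⁅Subgroup.normalizer (R : Set G), pCore p G⁆ := Subgroup.commutator_mem_commutator hm hx
      rw [Subgroup.commutator_comm] at h1
      rw [← commutatorElement_def]
      exact cx.comm h1
    rw [hb_smul_qv, sub_eq_add_neg, ← qv_inv hx, ← qv_mul]
    exact qv_mem_qimg _ hmem
  -- a reduced abelian subgroup
  obtain ⟨A, hA, hAB⟩ := cx.reduced hp2 hJ hBdel
  have hAlift : ∀ b ∈ B, ∃ a ∈ A, hb S a = b := fun b hb' => by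
    rw [← hAB] at hb'; exact hb'
  set Bh := AddSubgroup.closure {v : Additive (QQ S) | ∃ k ∈ Subgroup.zpowers t,
    ∃ (q : G) (hq : q ∈ pCore p G), q ∈ A ∧ v = k • qv (S := S) hq} with hBh
  have hBt : ∀ k ∈ Subgroup.zpowers t, ∀ v ∈ Bh, k • v ∈ Bh := by
    intro k hk' v hv
    induction hv using AddSubgroup.closure_induction with
    | mem u hu =>
      obtain ⟨j, hj, q, hq, hqA, rfl⟩ := hu
      exact AddSubgroup.subset_closure ⟨k * j, mul_mem hk' hj, q, hq, hqA, (mul_smul k j _).symm⟩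
    | zero => rw [smul_zero]; exact zero_mem _
    | add x y _ _ hx hy => rw [smul_add]; exact add_mem hx hy
    | neg x _ hx => rw [smul_neg]; exact neg_mem hx
  have hBfix : ∀ b ∈ B, ∀ v ∈ Bh, b • v = v := by
    intro b hb' v hv
    induction hv using AddSubgroup.closure_induction with
    | mem u hu =>
      obtain ⟨j, hj, q, hq, hqA, rfl⟩ := hu
      have h1 : j⁻¹ * b * j ∈ B := by simpa using htk j⁻¹ (inv_mem hj) b hb'
      obtain ⟨a, ha, hae⟩ := hAlift _ h1
      have h2 : (j⁻¹ * b * j) • qv (S := S) hq = qv (S := S) hq := by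
        rw [← hae]; exact smul_eq_of_commute hq (hA.cmt a ha q hqA)
      calc b • j • qv (S := S) hq = j • ((j⁻¹ * b * j) • qv (S := S) hq) := by
            rw [← mul_smul, ← mul_smul, mul_assoc j⁻¹, mul_inv_cancel_left]
        _ = j • qv (S := S) hq := by rw [h2]
    | zero => rw [smul_zero]
    | add x y _ _ hx hy => rw [smul_add, hx, hy]
    | neg x _ hx => rw [smul_neg, hx]
  -- every vector is nearly killed by the square of some `b - 1`
  have hsq : ∀ x : Additive (QQ S), ∃ b ∈ B, b ≠ 1 ∧ b • (b • x - x) - (b • x - x) ∈ Bh := by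
    intro x
    by_cases hall : ∀ b ∈ B, b • x - x ∈ Bh
    · obtain ⟨b, hb', hb1⟩ := (Subgroup.bot_or_exists_ne_one B).resolve_left hBmin.ne
      refine ⟨b, hb', hb1, ?_⟩
      rw [hBfix b hb' _ (hall b hb'), sub_self]
      exact zero_mem _
    obtain ⟨x₀, hx₀, rfl⟩ := qv_surj x
    have hA' : MA (S : Subgroup G) (FFEmb.conjS x₀ A) := by
      have := hA.conj x₀
      rwa [conjS_of_mem (cx.Q_le hx₀)] at this
    set Y := A ⊔ FFEmb.conjS x₀ A with hY
    have hc1 : ∀ a ∈ A, a * x₀ * a⁻¹ * x₀⁻¹ ∈ Y := by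
      intro a ha
      have h1 : x₀ * a⁻¹ * x₀⁻¹ ∈ FFEmb.conjS x₀ A := ⟨a⁻¹, inv_mem ha, rfl⟩
      have h2 := mul_mem (Subgroup.mem_sup_left ha : a ∈ Y) (Subgroup.mem_sup_right h1)
      simpa [mul_assoc] using h2
    have hcQ : ∀ a : G, a * x₀ * a⁻¹ * x₀⁻¹ ∈ pCore p G := fun a =>
      mul_mem (Subgroup.Normal.conj_mem inferInstance x₀ hx₀ a) (inv_mem hx₀)
    have hval : ∀ a : G, hb S a • qv (S := S) hx₀ - qv (S := S) hx₀ = qv (S := S) (hcQ a) := fun a => by
      rw [hb_smul_qv, sub_eq_add_neg, ← qv_inv hx₀, ← qv_mul]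
    set Γ := qimg S Y ⊔ Bh with hΓ
    have hin : ∀ b ∈ B, b • qv (S := S) hx₀ - qv (S := S) hx₀ ∈ Γ := fun b hb' => by
      obtain ⟨a, ha, rfl⟩ := hAlift b hb'
      rw [hval]
      exact AddSubgroup.mem_sup_left (qv_mem_qimg _ (hc1 a ha))
    have hchar : ∀ v ∈ qimg S Y, ∃ b ∈ B, v - (b • qv (S := S) hx₀ - qv (S := S) hx₀) ∈ Bh := by
      rintro _ ⟨y, hyQ, hyY, rfl⟩
      obtain ⟨a, ha, a', ha', rfl⟩ := hA.exists_prod hab hA' hyY
      rw [FFEmb.mem_conjS] at ha'
      refine ⟨hb S a, hAB ▸ Subgroup.mem_map_of_mem _ ha, ?_⟩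
      have hone : hb S (a * (x₀⁻¹ * a' * x₀)) = 1 := by
        have h1 : hb S x₀ = 1 := hb_eq_one_iff.2 (cx.Q_le_cV hx₀)
        have h2 : hb S (a * a') = 1 := hb_eq_one_iff.2 (cx.Q_le_cV hyQ)
        simp only [map_mul, map_inv, h1, inv_one, one_mul, mul_one] at h2 ⊢
        exact h2
      have hqA : a * (x₀⁻¹ * a' * x₀) ∈ A := mul_mem ha ha'
      have hqQ : a * (x₀⁻¹ * a' * x₀) ∈ pCore p G := cx.mem_core (hA.le hqA) (hb_eq_one_iff.1 hone)
      have hcj := Subgroup.Normal.conj_mem (inferInstance : (pCore p G).Normal) _ hqQ x₀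
      rw [hval, qv_congr (y := (a * x₀ * a⁻¹ * x₀⁻¹) * (x₀ * (a * (x₀⁻¹ * a' * x₀)) * x₀⁻¹)) (by group)
        (mul_mem (hcQ a) hcj), qv_mul (hcQ a) hcj, add_sub_cancel_left, qv_conj_core hx₀ hqQ]
      exact AddSubgroup.subset_closure ⟨1, one_mem _, _, hqQ, hqA, (one_smul _ _).symm⟩
    have hmem : ∀ v ∈ Γ, ∃ b ∈ B, v - (b • qv (S := S) hx₀ - qv (S := S) hx₀) ∈ Bh := by
      intro v hv
      obtain ⟨u, hu, w, hw, rfl⟩ := AddSubgroup.mem_sup.1 hv
      obtain ⟨b, hb', hb''⟩ := hchar u hu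
      refine ⟨b, hb', ?_⟩
      rw [add_sub_right_comm]
      exact add_mem hb'' hw
    have hinv : ∀ a ∈ B, ∀ v ∈ Γ, a • v ∈ Γ := by
      intro a ha v hv
      obtain ⟨b, hb', hd⟩ := hmem v hv
      have e : a • v = (v - (b • qv (S := S) hx₀ - qv (S := S) hx₀)) +
          (((a * b) • qv (S := S) hx₀ - qv (S := S) hx₀) - (a • qv (S := S) hx₀ - qv (S := S) hx₀)) := by
        have h1 := hBfix a ha _ hd
        rw [smul_sub, smul_sub, ← mul_smul, sub_eq_iff_eq_add] at h1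
        rw [h1]
        abel
      rw [e]
      exact add_mem (AddSubgroup.mem_sup_right hd) (sub_mem (hin _ (mul_mem ha hb')) (hin a ha))
    have hne : ¬ Γ ≤ Bh := fun h => hall fun b hb' => h (hin b hb')
    obtain ⟨v, hvΓ, hvB, hv'⟩ := exists_fixed_between (p := p) hpp (hBmin.pg)
      (fun a ha w hw => by rw [hBfix a ha w hw]; exact hw) hinv hne
    obtain ⟨b, hb', hd⟩ := hmem v hvΓ
    refine ⟨b, hb', fun h1 => hvB ?_, ?_⟩
    · rwa [h1, one_smul, sub_self, sub_zero] at hd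
    · have h1 := hv' b hb'
      have h2 := hBfix b hb' _ hd
      rw [smul_sub, sub_eq_sub_iff_sub_eq_sub] at h2
      rwa [← h2]
  -- the vectors fixed by `t`
  obtain ⟨a₁, ha₁, ha₁1⟩ := (Subgroup.bot_or_exists_ne_one B).resolve_left hBmin.ne
  let FX : AddSubgroup (Additive (QQ S)) :=
    { carrier := {x | t • x = x}
      zero_mem' := smul_zero t
      add_mem' := fun {x y} hx hy => by
        show t • (x + y) = x + y
        rw [smul_add, (hx : t • x = x), (hy : t • y = y)]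
      neg_mem' := fun {x} hx => by
        show t • (-x) = -x
        rw [smul_neg, (hx : t • x = x)] }
  have hfixk : ∀ k ∈ Subgroup.zpowers t, ∀ x ∈ FX, k • x = x := fun k hk' x hx => by
    have hle : Subgroup.zpowers t ≤ MulAction.stabilizer (Hb S) x := Subgroup.zpowers_le.2 hx
    exact hle hk'
  let SQ : Hb S → AddSubgroup (Additive (QQ S)) := fun b =>
    { carrier := {x | b • (b • x - x) - (b • x - x) ∈ Bh}
      zero_mem' := by
        show b • (b • (0 : Additive (QQ S)) - 0) - (b • (0 : Additive (QQ S)) - 0) ∈ Bh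
        simp only [smul_zero, sub_self]; exact zero_mem _
      add_mem' := fun {x y} hx hy => by
        show b • (b • (x + y) - (x + y)) - (b • (x + y) - (x + y)) ∈ Bh
        have hx' : b • (b • x - x) - (b • x - x) ∈ Bh := hx
        have hy' : b • (b • y - y) - (b • y - y) ∈ Bh := hy
        convert add_mem hx' hy' using 1
        simp only [smul_add, smul_sub]; abel
      neg_mem' := fun {x} hx => by
        show b • (b • (-x) - -x) - (b • (-x) - -x) ∈ Bh
        have hx' : b • (b • x - x) - (b • x - x) ∈ Bh := hx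
        convert neg_mem hx' using 1
        simp only [smul_neg, smul_sub]; abel }
  have hmove' : ∀ k ∈ Subgroup.zpowers t, ∀ b : Hb S, ∀ x ∈ FX, x ∈ SQ (k * b * k⁻¹) → x ∈ SQ b := by
    intro k hk' b x hx h
    have h0 : (k * b * k⁻¹) • ((k * b * k⁻¹) • x - x) - ((k * b * k⁻¹) • x - x) ∈ Bh := h
    have h1 := hBt k⁻¹ (inv_mem hk') _ h0
    have e1 : (k * b * k⁻¹) • x = k • (b • x) := by rw [mul_smul, mul_smul, hfixk _ (inv_mem hk') x hx]
    rw [e1, show k • (b • x) - x = k • (b • x - x) by rw [smul_sub, hfixk k hk' x hx], ← mul_smul,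
      inv_mul_cancel_right, mul_smul, ← smul_sub, inv_smul_smul] at h1
    exact h1
  obtain ⟨a, haB, ha1, hasq⟩ : ∃ a ∈ B, a ≠ 1 ∧ FX ≤ SQ a := by
    by_cases hone : ∀ b ∈ B, b ≠ 1 → ∃ k ∈ Subgroup.zpowers t, k * a₁ * k⁻¹ = b
    · refine ⟨a₁, ha₁, ha₁1, fun x hx => ?_⟩
      obtain ⟨b, hb', hb1, hbx⟩ := hsq x
      obtain ⟨k, hk', rfl⟩ := hone b hb' hb1
      exact hmove' k hk' a₁ x hx hbx
    push Not at hone
    obtain ⟨a₂, ha₂, ha₂1, ha12⟩ := hone
    have hcls : ∀ x ∈ FX, x ∈ SQ a₁ ∨ x ∈ SQ a₂ := by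
      intro x hx
      obtain ⟨b, hb', hb1, hbx⟩ := hsq x
      obtain ⟨n, hn | hn | hn⟩ := hk.orb a₁ ha₁ a₂ ha₂ b hb' ha₁1 ha₂1 hb1
      · exact absurd hn (ha12 _ ⟨n, rfl⟩)
      · exact Or.inl (hmove' _ ⟨n, rfl⟩ a₁ x hx (hn ▸ hbx))
      · exact Or.inr (hmove' _ ⟨n, rfl⟩ a₂ x hx (hn ▸ hbx))
    by_contra hc
    have h1 : ¬ FX ≤ SQ a₁ := fun h => hc ⟨a₁, ha₁, ha₁1, h⟩
    have h2 : ¬ FX ≤ SQ a₂ := fun h => hc ⟨a₂, ha₂, ha₂1, h⟩
    obtain ⟨x, hx, hx'⟩ := SetLike.not_le_iff_exists.1 h1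
    obtain ⟨y, hy, hy'⟩ := SetLike.not_le_iff_exists.1 h2
    have hx2 := (hcls x hx).resolve_left hx'
    have hy1 := (hcls y hy).resolve_right hy'
    rcases hcls (x + y) (add_mem hx hy) with h | h
    · exact hx' (by simpa using sub_mem h hy1)
    · exact hy' (by simpa using sub_mem h hx2)
  -- the quaternion element
  obtain ⟨w, hw⟩ := hk.weyl hp3 a haB ha1
  have hq := hw.quat
  set P := pim (Additive (QQ S)) a w with hP
  have hzP := hq.smul_z_pim (W := Additive (QQ S))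
  let ST : Additive (QQ S) →+ Additive (QQ S) := AddMonoidHom.mk' (fun x => P (x + z • x)) fun x y => by
    show P (x + y + z • (x + y)) = P (x + z • x) + P (y + z • y)
    rw [← map_add, smul_add, add_add_add_comm]
  have hST : ∀ x, ST x = P (x + z • x) := fun _ => rfl
  have hσz : ∀ x : Additive (QQ S), z • (x + z • x) = x + z • x := fun x => by
    rw [smul_add, ← mul_smul, hz2, one_smul, add_comm]
  have hSTz : ∀ x, z • ST x = ST x := fun x => by rw [hST, hzP, hσz]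
  have hSTa : ∀ x, a • ST x = ST (a • x) := fun x => by
    rw [hST, hST, hq.smul_pim, smul_add, ← mul_smul, ← mul_smul, ← hq.za]
  have hSTw : ∀ x, w • ST x = ST (w • x) := fun x => by
    rw [hST, hST, hq.smul_w_pim (hσz x), smul_add, ← mul_smul, ← mul_smul, ← hq.zw]
  -- it kills the image of `V`
  have hSTV : ∀ (v : G) (hv : v ∈ vc S), ST (qv (S := S) (cx.vc_le hv)) = 0 := by
    intro v hv
    let ι : Additive (vc S) →+ Additive (QQ S) :=
      AddMonoidHom.mk' (fun v => qv (S := S) (cx.vc_le (vg_mem v))) fun x y => rfl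
    have hι : ∀ (f : Hb S) (x : Additive (vc S)), ι (f • x) = f • ι x := by
      intro f x
      obtain ⟨e, rfl⟩ := hb_surj S f
      show qv (S := S) _ = hb S e • qv (S := S) _
      rw [hb_smul_qv]
      exact qv_congr (vg_smul e x) _
    have hfix : ∀ l ∈ L, l • (vv (S := S) hv + z • vv (S := S) hv) = vv (S := S) hv + z • vv (S := S) hv := by
      intro l hl
      obtain ⟨n, hn, f, hf, he⟩ := hk.pair.decomp (vv (S := S) hv)
      rw [← he, smul_add z n f, hk.neg n hn, hf z hzL, show n + f + (-n + f) = f + f by abel, smul_add, hf l hl]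
    show P (ι (vv hv) + z • ι (vv hv)) = 0
    rw [← hι, ← map_add]
    have hl : ∀ l ∈ L, l • ι (vv (S := S) hv + z • vv hv) = ι (vv (S := S) hv + z • vv hv) := fun l hl => by
      rw [← hι, hfix l hl]
    have haL : a ∈ L := hk.pair.le haB
    rw [hP, pim_apply, hl w hw.mem, hl _ (mul_mem (mul_mem haL hw.mem) (inv_mem haL)),
      hl _ (mul_mem (mul_mem (inv_mem haL) hw.mem) haL)]
    abel
  obtain ⟨wl, hwl⟩ := hb_surj S w
  -- it kills `B̂`
  have hkill : ∀ x ∈ Bh, ST x = 0 := by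
    suffices hgen : ∀ k ∈ Subgroup.zpowers t, ∀ (q : G) (hq : q ∈ pCore p G), q ∈ A →
        ST (k • qv (S := S) hq) = 0 by
      intro x hx
      induction hx using AddSubgroup.closure_induction with
      | mem u hu => obtain ⟨k, hk', q, hq', hqA, rfl⟩ := hu; exact hgen k hk' q hq' hqA
      | zero => exact map_zero ST
      | add x y _ _ hx hy => rw [map_add, hx, hy, add_zero]
      | neg x _ hx => rw [map_neg, hx, neg_zero]
    intro k hk' q₀ hq₀ hq₀A
    obtain ⟨kl, hkl⟩ := hb_surj S k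
    set A' := FFEmb.conjS kl A with hA'
    have hA'B : A'.map (hb S) = B := by
      rw [hA', FFEmb.conjS, Subgroup.map_map]
      have e : (hb S).comp (MulAut.conj kl).toMonoidHom = (MulAut.conj k).toMonoidHom.comp (hb S) := by
        ext x : 1
        simp [← hkl]
      rw [e, ← Subgroup.map_map, hAB]
      exact conjS_of_mem_normalizer ((Subgroup.zpowers_le.2 htB) hk')
    have hA'c : Cmt A' A' := by
      rintro _ ⟨x, hx, rfl⟩ _ ⟨y, hy, rfl⟩
      rw [← map_mul, ← map_mul, hA.cmt x hx y hy]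
    set B₀ := A' ⊓ pCore p G ⊔ vc S with hB₀
    have hB₀Q : B₀ ≤ pCore p G := sup_le inf_le_right cx.vc_le
    obtain ⟨hcore, -⟩ := cx.core_ma hp2 hA
    have hQn : ∀ e : G, FFEmb.conjS e (pCore p G) = pCore p G := fun e =>
      conjS_of_mem_normalizer (by rw [Subgroup.normalizer_eq_top]; trivial)
    have hB₀eq : B₀ = FFEmb.conjS kl (A ⊓ pCore p G ⊔ vc S) := by
      haveI := vc_normal S
      rw [conjS_sup, conjS_of_mem_normalizer (k := kl) (A := vc S) (by rw [Subgroup.normalizer_eq_top]; trivial),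
        FFEmb.conjS, Subgroup.map_inf _ _ _ (MulAut.conj kl).injective]
      change _ = FFEmb.conjS kl A ⊓ FFEmb.conjS kl (pCore p G) ⊔ vc S
      rw [hQn]
    have hB₀c : Cmt B₀ B₀ := by
      rw [hB₀eq]
      rintro _ ⟨x, hx, rfl⟩ _ ⟨y, hy, rfl⟩
      rw [← map_mul, ← map_mul, hcore.cmt x hx y hy]
    have hMB : MA (S : Subgroup G) B₀ :=
      hcore.of_card (hB₀Q.trans cx.Q_le) hB₀c (by rw [hB₀eq, FFEmb.card_conjS])
    set B₁ := FFEmb.conjS wl B₀ with hB₁
    have hB₁Q : B₁ ≤ pCore p G := (conjS_mono hB₀Q).trans (hQn wl).le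
    have hB₁c : Cmt B₁ B₁ := by
      rintro _ ⟨x, hx, rfl⟩ _ ⟨y, hy, rfl⟩
      rw [← map_mul, ← map_mul, hB₀c x hx y hy]
    have hMB₁ : MA (S : Subgroup G) B₁ :=
      hMB.of_card (hB₁Q.trans cx.Q_le) hB₁c (by rw [hB₁, FFEmb.card_conjS])
    obtain ⟨α, hα, hαe⟩ : ∃ α ∈ A', hb S α = a := by
      have h1 := haB
      rw [← hA'B] at h1
      exact h1
    set F := (qimg S B₀).map ST with hF
    set E := (qimg S (B₀ ⊔ B₁)).map ST with hE
    have hFa : ∀ e ∈ F, a • e = e := by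
      rintro _ ⟨_, ⟨y, hyQ, hy, rfl⟩, rfl⟩
      rw [hSTa]
      haveI := vc_normal S
      rw [hB₀, ← SetLike.mem_coe, Subgroup.mul_normal] at hy
      obtain ⟨a', ha', v, hv, rfl⟩ := hy
      show ST (a • qv (S := S) hyQ) = ST (qv (S := S) hyQ)
      rw [qv_congr (hx := hyQ) rfl (mul_mem ha'.2 (cx.vc_le hv)), qv_mul ha'.2 (cx.vc_le hv), smul_add, map_add,
        map_add, ← hαe, smul_eq_of_commute ha'.2 (hA'c α hα a' ha'.1), hαe, ← hSTa, hSTV v hv, smul_zero]
    have hFw : ∀ e ∈ F, w • e ∈ E := by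
      rintro _ ⟨_, ⟨y, hyQ, hy, rfl⟩, rfl⟩
      rw [hSTw, ← hwl, hb_smul_qv]
      exact AddSubgroup.mem_map_of_mem _ (qv_mem_qimg _ (Subgroup.mem_sup_right ⟨y, hy, rfl⟩))
    have hEa : ∀ u ∈ E, a • u ∈ E := by
      rintro _ ⟨_, ⟨y, hyQ, hy, rfl⟩, rfl⟩
      rw [hSTa, ← hαe, hb_smul_qv]
      refine AddSubgroup.mem_map_of_mem _ (qv_mem_qimg _ ?_)
      -- `α` normalises the intersection
      have hI : ∀ i ∈ B₀ ⊓ B₁, α⁻¹ * i * α ∈ B₀ ⊓ B₁ := by
        intro i hi
        have h1 : i ∈ A' ⊓ pCore p G ⊔ vc S := hi.1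
        haveI := vc_normal S
        rw [← SetLike.mem_coe, Subgroup.mul_normal] at h1
        obtain ⟨a', ha', v, hv, rfl⟩ := h1
        have hVI : vc S ≤ B₀ ⊓ B₁ := by
          refine le_inf le_sup_right ?_
          have := conjS_mono (k := wl) (le_sup_right : vc S ≤ B₀)
          rwa [conjS_of_mem_normalizer (k := wl) (A := vc S) (by rw [Subgroup.normalizer_eq_top]; trivial)] at this
        have ha'' : a' ∈ B₀ ⊓ B₁ := by
          have h2 : a' * v ∈ B₀ ⊓ B₁ := hi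
          simpa using mul_mem h2 (inv_mem (hVI hv))
        have hcv : α⁻¹ * v * α ∈ vc S := by simpa using (vc_normal S).conj_mem v hv α⁻¹
        have e : α⁻¹ * (a' * v) * α = a' * (α⁻¹ * v * α) := by
          have h3 : α⁻¹ * a' = a' * α⁻¹ := hA'c _ (inv_mem hα) a' ha'.1
          rw [← mul_assoc α⁻¹, h3]
          group
        show α⁻¹ * (a' * v) * α ∈ B₀ ⊓ B₁
        rw [e]
        exact mul_mem ha'' (hVI hcv)
      have hQ2 := cx.q2_normal hp2 hJ
      have hy2 : y ∈ pCore p G ⊓ Subgroup.centralizer (zj (S : Subgroup G) : Set G) :=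
        ⟨hyQ, ((sup_le hMB.le_s2 hMB₁.le_s2 : B₀ ⊔ B₁ ≤ _) hy).2⟩
      have hc2 := hQ2.conj_mem y hy2 α
      refine hMB.mem_sup_of_inf hab hMB₁ ⟨cx.Q_le hc2.1, hc2.2⟩ fun i hi => ?_
      have hyc : (α⁻¹ * i * α) * y = y * (α⁻¹ * i * α) := by
        have hle : B₀ ⊔ B₁ ≤ Subgroup.centralizer ((B₀ ⊓ B₁ : Subgroup G) : Set G) :=
          sup_le (fun b hb' j hj => hB₀c j hj.1 b hb') fun b hb' j hj => hB₁c j hj.2 b hb'
        exact hle hy _ (hI i hi)
      calc i * (α * y * α⁻¹) = α * ((α⁻¹ * i * α) * y) * α⁻¹ := by group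
        _ = α * (y * (α⁻¹ * i * α)) * α⁻¹ := by rw [hyc]
        _ = _ := by group
    have hcard : Nat.card E ≤ Nat.card F * Nat.card F := by
      let wh : Additive (QQ S) →+ Additive (QQ S) := DistribSMul.toAddMonoidHom _ w
      have hle : E ≤ F ⊔ F.map wh := by
        rintro _ ⟨_, ⟨y, hyQ, hy, rfl⟩, rfl⟩
        obtain ⟨b₀, hb₀, b₁, hb₁, rfl⟩ := hMB.exists_prod hab hMB₁ hy
        rw [FFEmb.mem_conjS] at hb₁
        rw [qv_congr (hx := hyQ) (y := b₀ * (wl * (wl⁻¹ * b₁ * wl) * wl⁻¹)) (by group)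
          (mul_mem (hB₀Q hb₀) (Subgroup.Normal.conj_mem inferInstance _ (hB₀Q hb₁) wl)),
          qv_mul (hB₀Q hb₀) (Subgroup.Normal.conj_mem inferInstance _ (hB₀Q hb₁) wl), ← hb_smul_qv wl (hB₀Q hb₁), hwl, map_add,
          ← hSTw]
        exact AddSubgroup.add_mem_sup (AddSubgroup.mem_map_of_mem _ (qv_mem_qimg _ hb₀))
          (AddSubgroup.mem_map_of_mem wh (AddSubgroup.mem_map_of_mem _ (qv_mem_qimg _ hb₁)))
      refine (Nat.card_le_card_of_injective (Set.inclusion hle) (Set.inclusion_injective _)).trans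
        ((card_addSup_le _ _).trans (Nat.mul_le_mul_left _ (le_of_eq ?_)))
      exact (Nat.card_congr (F.equivMapOfInjective wh (MulAction.injective w)).toEquiv).symm
    have hF0 := hq.vanish hp2 hpp (F := F) (E := E) (by rintro _ ⟨u, -, rfl⟩; exact hSTz u) hFa
      (by rintro _ ⟨u, -, rfl⟩; rw [hST]; exact hq.pim_total (hσz u))
      (AddSubgroup.map_mono fun u ⟨y, hyQ, hy, he⟩ => ⟨y, hyQ, Subgroup.mem_sup_left hy, he⟩) hFw hEa hcard
    have hq₁ : kl * q₀ * kl⁻¹ ∈ pCore p G := Subgroup.Normal.conj_mem inferInstance q₀ hq₀ kl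
    have hmemF : ST (k • qv (S := S) hq₀) ∈ F := by
      rw [← hkl, hb_smul_qv]
      exact AddSubgroup.mem_map_of_mem _ (qv_mem_qimg _ (Subgroup.mem_sup_left ⟨⟨q₀, hq₀A, rfl⟩, hq₁⟩))
    rwa [hF0, AddSubgroup.mem_bot] at hmemF
  -- the quaternion element moves every vector fixed by `t` inside the image of `R`
  have hz' : ∀ x ∈ FX, z • x = x := hfixk z hk.zt
  have hd : ∀ x ∈ FX, a • (a • P x - P x) = a • P x - P x := by
    intro x hx
    have hu : a • (a • x - x) - (a • x - x) ∈ Bh := hasq hx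
    have h1 := hkill _ hu
    have hzu : z • (a • (a • x - x) - (a • x - x)) = a • (a • x - x) - (a • x - x) := by
      have e : ∀ v : Additive (QQ S), z • a • v = a • z • v := fun v => by rw [← mul_smul, ← mul_smul, hq.za]
      simp only [smul_sub, e, hz' x hx]
    rw [hST, hzu, map_add] at h1
    have h2 := eq_zero_of_double hp2 hpp h1
    rw [map_sub, ← hq.smul_pim, map_sub, ← hq.smul_pim, sub_eq_zero] at h2
    exact h2
  have hwfix : ∀ x ∈ FX, w • x ∈ FX := by
    intro x hx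
    show t • w • x = w • x
    have h1 := hw.conj_t
    have h2 : t * w = w * t⁻¹ := by
      have h3 : w * t = t⁻¹ * w := mul_inv_eq_iff_eq_mul.1 h1
      calc t * w = t * (w * t) * t⁻¹ := by group
        _ = t * (t⁻¹ * w) * t⁻¹ := by rw [h3]
        _ = w * t⁻¹ := by group
    rw [← mul_smul, h2, mul_smul, hfixk _ (inv_mem (Subgroup.mem_zpowers t)) x hx]
  have hfin : ∀ x ∈ FX, x - w • x ∈ Rb := fun x hx =>
    hq.moved hp2 hpp (hmove a (hBM haB)) (hz' x hx) (hd x hx) (hd _ (hwfix x hx))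
  -- so it fixes the image of `R`
  have hwR : ∀ r ∈ Rb, w • r ∈ Rb := by
    intro r hr
    have hn : t ^ orderOf t = 1 := pow_orderOf_eq_one t
    set n := orderOf t with hn'
    set r₀ := ∑ i ∈ Finset.range n, t ^ i • r with hr₀
    have hr₀F : r₀ ∈ FX := by
      show t • r₀ = r₀
      have h1 : t • r₀ - r₀ = 0 := by
        rw [hr₀, Finset.smul_sum, ← Finset.sum_sub_distrib]
        have e : ∀ i, t • t ^ i • r - t ^ i • r = t ^ (i + 1) • r - t ^ i • r := fun i => by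
          rw [← mul_smul, ← pow_succ']
        simp only [e]
        rw [Finset.sum_range_sub (fun i => t ^ i • r), hn, pow_zero, sub_self]
      exact sub_eq_zero.1 h1
    have hzp : ∀ i : ℕ, t ^ i ∈ Mb := fun i => pow_mem htM i
    have hr₀R : r₀ ∈ Rb := sum_mem fun i _ => by
      have h := add_mem (hmove _ (hzp i) r) hr
      rwa [sub_add_cancel] at h
    have hdiff : ∀ u : Additive (QQ S), ∀ i : ℕ, w • (t ^ i • u - u) ∈ Rb := by
      intro u i
      have h3 : w * t ^ i = (t⁻¹) ^ i * w := by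
        have h4 : w * t ^ i * w⁻¹ = (t⁻¹) ^ i := by rw [← conj_pow, hw.conj_t]
        exact mul_inv_eq_iff_eq_mul.1 h4
      rw [smul_sub, ← mul_smul, h3, mul_smul]
      exact hmove _ (pow_mem (inv_mem htM) i) _
    have hn_mem : n • (w • r) ∈ Rb := by
      have e : n • (w • r) = w • r₀ - ∑ i ∈ Finset.range n, w • (t ^ i • r - r) := by
        rw [← Finset.smul_sum, ← smul_sub, Finset.sum_sub_distrib, ← hr₀, sub_sub_cancel, Finset.sum_const,
          Finset.card_range, ← DistribSMul.toAddMonoidHom_apply (A := Additive (QQ S)) w (n • r), map_nsmul,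
          DistribSMul.toAddMonoidHom_apply]
      rw [e]
      refine sub_mem ?_ (sum_mem fun i _ => hdiff r i)
      have h := sub_mem hr₀R (hfin r₀ hr₀F)
      rwa [sub_sub_cancel] at h
    obtain ⟨j, hj⟩ := hpp (w • r)
    rcases j with - | j
    · rw [pow_zero, one_smul] at hj
      rw [hj]
      exact zero_mem _
    obtain ⟨m, hm⟩ := Nat.exists_mul_mod_eq_one_of_coprime (Nat.Coprime.pow_right (j + 1) hk.cop)
      (Nat.one_lt_pow (Nat.succ_ne_zero j) hp.out.one_lt)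
    have h2 := nsmul_mem hn_mem m
    rw [smul_smul, ← Nat.mod_add_div (m * n) (p ^ (j + 1)), show m * n % p ^ (j + 1) = 1 by
      rw [mul_comm]; exact hm.2, add_smul, one_smul, mul_comm, mul_smul, hj, smul_zero, add_zero] at h2
    exact h2
  refine hw.not_mem ?_
  rw [← hwl]
  refine Subgroup.mem_map_of_mem _ (mem_normalizer_of_conjS (Subgroup.eq_of_le_of_card_ge ?_ (by rw [FFEmb.card_conjS])))
  rintro _ ⟨x, hx, rfl⟩
  have h1 := hwR _ (qv_mem_qimg (cx.RQ hx) hx)
  rw [← hwl, hb_smul_qv] at h1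
  exact mem_of_qimg hk0R h1

end Cfsg.Agent.T3
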