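/-
The second functor is normal unless `J(S)` leaves the core and the minimal centrally large subgroups are
abelian.
-/
import Cfsg.Agent.Lib.Transfer3.QTwo

set_option autoImplicit false
set_option linter.unusedSectionVars false
set_option linter.style.haveILetI false

namespace Cfsg.Agent.T3

open Cfsg Cfsg.Agent.FFEmb

universe u

variable {G : Type u} [Group G] [Finite G] {p : ℕ}

/-- `C(Z(J))` computed inside the group. -/
noncomputable def czMap (X : Subgroup G) : ↥(cz ↥X) ≃* ↥(s2 X) :=
  ((cz ↥X).equivMapOfInjective X.subtype X.subtype_injective).trans (MulEquiv.subgroupCongr (map_cz_sub X))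

theorem inducedFunctor_wF_pos {X : Subgroup G} (h : AbMcl ↥(s2 X)) : inducedFunctor (G := G) wF X = js X := by
  rw [inducedFunctor, wF, if_pos (abMcl_of_equiv (czMap X).symm h), map_thompson]

theorem inducedFunctor_wF_neg {X : Subgroup G} (h : ¬ AbMcl ↥(s2 X)) :
    inducedFunctor (G := G) wF X = (dMcl ↥(s2 X)).map (s2 X).subtype := by
  rw [inducedFunctor, wF, if_neg fun h' => h (abMcl_of_equiv (czMap X) h'), ← map_dMcl (czMap X),
    Subgroup.map_map, Subgroup.map_map]
  rfl

theorem map_dMcl_normal {N : Subgroup G} [N.Normal] : ((dMcl ↥N).map N.subtype).Normal := by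
  refine ⟨fun x hx g => ?_⟩
  obtain ⟨y, hy, rfl⟩ := hx
  have h1 : MulAut.conjNormal g y ∈ dMcl ↥N := by
    rw [← map_dMcl (MulAut.conjNormal (H := N) g)]
    exact ⟨y, hy, rfl⟩
  exact ⟨_, h1, MulAut.conjNormal_apply g y⟩

namespace Cex

variable [hp : Fact p.Prime] {S : Sylow p G} {R : Subgroup G} [Abel S] (cx : Cex p S R)
include cx

theorem zc_le_zj : zc S ≤ zj (S : Subgroup G) := fun _ hx => zj_mem hx.1 fun _ hA a ha => hx.2 a (hA.le ha)

theorem cz_le_M : Subgroup.centralizer (zj (S : Subgroup G) : Set G) ≤ Subgroup.normalizer (R : Set G) := by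
  refine (Subgroup.centralizer_le cx.zc_le_zj).trans ?_
  refine cx.up _ (Subgroup.le_centralizer_iff.1 inf_le_right) fun h => cx.zN ⟨fun x hx g => ?_⟩
  have hg : g ∈ Subgroup.centralizer (zc S : Set G) := h ▸ Subgroup.mem_top g
  rw [← hg x hx, mul_inv_cancel_right]
  exact hx

/-- `J(S)` leaves the core. -/
theorem not_js_le : ¬ js (S : Subgroup G) ≤ pCore p G := by
  intro hle
  haveI : (pCore p G).Normal := Cfsg.pCore_normal p G
  haveI hJn : (js (S : Subgroup G)).Normal := by
    refine Subgroup.normalizer_eq_top_iff.1 (eq_top_iff.2 fun g _ => ?_)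
    refine mem_normalizer_of_conjS (Subgroup.eq_of_le_of_card_ge ?_ (by rw [FFEmb.card_conjS]))
    rw [conjS_le_iff]
    refine sSup_le fun A hA => conjS_le_iff.1 (le_sSup ?_)
    have hAQ : A ≤ pCore p G := (le_sSup hA : A ≤ js (S : Subgroup G)).trans hle
    refine MA.of_card hA ?_ ?_ (by rw [FFEmb.card_conjS])
    · refine ((conjS_mono hAQ).trans (conjS_of_mem_normalizer ?_).le).trans cx.Q_le
      rw [Subgroup.normalizer_eq_top]; trivial
    · rintro _ ⟨a, ha, rfl⟩ _ ⟨b, hb', rfl⟩
      rw [← map_mul, ← map_mul, hA.cmt a ha b hb']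
  by_cases hab : AbMcl ↥(s2 (S : Subgroup G))
  · exact cx.wN (by rw [inducedFunctor_wF_pos hab]; exact hJn)
  haveI hzn : (zj (S : Subgroup G)).Normal := by unfold zj; infer_instance
  have hs2 : s2 (S : Subgroup G) = pCore p G ⊓ Subgroup.centralizer (zj (S : Subgroup G) : Set G) :=
    le_antisymm (le_inf (cx.inf_le_core inferInstance cx.cz_le_M) inf_le_right) (inf_le_inf_right _ cx.Q_le)
  haveI : (s2 (S : Subgroup G)).Normal := by rw [hs2]; infer_instance
  exact cx.wN (by rw [inducedFunctor_wF_neg hab]; exact map_dMcl_normal)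

/-- The minimal centrally large subgroups are abelian. -/
theorem abMcl (hp2 : p ≠ 2) : AbMcl ↥(s2 (S : Subgroup G)) := by
  by_contra hab
  have hJ := cx.not_js_le
  haveI : (pCore p G).Normal := Cfsg.pCore_normal p G
  haveI := vc_normal S
  set P := s2 (S : Subgroup G) with hP
  set Q2 := pCore p G ⊓ Subgroup.centralizer (zj (S : Subgroup G) : Set G) with hQ2def
  haveI hQ2n : Q2.Normal := cx.q2_normal hp2 hJ
  have hQ2P : Q2 ≤ P := le_inf (inf_le_left.trans cx.Q_le) inf_le_right
  have hVQ2 : vc S ≤ Q2 := le_inf cx.vc_le fun v hv y hy => (cx.zj_cmt_vc hp2 hy hv).symm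
  have hVP : vc S ≤ P := hVQ2.trans hQ2P
  set O : Subgroup P := Q2.subgroupOf P with hO
  set V : Subgroup P := (vc S).subgroupOf P with hV
  have hVO : V ≤ O := fun v hv => hVQ2 hv
  have hOV : O ≤ Subgroup.centralizer (V : Set P) := fun o ho v hv => Subtype.ext (cx.Q_le_cV ho.1 _ hv)
  have hbound : ∀ A : Subgroup P, Nat.card ↥A * Nat.card ↥(V ⊓ Subgroup.centralizer (A : Set P)) ≤
      Nat.card ↥(A ⊓ O) * Nat.card ↥V := by
    intro A
    set A' := A.map P.subtype with hA'
    have hA'P : A' ≤ P := Subgroup.map_subtype_le A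
    have himg : A'.map (hb S) ≤ DD p (Additive (vc S)) ((S : Subgroup G).map (hb S)) := by
      rintro _ ⟨x, hx, rfl⟩
      exact cx.s2_le hp2 (hA'P hx)
    have hbd := cx.sit.bound hp2 ((cx.sit.fam cx.gen hp2).pg.to_le himg)
      ((cx.sit.fam cx.gen hp2).cmt_sSup.mono himg himg)
    rw [meas, card_fx_map] at hbd
    have hcA := cx.card_map_sylow (hA'P.trans inf_le_left)
    rw [← Subgroup.card_map_of_injective P.subtype_injective, ← hA',
      ← Subgroup.card_map_of_injective (K := V ⊓ Subgroup.centralizer (A : Set P)) P.subtype_injective,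
      ← Subgroup.card_map_of_injective (K := A ⊓ O) P.subtype_injective,
      ← Subgroup.card_map_of_injective (K := V) P.subtype_injective,
      Subgroup.map_inf _ _ _ P.subtype_injective, map_centralizer_sub, Subgroup.map_inf _ _ _ P.subtype_injective,
      ← hA', hV, hO, Subgroup.map_subgroupOf_eq_of_le hVP, Subgroup.map_subgroupOf_eq_of_le hQ2P, ← inf_assoc,
      inf_of_le_left hVP, hcA, mul_assoc]
    refine Nat.mul_le_mul ?_ hbd
    exact Subgroup.card_le_of_le (le_inf inf_le_left (le_inf inf_le_right (inf_le_left.trans (hA'P.trans inf_le_right))))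
  obtain ⟨X₀, hX₀⟩ := CLarge.exists_mcl (P := ↥P)
  obtain ⟨hR1, -, -, -⟩ := PushUp.push hVO hOV hbound hX₀
  set R1 := X₀ ⊓ O ⊔ V with hR1def
  have hR1O : R1 ≤ O := sup_le inf_le_right hVO
  set R1' := R1.map P.subtype with hR1'
  have hR1Q : R1' ≤ Q2 := by
    rw [← Subgroup.map_subgroupOf_eq_of_le hQ2P]; exact Subgroup.map_mono hR1O
  -- centralisers of subgroups of the core containing `V`
  have hcent : ∀ Y : Subgroup P, V ≤ Y → (Subgroup.centralizer (Y : Set P)).map P.subtype =
      Q2 ⊓ Subgroup.centralizer (Y.map P.subtype : Set G) := by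
    intro Y hVY
    rw [map_centralizer_sub]
    refine le_antisymm (le_inf (fun x hx => ⟨cx.mem_core hx.1.1 fun v hv => ?_, hx.1.2⟩) inf_le_right)
      (inf_le_inf_right _ hQ2P)
    exact hx.2 v ⟨⟨v, hVP hv⟩, hVY hv, rfl⟩
  refine cx.wN ?_
  rw [inducedFunctor_wF_neg hab]
  refine ⟨fun x hx g => ?_⟩
  set R2 := (R1'.map (MulAut.conj g).toMonoidHom).subgroupOf P with hR2
  have hQ2g : Q2.map (MulAut.conj g).toMonoidHom = Q2 :=
    conjS_of_mem_normalizer (by rw [Subgroup.normalizer_eq_top]; trivial)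
  have hVg : (vc S).map (MulAut.conj g).toMonoidHom = vc S :=
    conjS_of_mem_normalizer (by rw [Subgroup.normalizer_eq_top]; trivial)
  have hR2Q : R1'.map (MulAut.conj g).toMonoidHom ≤ Q2 := (Subgroup.map_mono hR1Q).trans hQ2g.le
  have hR2map : R2.map P.subtype = R1'.map (MulAut.conj g).toMonoidHom :=
    Subgroup.map_subgroupOf_eq_of_le (hR2Q.trans hQ2P)
  have hVR2 : V ≤ R2 := fun v hv => by
    have h1 : (v : G) ∈ (vc S).map (MulAut.conj g).toMonoidHom := hVg.ge hv
    refine Subgroup.map_mono ?_ h1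
    rw [← Subgroup.map_subgroupOf_eq_of_le hVP]
    exact Subgroup.map_mono le_sup_right
  have hc2 : (Subgroup.centralizer (R2 : Set P)).map P.subtype =
      ((Subgroup.centralizer (R1 : Set P)).map P.subtype).map (MulAut.conj g).toMonoidHom := by
    rw [hcent R2 hVR2, hcent R1 le_sup_right, Subgroup.map_inf _ _ _ (MulAut.conj g).injective, hQ2g, hR2map,
      map_centralizer_equiv]
  have hcard1 : Nat.card R2 = Nat.card R1 := by
    rw [← Subgroup.card_map_of_injective P.subtype_injective, hR2map,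
      Subgroup.card_map_of_injective (MulAut.conj g).injective, hR1',
      Subgroup.card_map_of_injective P.subtype_injective]
  have hcard2 : Nat.card (Subgroup.centralizer (R2 : Set P)) = Nat.card (Subgroup.centralizer (R1 : Set P)) := by
    rw [← Subgroup.card_map_of_injective P.subtype_injective, hc2,
      Subgroup.card_map_of_injective (MulAut.conj g).injective,
      Subgroup.card_map_of_injective P.subtype_injective]
  have hl1 := CLarge.cl_large hR1.1
  have hR2cl : IsCentrallyLarge R2 := by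
    refine CLarge.cl_iff.2 ⟨?_, ?_⟩
    · unfold IsCentralizerLarge
      rw [hcard1, hcard2]
      exact hl1
    · rw [← Subgroup.map_le_map_iff_of_injective (f := P.subtype) P.subtype_injective, hc2, hR2map, hR1']
      exact Subgroup.map_mono (Subgroup.map_mono (CLarge.cl_le hR1.1))
  obtain ⟨Y, hYR, hY⟩ := CLarge.exists_mcl_le hR2cl
  have hYeq : Y = R2 := Subgroup.eq_of_le_of_card_ge hYR (by rw [hcard1]; exact (CLarge.mcl_cards hR1 hY).1.le)
  rw [hYeq] at hY
  have e1 : (dMcl ↥P).map P.subtype = ⁅R1', R1'⁆ := by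
    rw [dMcl_eq hR1, Subgroup.map_commutator]
  have e2 : (dMcl ↥P).map P.subtype =
      ⁅R1'.map (MulAut.conj g).toMonoidHom, R1'.map (MulAut.conj g).toMonoidHom⁆ := by
    rw [dMcl_eq hY, Subgroup.map_commutator, hR2map]
  rw [e2, ← Subgroup.map_commutator]
  rw [e1] at hx
  exact ⟨x, hx, rfl⟩

end Cex

end Cfsg.Agent.T3
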