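/-
For `p = 3` the centre and the second functor control transfer in every finite group.
-/
import Cfsg.Agent.Lib.Transfer3.Core
import Cfsg.Agent.Lib.Transfer3.Side
import Cfsg.Agent.Lib.Functors.MinTransfer

set_option autoImplicit false
set_option linter.unusedSectionVars false
set_option linter.style.haveILetI false

namespace Cfsg.Agent.T3

open Cfsg Cfsg.Agent.Functors

universe u

/-- The pair of functors. -/
def famZW : Set (∀ (Q : Type u) [Group Q], Subgroup Q) := {zF, wF}

theorem famZW_char {p : ℕ} [Fact p.Prime] : ∀ W ∈ famZW.{u}, IsCharPFunctor.{u} p W := by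
  intro W hW
  rcases hW with rfl | rfl
  exacts [isCharPFunctor_zF, isCharPFunctor_wF]

theorem inducedFunctor_zF {G : Type u} [Group G] {p : ℕ} (S : Sylow p G) :
    inducedFunctor (G := G) zF (S : Subgroup G) = zc S := by
  rw [inducedFunctor, zF, ← Subgroup.centralizer_univ, ← Subgroup.coe_top, map_centralizer_sub,
    ← MonoidHom.range_eq_map, Subgroup.range_subtype, zc]

/-- Transfer is controlled by the centre and the second functor. -/
theorem ctlTR_three [Fact (Nat.Prime 3)] (G : Type u) [Group G] [Finite G] : CtlTR 3 famZW.{u} G := by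
  suffices key : ∀ (n : ℕ) (X : Type u) [Group X] [Finite X], Nat.card X = n → CtlTR 3 famZW.{u} X from
    key _ G rfl
  intro n
  induction n using Nat.strong_induction_on with
  | _ n ih =>
    intro X _ _ hn
    by_contra hX
    have hne : famZW.{u}.Nonempty := ⟨_, Or.inl rfl⟩
    obtain ⟨S⟩ : Nonempty (Sylow 3 X) := inferInstance
    obtain ⟨hC, ⟨hMne, hup⟩, ⟨h1, h2⟩, -⟩ := counterexample_structure famZW_char hne S
      (fun Y _ _ _ hlt => ih _ (hn ▸ hlt) Y rfl) hX rfl rfl
    have hnormal : ∀ W ∈ famZW.{u}, ¬ (inducedFunctor (G := X) W (S : Subgroup X)).Normal := by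
      intro W hW hn'
      haveI := hn'
      refine hX ((familyTR_iff _ ⊤).2 ⟨(S : Subgroup X), isSylowIn_sylow S,
        le_antisymm ?_ (transferPart_le _ _ _)⟩)
      refine le_iSup₂_of_le (inducedFunctor (G := X) W) ⟨W, hW, rfl⟩ ?_
      rw [Subgroup.normalizer_eq_top, inf_idem]
    have cx : Cex 3 S (transferPart (indSet X famZW.{u}) ⊤ (S : Subgroup X) ⊓ pCore 3 X) :=
      { constr := hC
        Mne := hMne
        up := hup
        RQ := inf_le_right
        comm := h1.trans (h2.trans (le_of_eq (inf_comm _ _)))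
        zN := by rw [← inducedFunctor_zF]; exact hnormal _ (Or.inl rfl)
        wN := hnormal _ (Or.inr rfl) }
    haveI := cx.abel
    haveI : CoreCent S := ⟨cx.Q_le_cV⟩
    exact cx.core_false rfl (cx.abMcl (by decide)) cx.not_js_le

end Cfsg.Agent.T3
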