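/-
For `p = 3`, the focal subgroup lies in the join of the derived subgroups of the centralizer of the
centre and of the normalizer of the second functor.
-/
import Cfsg.Agent.Lib.Transfer3.Main

set_option autoImplicit false
set_option linter.unusedSectionVars false
set_option linter.style.haveILetI false

namespace Cfsg.Agent.T3

open Cfsg Cfsg.Agent.Functors
open scoped commutatorElement

universe u

variable {G : Type u} [Group G]

/-- The part of `T` in the derived subgroup of `C(Z(T))`. -/
def cPart (T : Subgroup G) : Subgroup G :=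
  T ⊓ ⁅Subgroup.centralizer ((T ⊓ Subgroup.centralizer (T : Set G) : Subgroup G) : Set G),
    Subgroup.centralizer ((T ⊓ Subgroup.centralizer (T : Set G) : Subgroup G) : Set G)⁆

/-- The part of `T` in the derived subgroup of the normalizer of the second functor. -/
def wPart (T : Subgroup G) : Subgroup G :=
  T ⊓ ⁅Subgroup.normalizer ((inducedFunctor wF T : Subgroup G) : Set G),
    Subgroup.normalizer ((inducedFunctor wF T : Subgroup G) : Set G)⁆

theorem le_centralizer_inf_centralizer (T : Subgroup G) :
    T ≤ Subgroup.centralizer ((T ⊓ Subgroup.centralizer (T : Set G) : Subgroup G) : Set G) :=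
  fun t ht => Subgroup.mem_centralizer_iff.2 fun _ hz =>
    (Subgroup.mem_centralizer_iff.1 hz.2 t ht).symm

theorem normalizer_le_normalizer_wF [Finite G] (S : Sylow 3 G) :
    Subgroup.normalizer ((S : Subgroup G) : Set G) ≤
      Subgroup.normalizer ((inducedFunctor wF (S : Subgroup G) : Subgroup G) : Set G) := by
  haveI : Fact (Nat.Prime 3) := ⟨Nat.prime_three⟩
  intro g hg
  rw [Subgroup.mem_normalizer_iff_map_conj_eq] at hg ⊢
  exact ((inducedFunctor_map_of_injective (isCharPFunctor_wF (p := 3)) S.isPGroup'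
    (f := ((MulAut.conj g : MulAut G) : G →* G)) (MulAut.conj g).injective).symm).trans (by rw [hg])

/-- If `Z(T)` is normal, the focal subgroup splits. -/
theorem focal_of_normal [Finite G] (S : Sylow 3 G)
    (hN : Subgroup.normalizer ((zc S : Subgroup G) : Set G) = ⊤) :
    (S : Subgroup G) ⊓ ⁅(⊤ : Subgroup G), ⊤⁆ ≤ cPart (S : Subgroup G) ⊔ wPart (S : Subgroup G) := by
  haveI : Fact (Nat.Prime 3) := ⟨Nat.prime_three⟩
  haveI : (zc S).Normal := Subgroup.normalizer_eq_top_iff.1 hN
  rw [← commutator_def, inf_comm, Subgroup.commutator_inf_eq_focalSubgroup, Subgroup.focalSubgroup_def,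
    Subgroup.closure_le]
  rintro g ⟨hgS, x, hx, u, rfl⟩
  have hSC : (S : Subgroup G) ≤ Subgroup.centralizer (zc S : Set G) :=
    le_centralizer_inf_centralizer _
  have htop := Sylow.normalizer_sup_eq_top' S hSC
  have hu : u ∈ ((Subgroup.centralizer (zc S : Set G) ⊔
      Subgroup.normalizer ((S : Subgroup G) : Set G) : Subgroup G) : Set G) := by
    rw [sup_comm]
    exact htop.ge (Subgroup.mem_top u)
  rw [Subgroup.normal_mul] at hu
  obtain ⟨c, hc, n, hn, rfl⟩ := hu
  simp only [SetLike.mem_coe] at hc hn hgS ⊢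
  have hy : n * x⁻¹ * n⁻¹ ∈ (S : Subgroup G) :=
    (Subgroup.mem_normalizer_iff.1 hn x⁻¹).1 (inv_mem hx)
  have h1 : ⁅x, n⁆ ∈ (S : Subgroup G) := by
    rw [commutatorElement_def, show x * n * x⁻¹ * n⁻¹ = x * (n * x⁻¹ * n⁻¹) by group]
    exact mul_mem hx hy
  have heq : ⁅x, c * n⁆ = ⁅x, n⁆ * ⁅(n * x⁻¹ * n⁻¹)⁻¹, c⁆ := by
    simp only [commutatorElement_def]
    group
  have h2 : ⁅(n * x⁻¹ * n⁻¹)⁻¹, c⁆ ∈ (S : Subgroup G) := by
    have := mul_mem (inv_mem h1) hgS
    rwa [heq, inv_mul_cancel_left] at this
  rw [heq]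
  refine mul_mem (Subgroup.mem_sup_right ⟨h1, ?_⟩) (Subgroup.mem_sup_left ⟨h2, ?_⟩)
  · exact Subgroup.commutator_mem_commutator
      (normalizer_le_normalizer_wF S (Subgroup.le_normalizer hx)) (normalizer_le_normalizer_wF S hn)
  · exact Subgroup.commutator_mem_commutator (hSC (inv_mem hy)) hc

/-- The two parts generate `T ∩ G'`. -/
theorem focal_le [Finite G] (S : Sylow 3 G) :
    (S : Subgroup G) ⊓ ⁅(⊤ : Subgroup G), ⊤⁆ ≤ cPart (S : Subgroup G) ⊔ wPart (S : Subgroup G) := by
  haveI : Fact (Nat.Prime 3) := ⟨Nat.prime_three⟩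
  suffices key : ∀ (n : ℕ) (X : Type u) [Group X] [Finite X] (S : Sylow 3 X), Nat.card X = n →
      (S : Subgroup X) ⊓ ⁅(⊤ : Subgroup X), ⊤⁆ ≤ cPart (S : Subgroup X) ⊔ wPart (S : Subgroup X) from
    key _ G S rfl
  intro n
  induction n using Nat.strong_induction_on with
  | _ n ih =>
    intro X _ _ S hn
    set N := Subgroup.normalizer ((zc S : Subgroup X) : Set X) with hNdef
    by_cases hN : N = ⊤
    · exact focal_of_normal S hN
    have hlt : Nat.card N < n := by
      refine hn ▸ lt_of_le_of_ne (Subgroup.card_le_card_group N) fun h => hN ?_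
      exact Subgroup.eq_top_of_card_eq N h
    have hSN : (S : Subgroup X) ≤ N := by
      intro t ht
      rw [hNdef, Subgroup.mem_normalizer_iff]
      intro z
      have ht' := le_centralizer_inf_centralizer (S : Subgroup X) ht
      constructor
      · intro hz
        rwa [show t * z * t⁻¹ = z by rw [← Subgroup.mem_centralizer_iff.1 ht' z hz, mul_inv_cancel_right]]
      · intro hz
        have h2 := Subgroup.mem_centralizer_iff.1 ht' _ hz
        rw [show t * z * t⁻¹ * t = t * z by group] at h2
        rw [mul_left_cancel h2]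
        exact hz
    have hrec := ih _ hlt N (S.subtype hSN) rfl
    have hmap : ((S.subtype hSN : Sylow 3 N) : Subgroup N).map N.subtype = (S : Subgroup X) := by
      rw [Sylow.coe_subtype, Subgroup.map_subgroupOf_eq_of_le hSN]
    set T : Subgroup N := ((S.subtype hSN : Sylow 3 N) : Subgroup N) with hT
    have hc : (cPart T).map N.subtype ≤ cPart (S : Subgroup X) := by
      rw [cPart, cPart, Subgroup.map_inf _ _ _ N.subtype_injective, hmap]
      refine inf_le_inf_left _ ?_
      rw [Subgroup.map_commutator]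
      have hle : (Subgroup.centralizer ((T ⊓ Subgroup.centralizer (T : Set N) : Subgroup N) : Set N)).map
          N.subtype ≤ Subgroup.centralizer
            (((S : Subgroup X) ⊓ Subgroup.centralizer ((S : Subgroup X) : Set X) : Subgroup X) : Set X) := by
        rintro _ ⟨y, hy, rfl⟩
        refine Subgroup.mem_centralizer_iff.2 fun z hz => ?_
        have hz1 : z ∈ T.map N.subtype := by
          rw [hmap]
          exact hz.1
        obtain ⟨z', hz', rfl⟩ := hz1
        have hz2 : z' ∈ T ⊓ Subgroup.centralizer (T : Set N) :=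
          ⟨hz', Subgroup.mem_centralizer_iff.2 fun t ht => Subtype.ext
            (Subgroup.mem_centralizer_iff.1 hz.2 (t : X) (hmap ▸ ⟨t, ht, rfl⟩ : (t : X) ∈ (S : Subgroup X)))⟩
        exact congrArg Subtype.val (Subgroup.mem_centralizer_iff.1 hy z' hz2)
      exact Subgroup.commutator_mono hle hle
    have hw : (wPart T).map N.subtype ≤ wPart (S : Subgroup X) := by
      rw [wPart, wPart, Subgroup.map_inf _ _ _ N.subtype_injective, hmap]
      refine inf_le_inf_left _ ?_
      rw [Subgroup.map_commutator]
      have hle : (Subgroup.normalizer ((inducedFunctor wF T : Subgroup N) : Set N)).map N.subtype ≤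
          Subgroup.normalizer ((inducedFunctor wF (S : Subgroup X) : Subgroup X) : Set X) := by
        rw [← hmap, inducedFunctor_map_of_injective (isCharPFunctor_wF (p := 3))
          (S.subtype hSN).isPGroup' N.subtype_injective]
        exact Subgroup.le_normalizer_map _
      exact Subgroup.commutator_mono hle hle
    rw [tr_top_of_ctl famZW_char S (ctlTR_three X)]
    refine iSup₂_le fun W hW => ?_
    obtain ⟨W', hW', rfl⟩ := hW
    rw [top_inf_eq]
    dsimp only
    rcases hW' with rfl | rfl
    · rw [inducedFunctor_zF, ← hNdef]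
      have h := Subgroup.map_mono (f := N.subtype) hrec
      rw [Subgroup.map_sup, Subgroup.map_inf _ _ _ N.subtype_injective, hmap, Subgroup.map_commutator,
        ← MonoidHom.range_eq_map, Subgroup.range_subtype] at h
      exact h.trans (sup_le_sup hc hw)
    · exact le_sup_right

theorem normalizer_cPart (T : Subgroup G) : T ≤ Subgroup.normalizer ((cPart T : Subgroup G) : Set G) := by
  have key : ∀ t ∈ T, ∀ z ∈ cPart T, t * z * t⁻¹ ∈ cPart T := by
    intro t ht z hz
    refine ⟨T.mul_mem (T.mul_mem ht hz.1) (T.inv_mem ht), ?_⟩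
    have hC := le_centralizer_inf_centralizer T ht
    have := Subgroup.mem_normalizer_iff.1 (show t ∈ Subgroup.normalizer
      ((⁅Subgroup.centralizer ((T ⊓ Subgroup.centralizer (T : Set G) : Subgroup G) : Set G),
        Subgroup.centralizer ((T ⊓ Subgroup.centralizer (T : Set G) : Subgroup G) : Set G)⁆ : Subgroup G) : Set G)
      from Subgroup.normalizer_commutator_ge_left _ _ hC) z
    exact this.1 hz.2
  intro t ht
  rw [Subgroup.mem_normalizer_iff]
  refine fun z => ⟨key t ht z, fun hz => ?_⟩
  have := key t⁻¹ (inv_mem ht) _ hz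
  simpa [mul_assoc] using this

/-- The two parts multiply to `T ∩ G'`. -/
theorem mem_focal_iff [Finite G] (S : Sylow 3 G) (g : G) :
    g ∈ (S : Subgroup G) ⊓ commutator G ↔
      ∃ a ∈ cPart (S : Subgroup G), ∃ b ∈ wPart (S : Subgroup G), g = a * b := by
  constructor
  · intro hg
    rw [commutator_def] at hg
    have h : g ∈ ((cPart (S : Subgroup G) ⊔ wPart (S : Subgroup G) : Subgroup G) : Set G) := focal_le S hg
    rw [Subgroup.coe_mul_of_right_le_normalizer_left (cPart (S : Subgroup G)) (wPart (S : Subgroup G))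
      ((show wPart (S : Subgroup G) ≤ (S : Subgroup G) from inf_le_left).trans (normalizer_cPart _))] at h
    obtain ⟨a, ha, b, hb, rfl⟩ := h
    exact ⟨a, ha, b, hb, rfl⟩
  · rintro ⟨a, ⟨ha1, ha2⟩, b, ⟨hb1, hb2⟩, rfl⟩
    refine ⟨mul_mem ha1 hb1, ?_⟩
    rw [commutator_def]
    exact mul_mem (Subgroup.commutator_mono le_top le_top ha2) (Subgroup.commutator_mono le_top le_top hb2)

end Cfsg.Agent.T3
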